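import Cfsg.Agent.Mrg.Omega.NOne.LemmaT
import Cfsg.Agent.Mrg.Omega.NO1.Types
import Cfsg.Agent.Mrg.Omega.NO1.Nat.Space
import Cfsg.Agent.Mrg.Omega.Node.NO1
import Cfsg.Agent.Mrg.Omega.NOne.DZero
import Cfsg.Agent.LargeExtra.Nine.ToCent
import Cfsg.Agent.GH.C2Extra
import Cfsg.Agent.Mrg.Omega.NOne.AG.Tools
import Cfsg.Agent.ZN.Facts

-- merged: Cfsg.Agent.Mrg.Omega.NOne.AG.Point
section

/-!
# THEOREM D0ag (bb #15001): from one point to all points

`Pt`: the configuration `Conf` at one point `z`.  `tr P z A i`: the conjugate `A^m` of `A` at the point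
`i = z^m`, `m ∈ P`.  `Pt.conf`: `Pt` at `z` gives `Conf` for the set of all points `z^m`, `m ∈ P`.
-/

set_option autoImplicit false

namespace Cfsg.Agent.Omega.NOne.AG

open Subgroup Cfsg Cfsg.Agent.ZN

universe u

variable {G : Type u} [Group G]

/-- The points: the conjugates of `z` under `P`. -/
abbrev Pts (P : Subgroup G) (z : G) : Type u := {x : G // ∃ m ∈ P, m * z * m⁻¹ = x}

/-- The point `z`. -/
def Pts.base (P : Subgroup G) (z : G) : Pts P z := ⟨z, 1, one_mem _, by group⟩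

@[simp] theorem Pts.base_val (P : Subgroup G) (z : G) : (Pts.base P z).val = z := rfl

/-- The conjugate of `A` at the point `i`. -/
noncomputable def tr (P : Subgroup G) (z : G) (A : Subgroup G) (i : Pts P z) : Subgroup G :=
  A.map (MulAut.conj i.2.choose).toMonoidHom

/-- `A` is normalised by `P ∩ C(z)`. -/
def Nz (P : Subgroup G) (z : G) (A : Subgroup G) : Prop :=
  ∀ m ∈ P, m * z = z * m → ∀ a ∈ A, m * a * m⁻¹ ∈ A

section tr

variable {P A : Subgroup G} {z : G}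

theorem mem_tr {A : Subgroup G} (hA : Nz P z A) {m : G} (hm : m ∈ P) {i : Pts P z}
    (hi : m * z * m⁻¹ = i.val) {y : G} : y ∈ tr P z A i ↔ m⁻¹ * y * m ∈ A := by
  have hn := i.2.choose_spec
  set n := i.2.choose with hndef
  obtain ⟨hnP, hni⟩ := hn
  have key : ∀ a b : G, a ∈ P → b ∈ P → a * z * a⁻¹ = b * z * b⁻¹ → ∀ y, a⁻¹ * y * a ∈ A →
      b⁻¹ * y * b ∈ A := by
    intro a b ha hb hab y hy
    have hc : (b⁻¹ * a) * z = z * (b⁻¹ * a) := by
      calc (b⁻¹ * a) * z = b⁻¹ * (a * z * a⁻¹) * a := by group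
        _ = b⁻¹ * (b * z * b⁻¹) * a := by rw [hab]
        _ = z * (b⁻¹ * a) := by group
    have h1 := hA _ (mul_mem (inv_mem hb) ha) hc _ hy
    have e : b⁻¹ * a * (a⁻¹ * y * a) * (b⁻¹ * a)⁻¹ = b⁻¹ * y * b := by group
    rwa [e] at h1
  have h0 : y ∈ tr P z A i ↔ n⁻¹ * y * n ∈ A := by
    rw [tr, ← hndef]
    constructor
    · rintro ⟨x, hx, rfl⟩
      have e : n⁻¹ * ((MulAut.conj n).toMonoidHom x) * n = x := by
        change n⁻¹ * (n * x * n⁻¹) * n = x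
        group
      rwa [e]
    · intro h
      refine ⟨_, h, ?_⟩
      change n * (n⁻¹ * y * n) * n⁻¹ = y
      group
  rw [h0]
  exact ⟨key n m hnP hm (hni.trans hi.symm) y, key m n hm hnP (hi.trans hni.symm) y⟩

theorem conj_mem_tr {A : Subgroup G} (hA : Nz P z A) {m : G} (hm : m ∈ P) {i : Pts P z}
    (hi : m * z * m⁻¹ = i.val) {a : G} : m * a * m⁻¹ ∈ tr P z A i ↔ a ∈ A := by
  rw [mem_tr hA hm hi]
  have e : m⁻¹ * (m * a * m⁻¹) * m = a := by group
  rw [e]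

theorem tr_eq {A : Subgroup G} (hA : Nz P z A) {m : G} (hm : m ∈ P) {i : Pts P z}
    (hi : m * z * m⁻¹ = i.val) : tr P z A i = A.map (MulAut.conj m).toMonoidHom := by
  ext y
  rw [mem_tr hA hm hi]
  constructor
  · intro h
    refine ⟨_, h, ?_⟩
    change m * (m⁻¹ * y * m) * m⁻¹ = y
    group
  · rintro ⟨x, hx, rfl⟩
    have e : m⁻¹ * ((MulAut.conj m).toMonoidHom x) * m = x := by
      change m⁻¹ * (m * x * m⁻¹) * m = x
      group
    rwa [e]

/-- `tr A z = A`. -/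
theorem tr_base {A : Subgroup G} (hA : Nz P z A) : tr P z A (Pts.base P z) = A := by
  ext y
  rw [mem_tr hA (one_mem P) (i := Pts.base P z) (by simp)]
  simp

theorem tr_conj {A : Subgroup G} (hA : Nz P z A) {m : G} (hm : m ∈ P) {i j : Pts P z}
    (hij : m * i.val * m⁻¹ = j.val) {x : G} (hx : x ∈ tr P z A i) : m * x * m⁻¹ ∈ tr P z A j := by
  obtain ⟨n, hn, hi⟩ := i.2
  have hj : (m * n) * z * (m * n)⁻¹ = j.val := by
    rw [← hij, ← hi]; group
  rw [mem_tr hA (mul_mem hm hn) hj]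
  have e : (m * n)⁻¹ * (m * x * m⁻¹) * (m * n) = n⁻¹ * x * n := by group
  rw [e]
  exact (mem_tr hA hn hi).1 hx

end tr

/-- The configuration at one point `z` (see `Conf`). -/
structure Pt (P V T : Subgroup G) (z : G) (C Q QF Qs : Subgroup G) : Prop where
  -- the point
  ne_one : z ≠ 1
  sq : z * z = 1
  zV : z ∈ V
  zQ : z ∈ Q
  -- `P`, `V`, `T`
  Vab : ∀ v ∈ V, ∀ w ∈ V, v * w = w * v
  Vsq : ∀ v ∈ V, v * v = 1
  cardV : Nat.card V = 16
  VT : V ≤ T
  TP : T ≤ P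
  TV : ∀ t ∈ T, ∀ v ∈ V, t * v = v * t
  nT : P ≤ normalizer (T : Set G)
  nV : P ≤ normalizer (V : Set G)
  pT : IsPGroup 2 T
  -- the local subgroups
  Cz : ∀ c ∈ C, c * z = z * c
  PC : ∀ m ∈ P, m * z = z * m → m ∈ C
  /-- `C_1 = L_1 (P ∩ C)` -/
  gen : C ≤ closure ({m | m ∈ P ∧ m * z = z * m} ∪ {x | ∃ c ∈ C, ∃ v ∈ V, x = c * v * c⁻¹})
  Qo2 : Q = o2 C
  char2 : ∀ c ∈ C, (∀ x ∈ Q, c * x = x * c) → c ∈ Q
  QP : Q ≤ P
  nQF : C ≤ normalizer (QF : Set G)
  nQs : C ≤ normalizer (Qs : Set G)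
  QFQ : QF ≤ Q
  QsQF : Qs ≤ QF
  /-- `[Qs, QF] ≤ ⟨z⟩` -/
  com : ∀ x ∈ Qs, ∀ y ∈ QF, x * y = y * x ∨ x * y = z * (y * x)
  QsGen : Qs ≤ closure {y | ∃ c ∈ C, ∃ e ∈ V, e ∈ Q ∧ y = c * e * c⁻¹}
  -- `V` and the local subgroups
  VQs : ∀ v ∈ V, v ∈ Q → v ∈ Qs
  VQ2 : ∀ v ∈ V, ∀ w ∈ V, v ∉ Q → w ∉ Q → v * w ∈ Q
  VQc : ∀ x ∈ Q, ∀ v ∈ V, x * v * x⁻¹ * v⁻¹ ∈ Q
  cT : ∀ x ∈ Q, (∀ v ∈ V, x * v = v * x) → x ∈ T
  /-- no nontrivial element of `P/C_P(V)` centralises `E` -/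
  faith : ∀ x ∈ P, (∀ v ∈ V, v ∈ Q → x * v = v * x) → ∀ v ∈ V, x * v = v * x
  fixE : ∀ e ∈ V, (∀ x ∈ Qs, x * e = e * x) → e = 1 ∨ e = z
  QFT : ∀ x ∈ QF, ∃ t ∈ T, ∃ y ∈ Qs, x = t * y
  /-- `QF = C_Q(E / z)`, `|Q : QF| ≤ 2` -/
  QQF : ∀ x ∈ Q, (∀ v ∈ V, v ∈ Q → x * v = v * x ∨ x * v = z * (v * x)) → x ∈ QF
  QF2 : ∀ x ∈ Q, ∀ y ∈ Q, x ∉ QF → y ∉ QF → x * y ∈ QF
  /-- `v ∈ V - E`: `C_X(v) = E^⊥` -/
  kv : ∀ x ∈ Qs, ∀ v ∈ V, v ∉ Q → (x * v = v * x ∨ x * v = z * (v * x)) → x ∈ T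
  /-- `v ∈ V - E`: `[Qs, v] ⟨z⟩ = E` -/
  ev : ∀ e ∈ V, e ∈ Q → ∀ v ∈ V, v ∉ Q →
    ∃ x ∈ Qs, x * v * x⁻¹ * v⁻¹ = e ∨ x * v * x⁻¹ * v⁻¹ = z * e
  -- global
  /-- being perpendicular is symmetric -/
  symm : ∀ m ∈ P, m * z * m⁻¹ ∉ Q → m⁻¹ * z * m ∉ Q
  /-- `⟨Qs, Qs^m⟩` is transitive on the points -/
  trans : ∀ m ∈ P, m * z * m⁻¹ ∉ Q → ∀ n ∈ P,
    ∃ x ∈ Qs ⊔ Qs.map (MulAut.conj m).toMonoidHom, x * z * x⁻¹ = n * z * n⁻¹
  /-- three pairwise opposite points `z, z^m, z^n` -/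
  tri : ∃ m ∈ P, ∃ n ∈ P, m * z * m⁻¹ ∉ Q ∧ n * z * n⁻¹ ∉ Q ∧ (m⁻¹ * n) * z * (m⁻¹ * n)⁻¹ ∉ Q
  /-- `Ω₁ Z(S) = ⟨z⟩` -/
  min : ∀ N : Subgroup G, N ≤ T →
    (∀ m ∈ P, m * z = z * m → ∀ x ∈ N, m * x * m⁻¹ ∈ N) → N ≠ ⊥ → z ∈ N

namespace Pt

variable {P V T : Subgroup G} {z : G} {C Q QF Qs : Subgroup G}

section

variable (h : Pt P V T z C Q QF Qs)
include h

theorem nzC : Nz P z C := fun m hm hz _ ha =>
  mul_mem (mul_mem (h.PC m hm hz) ha) (inv_mem (h.PC m hm hz))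

theorem nzQF : Nz P z QF := fun m hm hz a ha =>
  (mem_normalizer_iff.1 (h.nQF (h.PC m hm hz)) a).1 ha

theorem nzQs : Nz P z Qs := fun m hm hz a ha =>
  (mem_normalizer_iff.1 (h.nQs (h.PC m hm hz)) a).1 ha

theorem nQ : C ≤ normalizer (Q : Set G) := by
  rw [h.Qo2]
  exact le_normalizer_o2 C

theorem nzQ : Nz P z Q := fun m hm hz a ha =>
  (mem_normalizer_iff.1 (h.nQ (h.PC m hm hz)) a).1 ha

theorem QC : Q ≤ C := by
  rw [h.Qo2]
  exact o2_le C

theorem conjV {m v : G} (hm : m ∈ P) : m * v * m⁻¹ ∈ V ↔ v ∈ V :=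
  (mem_normalizer_iff.1 (h.nV hm) v).symm

theorem conjT {m v : G} (hm : m ∈ P) : m * v * m⁻¹ ∈ T ↔ v ∈ T :=
  (mem_normalizer_iff.1 (h.nT hm) v).symm

omit h in
theorem conjP {m v : G} (hm : m ∈ P) : m * v * m⁻¹ ∈ P ↔ v ∈ P := by
  constructor
  · intro hv
    have := mul_mem (mul_mem (inv_mem hm) hv) hm
    have e : m⁻¹ * (m * v * m⁻¹) * m = v := by group
    rwa [e] at this
  · intro hv
    exact mul_mem (mul_mem hm hv) (inv_mem hm)

end

/-- Opposite points. -/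
def opp (_h : Pt P V T z C Q QF Qs) (i j : Pts P z) : Prop := j.val ∉ tr P z Q i

theorem conf (h : Pt P V T z C Q QF Qs) :
    Conf P V T (fun i : Pts P z => i.val) h.opp (tr P z C) (tr P z Q) (tr P z QF) (tr P z Qs) where
  ne_one := by
    rintro ⟨x, m, hm, rfl⟩ e
    exact h.ne_one (conj_eq_one_iff.1 e)
  sq := by
    rintro ⟨x, m, hm, rfl⟩
    change m * z * m⁻¹ * (m * z * m⁻¹) = 1
    have e : m * z * m⁻¹ * (m * z * m⁻¹) = m * (z * z) * m⁻¹ := by group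
    rw [e, h.sq]; group
  zV := by
    rintro ⟨x, m, hm, rfl⟩
    exact (h.conjV hm).2 h.zV
  irr := by
    intro i hi
    obtain ⟨m, hm, e⟩ := i.2
    apply hi
    rw [← e]
    exact (conj_mem_tr h.nzQ hm e).2 h.zQ
  symm := by
    intro i j hij
    obtain ⟨m, hm, ei⟩ := i.2
    obtain ⟨n, hn, ej⟩ := j.2
    have h1 : (m⁻¹ * n) * z * (m⁻¹ * n)⁻¹ ∉ Q := by
      intro h2
      apply hij
      rw [mem_tr h.nzQ hm ei, ← ej]
      have e : m⁻¹ * (n * z * n⁻¹) * m = (m⁻¹ * n) * z * (m⁻¹ * n)⁻¹ := by group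
      rwa [e]
    have h2 := h.symm _ (mul_mem (inv_mem hm) hn) h1
    change i.val ∉ tr P z Q j
    rw [mem_tr h.nzQ hn ej, ← ei]
    have e : n⁻¹ * (m * z * m⁻¹) * n = (m⁻¹ * n)⁻¹ * z * (m⁻¹ * n) := by group
    rwa [e]
  Vab := h.Vab
  Vsq := h.Vsq
  cardV := h.cardV
  VT := h.VT
  TP := h.TP
  TV := h.TV
  nT := h.nT
  nV := h.nV
  pT := h.pT
  perm := by
    rintro m hm ⟨x, n, hn, rfl⟩
    exact ⟨⟨m * (n * z * n⁻¹) * m⁻¹, m * n, mul_mem hm hn, by group⟩, rfl⟩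
  eqC := fun m hm i j hij x hx => tr_conj h.nzC hm hij hx
  eqQ := fun m hm i j hij x hx => tr_conj h.nzQ hm hij hx
  eqQF := fun m hm i j hij x hx => tr_conj h.nzQF hm hij hx
  eqQs := fun m hm i j hij x hx => tr_conj h.nzQs hm hij hx
  Cz := by
    intro i c hc
    obtain ⟨m, hm, e⟩ := i.2
    have h1 := h.Cz _ ((mem_tr h.nzC hm e).1 hc)
    rw [← e]
    calc c * (m * z * m⁻¹) = m * ((m⁻¹ * c * m) * z) * m⁻¹ := by group
      _ = m * z * m⁻¹ * c := by rw [h1]; group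
  PC := by
    intro i c hc hci
    obtain ⟨m, hm, e⟩ := i.2
    rw [mem_tr h.nzC hm e]
    refine h.PC _ (mul_mem (mul_mem (inv_mem hm) hc) hm) ?_
    rw [← e] at hci
    calc m⁻¹ * c * m * z = m⁻¹ * (c * (m * z * m⁻¹)) * m := by group
      _ = z * (m⁻¹ * c * m) := by rw [hci]; group
  gen := by
    intro i c hc
    obtain ⟨m, hm, e⟩ := i.2
    have h1 := h.gen ((mem_tr h.nzC hm e).1 hc)
    have key : ∀ y ∈ closure ({m | m ∈ P ∧ m * z = z * m} ∪
        {x | ∃ c ∈ C, ∃ v ∈ V, x = c * v * c⁻¹}), m * y * m⁻¹ ∈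
        closure ({m | m ∈ P ∧ m * i.val = i.val * m} ∪
          {x | ∃ c ∈ tr P z C i, ∃ v ∈ V, x = c * v * c⁻¹}) := by
      intro y hy
      induction hy using Subgroup.closure_induction with
      | mem x hx =>
        apply Subgroup.subset_closure
        rcases hx with ⟨hx1, hx2⟩ | ⟨c, hc, v, hv, rfl⟩
        · left
          refine ⟨(conjP hm).2 hx1, ?_⟩
          rw [← e]
          calc m * x * m⁻¹ * (m * z * m⁻¹) = m * (x * z) * m⁻¹ := by group
            _ = m * z * m⁻¹ * (m * x * m⁻¹) := by rw [hx2]; group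
        · right
          refine ⟨m * c * m⁻¹, (conj_mem_tr h.nzC hm e).2 hc, m * v * m⁻¹, (h.conjV hm).2 hv, ?_⟩
          group
      | one => simp
      | mul x y _ _ hx hy =>
        have e : m * (x * y) * m⁻¹ = (m * x * m⁻¹) * (m * y * m⁻¹) := by group
        rw [e]
        exact mul_mem hx hy
      | inv x _ hx =>
        have e : m * x⁻¹ * m⁻¹ = (m * x * m⁻¹)⁻¹ := by group
        rw [e]
        exact inv_mem hx
    have h2 := key _ h1
    have e1 : m * (m⁻¹ * c * m) * m⁻¹ = c := by group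
    rwa [e1] at h2
  Qo2 := by
    intro i
    obtain ⟨m, hm, e⟩ := i.2
    rw [tr_eq h.nzQ hm e, tr_eq h.nzC hm e, h.Qo2]
    exact (ZN.o2_map (MulAut.conj m).toMonoidHom (MulAut.conj m).injective C).symm
  char2 := by
    intro i c hc hcx
    obtain ⟨m, hm, e⟩ := i.2
    rw [mem_tr h.nzQ hm e]
    refine h.char2 _ ((mem_tr h.nzC hm e).1 hc) fun x hx => ?_
    have h1 := hcx _ ((conj_mem_tr h.nzQ hm e).2 hx)
    calc m⁻¹ * c * m * x = m⁻¹ * (c * (m * x * m⁻¹)) * m := by group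
      _ = x * (m⁻¹ * c * m) := by rw [h1]; group
  QP := by
    intro i x hx
    obtain ⟨m, hm, e⟩ := i.2
    have h1 := h.QP ((mem_tr h.nzQ hm e).1 hx)
    have := (conjP hm).2 h1
    have e1 : m * (m⁻¹ * x * m) * m⁻¹ = x := by group
    rwa [e1] at this
  nQF := by
    intro i c hc
    obtain ⟨m, hm, e⟩ := i.2
    have hc' := h.nQF ((mem_tr h.nzC hm e).1 hc)
    rw [mem_normalizer_iff] at hc' ⊢
    intro x
    change x ∈ tr P z QF i ↔ c * x * c⁻¹ ∈ tr P z QF i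
    rw [mem_tr h.nzQF hm e, mem_tr h.nzQF hm e]
    have e1 : m⁻¹ * (c * x * c⁻¹) * m = (m⁻¹ * c * m) * (m⁻¹ * x * m) * (m⁻¹ * c * m)⁻¹ := by group
    rw [e1]
    exact hc' _
  nQs := by
    intro i c hc
    obtain ⟨m, hm, e⟩ := i.2
    have hc' := h.nQs ((mem_tr h.nzC hm e).1 hc)
    rw [mem_normalizer_iff] at hc' ⊢
    intro x
    change x ∈ tr P z Qs i ↔ c * x * c⁻¹ ∈ tr P z Qs i
    rw [mem_tr h.nzQs hm e, mem_tr h.nzQs hm e]
    have e1 : m⁻¹ * (c * x * c⁻¹) * m = (m⁻¹ * c * m) * (m⁻¹ * x * m) * (m⁻¹ * c * m)⁻¹ := by group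
    rw [e1]
    exact hc' _
  QFQ := by
    intro i x hx
    obtain ⟨m, hm, e⟩ := i.2
    rw [mem_tr h.nzQF hm e] at hx
    rw [mem_tr h.nzQ hm e]
    exact h.QFQ hx
  QsQF := by
    intro i x hx
    obtain ⟨m, hm, e⟩ := i.2
    rw [mem_tr h.nzQs hm e] at hx
    rw [mem_tr h.nzQF hm e]
    exact h.QsQF hx
  com := by
    intro i x hx y hy
    obtain ⟨m, hm, e⟩ := i.2
    have h1 := h.com _ ((mem_tr h.nzQs hm e).1 hx) _ ((mem_tr h.nzQF hm e).1 hy)
    rw [← e]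
    rcases h1 with h1 | h1
    · left
      calc x * y = m * ((m⁻¹ * x * m) * (m⁻¹ * y * m)) * m⁻¹ := by group
        _ = y * x := by rw [h1]; group
    · right
      calc x * y = m * ((m⁻¹ * x * m) * (m⁻¹ * y * m)) * m⁻¹ := by group
        _ = m * z * m⁻¹ * (y * x) := by rw [h1]; group
  QsGen := by
    intro i x hx
    obtain ⟨m, hm, e⟩ := i.2
    have h1 := h.QsGen ((mem_tr h.nzQs hm e).1 hx)
    have key : ∀ y ∈ closure {y | ∃ c ∈ C, ∃ e ∈ V, e ∈ Q ∧ y = c * e * c⁻¹}, m * y * m⁻¹ ∈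
        closure {y | ∃ c ∈ tr P z C i, ∃ e ∈ V, e ∈ tr P z Q i ∧ y = c * e * c⁻¹} := by
      intro y hy
      induction hy using Subgroup.closure_induction with
      | mem x hx =>
        apply Subgroup.subset_closure
        obtain ⟨c, hc, v, hv, hvQ, rfl⟩ := hx
        refine ⟨m * c * m⁻¹, (conj_mem_tr h.nzC hm e).2 hc, m * v * m⁻¹, (h.conjV hm).2 hv,
          (conj_mem_tr h.nzQ hm e).2 hvQ, ?_⟩
        group
      | one => simp
      | mul x y _ _ hx hy =>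
        have e : m * (x * y) * m⁻¹ = (m * x * m⁻¹) * (m * y * m⁻¹) := by group
        rw [e]
        exact mul_mem hx hy
      | inv x _ hx =>
        have e : m * x⁻¹ * m⁻¹ = (m * x * m⁻¹)⁻¹ := by group
        rw [e]
        exact inv_mem hx
    have h2 := key _ h1
    have e1 : m * (m⁻¹ * x * m) * m⁻¹ = x := by group
    rwa [e1] at h2
  opp_iff := fun i j => Iff.rfl
  VQs := by
    intro i v hv hvQ
    obtain ⟨m, hm, e⟩ := i.2
    rw [mem_tr h.nzQ hm e] at hvQ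
    rw [mem_tr h.nzQs hm e]
    refine h.VQs _ ?_ hvQ
    have := (h.conjV (inv_mem hm)).2 hv
    rwa [inv_inv] at this
  VQ2 := by
    intro i v hv w hw hv' hw'
    obtain ⟨m, hm, e⟩ := i.2
    rw [mem_tr h.nzQ hm e] at hv' hw' ⊢
    have h1 := (h.conjV (inv_mem hm)).2 hv
    have h2 := (h.conjV (inv_mem hm)).2 hw
    rw [inv_inv] at h1 h2
    have h3 := h.VQ2 _ h1 _ h2 hv' hw'
    have e1 : m⁻¹ * (v * w) * m = m⁻¹ * v * m * (m⁻¹ * w * m) := by group
    rwa [e1]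
  VQc := by
    intro i x hx v hv
    obtain ⟨m, hm, e⟩ := i.2
    rw [mem_tr h.nzQ hm e] at hx ⊢
    have h1 := (h.conjV (inv_mem hm)).2 hv
    rw [inv_inv] at h1
    have h3 := h.VQc _ hx _ h1
    have e1 : m⁻¹ * (x * v * x⁻¹ * v⁻¹) * m =
        m⁻¹ * x * m * (m⁻¹ * v * m) * (m⁻¹ * x * m)⁻¹ * (m⁻¹ * v * m)⁻¹ := by group
    rwa [e1]
  cT := by
    intro i x hx hxv
    obtain ⟨m, hm, e⟩ := i.2
    rw [mem_tr h.nzQ hm e] at hx
    have h1 := h.cT _ hx fun v hv => by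
      have h2 := hxv _ ((h.conjV hm).2 hv)
      calc m⁻¹ * x * m * v = m⁻¹ * (x * (m * v * m⁻¹)) * m := by group
        _ = v * (m⁻¹ * x * m) := by rw [h2]; group
    have := (h.conjT hm).2 h1
    have e1 : m * (m⁻¹ * x * m) * m⁻¹ = x := by group
    rwa [e1] at this
  faith := by
    intro i x hx hxv v hv
    obtain ⟨m, hm, e⟩ := i.2
    have hx' : m⁻¹ * x * m ∈ P := mul_mem (mul_mem (inv_mem hm) hx) hm
    have h0 := (h.conjV (inv_mem hm)).2 hv
    rw [inv_inv] at h0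
    have h1 := h.faith _ hx' (fun w hw hwQ => by
      have h2 := hxv _ ((h.conjV hm).2 hw) ((conj_mem_tr h.nzQ hm e).2 hwQ)
      calc m⁻¹ * x * m * w = m⁻¹ * (x * (m * w * m⁻¹)) * m := by group
        _ = w * (m⁻¹ * x * m) := by rw [h2]; group) _ h0
    calc x * v = m * (m⁻¹ * x * m * (m⁻¹ * v * m)) * m⁻¹ := by group
      _ = v * x := by rw [h1]; group
  fixE := by
    intro i v hv hvx
    obtain ⟨m, hm, e⟩ := i.2
    have h0 := (h.conjV (inv_mem hm)).2 hv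
    rw [inv_inv] at h0
    rcases h.fixE _ h0 (fun x hx => by
      have h2 := hvx _ ((conj_mem_tr h.nzQs hm e).2 hx)
      calc x * (m⁻¹ * v * m) = m⁻¹ * ((m * x * m⁻¹) * v) * m := by group
        _ = m⁻¹ * v * m * x := by rw [h2]; group) with h1 | h1
    · left
      calc v = m * (m⁻¹ * v * m) * m⁻¹ := by group
        _ = 1 := by rw [h1]; group
    · right
      rw [← e, ← h1]
      group
  QFT := by
    intro i x hx
    obtain ⟨m, hm, e⟩ := i.2
    obtain ⟨t, ht, y, hy, hxy⟩ := h.QFT _ ((mem_tr h.nzQF hm e).1 hx)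
    refine ⟨m * t * m⁻¹, (h.conjT hm).2 ht, m * y * m⁻¹, (conj_mem_tr h.nzQs hm e).2 hy, ?_⟩
    calc x = m * (m⁻¹ * x * m) * m⁻¹ := by group
      _ = _ := by rw [hxy]; group
  QQF := by
    intro i x hx hxv
    obtain ⟨m, hm, e⟩ := i.2
    rw [mem_tr h.nzQ hm e] at hx
    rw [mem_tr h.nzQF hm e]
    refine h.QQF _ hx fun v hv hvQ => ?_
    rcases hxv _ ((h.conjV hm).2 hv) ((conj_mem_tr h.nzQ hm e).2 hvQ) with h1 | h1
    · left
      calc m⁻¹ * x * m * v = m⁻¹ * (x * (m * v * m⁻¹)) * m := by group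
        _ = _ := by rw [h1]; group
    · right
      calc m⁻¹ * x * m * v = m⁻¹ * (x * (m * v * m⁻¹)) * m := by group
        _ = _ := by rw [h1, ← e]; group
  QF2 := by
    intro i x hx y hy hx' hy'
    obtain ⟨m, hm, e⟩ := i.2
    rw [mem_tr h.nzQ hm e] at hx hy
    rw [mem_tr h.nzQF hm e] at hx' hy' ⊢
    have h1 := h.QF2 _ hx _ hy hx' hy'
    have e1 : m⁻¹ * (x * y) * m = m⁻¹ * x * m * (m⁻¹ * y * m) := by group
    rwa [e1]
  kv := by
    intro i x hx v hv hvQ hxv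
    obtain ⟨m, hm, e⟩ := i.2
    rw [mem_tr h.nzQs hm e] at hx
    rw [mem_tr h.nzQ hm e] at hvQ
    have h0 := (h.conjV (inv_mem hm)).2 hv
    rw [inv_inv] at h0
    have h1 := h.kv _ hx _ h0 hvQ (by
      rcases hxv with h2 | h2
      · left
        calc m⁻¹ * x * m * (m⁻¹ * v * m) = m⁻¹ * (x * v) * m := by group
          _ = _ := by rw [h2]; group
      · right
        calc m⁻¹ * x * m * (m⁻¹ * v * m) = m⁻¹ * (x * v) * m := by group
          _ = _ := by rw [h2, ← e]; group)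
    have := (h.conjT hm).2 h1
    have e1 : m * (m⁻¹ * x * m) * m⁻¹ = x := by group
    rwa [e1] at this
  ev := by
    intro i v hv hvQ w hw hwQ
    obtain ⟨m, hm, e⟩ := i.2
    rw [mem_tr h.nzQ hm e] at hvQ hwQ
    have h0 := (h.conjV (inv_mem hm)).2 hv
    have h0' := (h.conjV (inv_mem hm)).2 hw
    rw [inv_inv] at h0 h0'
    obtain ⟨x, hx, h1⟩ := h.ev _ h0 hvQ _ h0' hwQ
    refine ⟨m * x * m⁻¹, (conj_mem_tr h.nzQs hm e).2 hx, ?_⟩
    have e2 : m * x * m⁻¹ * w * (m * x * m⁻¹)⁻¹ * w⁻¹ =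
        m * (x * (m⁻¹ * w * m) * x⁻¹ * (m⁻¹ * w * m)⁻¹) * m⁻¹ := by group
    rw [e2, ← e]
    rcases h1 with h1 | h1
    · left; rw [h1]; group
    · right; rw [h1]; group
  trans := by
    intro i j hij k
    obtain ⟨m, hm, ei⟩ := i.2
    obtain ⟨n, hn, ej⟩ := j.2
    obtain ⟨l, hl, ek⟩ := k.2
    have h1 : (m⁻¹ * n) * z * (m⁻¹ * n)⁻¹ ∉ Q := by
      intro h2
      apply hij
      rw [mem_tr h.nzQ hm ei, ← ej]
      have e : m⁻¹ * (n * z * n⁻¹) * m = (m⁻¹ * n) * z * (m⁻¹ * n)⁻¹ := by group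
      rwa [e]
    obtain ⟨x, hx, hx'⟩ := h.trans _ (mul_mem (inv_mem hm) hn) h1 (m⁻¹ * l) (mul_mem (inv_mem hm) hl)
    have key : (Qs ⊔ Qs.map (MulAut.conj (m⁻¹ * n)).toMonoidHom).map (MulAut.conj m).toMonoidHom ≤
        tr P z Qs i ⊔ tr P z Qs j := by
      rw [Subgroup.map_sup, tr_eq h.nzQs hm ei, tr_eq h.nzQs hn ej, Subgroup.map_map]
      refine sup_le_sup le_rfl (le_of_eq ?_)
      congr 1
      ext y
      change m * (m⁻¹ * n * y * (m⁻¹ * n)⁻¹) * m⁻¹ = n * y * n⁻¹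
      group
    refine ⟨m * x * m⁻¹, key ⟨x, hx, rfl⟩, ?_⟩
    rw [← ei, ← ek]
    calc m * x * m⁻¹ * (m * z * m⁻¹) * (m * x * m⁻¹)⁻¹ = m * (x * z * x⁻¹) * m⁻¹ := by group
      _ = _ := by rw [hx']; group
  tri := by
    intro i
    obtain ⟨l, hl, ei⟩ := i.2
    obtain ⟨m, hm, n, hn, h1, h2, h3⟩ := h.tri
    let j : Pts P z := ⟨(l * m) * z * (l * m)⁻¹, l * m, mul_mem hl hm, rfl⟩
    let k : Pts P z := ⟨(l * n) * z * (l * n)⁻¹, l * n, mul_mem hl hn, rfl⟩
    refine ⟨j, k, ?_, ?_, ?_⟩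
    · change (l * m) * z * (l * m)⁻¹ ∉ tr P z Q i
      rw [mem_tr h.nzQ hl ei]
      have e : l⁻¹ * ((l * m) * z * (l * m)⁻¹) * l = m * z * m⁻¹ := by group
      rwa [e]
    · change (l * n) * z * (l * n)⁻¹ ∉ tr P z Q i
      rw [mem_tr h.nzQ hl ei]
      have e : l⁻¹ * ((l * n) * z * (l * n)⁻¹) * l = n * z * n⁻¹ := by group
      rwa [e]
    · change (l * n) * z * (l * n)⁻¹ ∉ tr P z Q j
      rw [mem_tr h.nzQ (mul_mem hl hm) (i := j) rfl]
      have e : (l * m)⁻¹ * ((l * n) * z * (l * n)⁻¹) * (l * m) =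
          (m⁻¹ * n) * z * (m⁻¹ * n)⁻¹ := by group
      rwa [e]
  min := by
    intro i N hN hNm hne
    obtain ⟨m, hm, e⟩ := i.2
    have h1 := h.min (N.map (MulAut.conj m⁻¹).toMonoidHom) ?_ ?_ ?_
    · obtain ⟨x, hx, hxz⟩ := h1
      have e1 : x = m * z * m⁻¹ := by
        have : m⁻¹ * x * m⁻¹⁻¹ = z := hxz
        rw [← this]; group
      rw [← e, ← e1]
      exact hx
    · rintro _ ⟨x, hx, rfl⟩
      exact (h.conjT (inv_mem hm)).2 (hN hx)
    · rintro n hn hnz _ ⟨x, hx, rfl⟩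
      refine ⟨m * n * m⁻¹ * x * (m * n * m⁻¹)⁻¹, hNm _ ((conjP hm).2 hn) ?_ x hx, ?_⟩
      · rw [← e]
        calc m * n * m⁻¹ * (m * z * m⁻¹) = m * (n * z) * m⁻¹ := by group
          _ = m * z * m⁻¹ * (m * n * m⁻¹) := by rw [hnz]; group
      · change m⁻¹ * (m * n * m⁻¹ * x * (m * n * m⁻¹)⁻¹) * m⁻¹⁻¹ = n * (m⁻¹ * x * m⁻¹⁻¹) * n⁻¹
        group
    · intro h0
      apply hne
      rw [eq_bot_iff]
      intro x hx
      have h2 : (MulAut.conj m⁻¹).toMonoidHom x ∈ N.map (MulAut.conj m⁻¹).toMonoidHom := ⟨x, hx, rfl⟩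
      rw [h0, mem_bot] at h2
      have h3 : m⁻¹ * x * m⁻¹⁻¹ = 1 := h2
      rw [mem_bot]
      exact conj_eq_one_iff.1 h3

section

variable (h : Pt P V T z C Q QF Qs)
include h

theorem trC_base : tr P z C (Pts.base P z) = C := tr_base h.nzC

theorem trQ_base : tr P z Q (Pts.base P z) = Q := tr_base h.nzQ

theorem trQF_base : tr P z QF (Pts.base P z) = QF := tr_base h.nzQF

theorem trQs_base : tr P z Qs (Pts.base P z) = Qs := tr_base h.nzQs

end

end Pt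

end Cfsg.Agent.Omega.NOne.AG

end

-- merged: Cfsg.Agent.Mrg.Omega.NOne.AG.Base
section

section


/-!
# THEOREM D0ag (bb #15001): the configuration with its Sylow subgroup

`Base`: `Conf` together with the Sylow 2-subgroup `S` of `G`, `T = C_S(V)`, `S ≤ P`, `S ≤ C i₀`, `Ω₁ Z(S) = ⟨z i₀⟩`,
`O₂(C_G(z i₀)) ≤ Q i₀`, `Qs i₀ ≤ O₂(C_G(z i₀))`, `P ∩ C(z i₀) = S C_P(V)`, `|S : T| = 8`.
`Base.of`: from `Pt` and `NO1.Cfg`.
-/

set_option autoImplicit false

namespace Cfsg.Agent.Omega.NOne.AG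

open Subgroup Cfsg Cfsg.Agent.ZN Cfsg.Agent.Omega.MinPar Cfsg.Agent.Omega.Frame
open Cfsg.Agent.Omega.NoFF.LinesPlug (CC)

universe u

variable {G : Type u} [Group G] {ι : Type*}

/-- The abstract configuration of D0ag with its Sylow subgroup. -/
structure Base [Finite G] (S : Sylow 2 G) (P V T : Subgroup G) (z : ι → G) (opp : ι → ι → Prop)
    (C Q QF Qs : ι → Subgroup G) (i₀ : ι) : Prop extends Conf P V T z opp C Q QF Qs where
  ctx : Ctx G
  T_eq : T = (S : Subgroup G) ⊓ centralizer (V : Set G)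
  S_le_P : (S : Subgroup G) ≤ P
  S_le_C : (S : Subgroup G) ≤ C i₀
  omega : ∀ x ∈ (S : Subgroup G), x * x = 1 → (∀ s ∈ (S : Subgroup G), s * x = x * s) →
    x = 1 ∨ x = z i₀
  Q0_le : o2 (centralizer ({z i₀} : Set G)) ≤ Q i₀
  Qs_le : Qs i₀ ≤ o2 (centralizer ({z i₀} : Set G))
  /-- `P ∩ C = S C_P(V)` -/
  stab : ∀ m ∈ P, m * z i₀ = z i₀ * m →
    ∃ s ∈ (S : Subgroup G), ∃ c ∈ P, (∀ v ∈ V, c * v = v * c) ∧ m = s * c
  index : T.relIndex (S : Subgroup G) = 8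

/-- A normal 2-subgroup of a subgroup `X` lies in every Sylow 2-subgroup of `G` contained in `X`. -/
theorem o2_le_sylow [Finite G] (S : Sylow 2 G) {X : Subgroup G} (hSX : (S : Subgroup G) ≤ X) :
    o2 X ≤ S := by
  exact Cfsg.Agent.MinSimple.VModule.o2_le_of_sylow S.isPGroup'
    (MinSimple.Basic.not_dvd_relIndex S hSX)

namespace Base

variable [Finite G] {S : Sylow 2 G} {P V T : Subgroup G} {z : ι → G} {opp : ι → ι → Prop}
  {C Q QF Qs : ι → Subgroup G} {i₀ : ι}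

section

variable (h : Base S P V T z opp C Q QF Qs i₀)
include h

theorem T_le : T ≤ S := h.T_eq.le.trans inf_le_left

theorem V_le : V ≤ S := h.VT.trans h.T_le

theorem C_le : C i₀ ≤ centralizer ({z i₀} : Set G) := fun c hc =>
  mem_centralizer_singleton_iff.2 (h.Cz i₀ c hc)

theorem S_le_cz : (S : Subgroup G) ≤ centralizer ({z i₀} : Set G) := h.S_le_C.trans h.C_le

theorem Q_le : Q i₀ ≤ S := by
  rw [h.Qo2]
  exact o2_le_sylow S h.S_le_C

theorem S_normT : (S : Subgroup G) ≤ normalizer (T : Set G) := h.S_le_P.trans h.nT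

theorem S_normV : (S : Subgroup G) ≤ normalizer (V : Set G) := h.S_le_P.trans h.nV

/-- `z i₀` is central in `S`. -/
theorem Sz (s : G) (hs : s ∈ (S : Subgroup G)) : s * z i₀ = z i₀ * s := h.Cz i₀ s (h.S_le_C hs)

theorem mem_T {x : G} (hx : x ∈ (S : Subgroup G)) (hc : ∀ v ∈ V, x * v = v * x) : x ∈ T := by
  rw [h.T_eq]
  exact ⟨hx, mem_centralizer_iff.2 fun v hv => (hc v hv).symm⟩

end

end Base

theorem centralizer_zpowers_eq (z : G) :
    centralizer (zpowers z : Set G) = centralizer ({z} : Set G) := by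
  apply le_antisymm
  · exact centralizer_le (by simp)
  · intro x hx
    rw [mem_centralizer_singleton_iff] at hx
    rw [mem_centralizer_iff]
    rintro _ ⟨k, rfl⟩
    have h2 : Commute x z := hx
    exact (h2.zpow_right k).eq.symm

/-- **`Base` from `Pt`** and the configuration `NO1.Cfg`. -/
theorem Base.of [Finite G] {S : Sylow 2 G} {P : Subgroup G} (h : NO1.Cfg S P) {z : G}
    (hz : zc (S : Subgroup G) = zpowers z) {T C Q QF Qs : Subgroup G}
    (hT : T = (S : Subgroup G) ⊓ centralizer (zl (S : Subgroup G) P : Set G))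
    (hp : Pt P (zl (S : Subgroup G) P) T z C Q QF Qs) (hSC : (S : Subgroup G) ≤ C)
    (hE : (NO1.EE (S : Subgroup G) P).relIndex (zl (S : Subgroup G) P) = 2)
    (hstab : ∀ m ∈ P, m * z = z * m →
      ∃ s ∈ (S : Subgroup G), ∃ c ∈ P, (∀ v ∈ zl (S : Subgroup G) P, c * v = v * c) ∧ m = s * c)
    (hind : T.relIndex (S : Subgroup G) = 8) :
    Base S P (zl (S : Subgroup G) P) T (fun i : Pts P z => i.val) hp.opp (tr P z C) (tr P z Q)
      (tr P z QF) (tr P z Qs) (Pts.base P z) where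
  toConf := hp.conf
  ctx := h.ctx
  T_eq := hT
  S_le_P := h.S_le
  S_le_C := by rw [hp.trC_base]; exact hSC
  omega := by
    intro x hx hx2 hxc
    have h1 : x ∈ zc (S : Subgroup G) := mem_zc.2 ⟨hx, hxc, by rw [pow_two, hx2]⟩
    rw [hz] at h1
    obtain ⟨k, rfl⟩ := mem_zpowers_iff.1 h1
    have h2 : z ^ (2 : ℤ) = 1 := by rw [zpow_two, hp.sq]
    rcases Int.even_or_odd' k with ⟨m, hm | hm⟩
    · left
      rw [hm, zpow_mul, h2, one_zpow]
    · right
      change z ^ k = z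
      rw [hm, zpow_add, zpow_mul, h2, one_zpow, one_mul, zpow_one]
  Q0_le := by
    rw [hp.trQ_base, hp.Qo2]
    exact o2_le_o2 S hSC fun c hc => mem_centralizer_singleton_iff.2 (hp.Cz c hc)
  Qs_le := by
    rw [hp.trQs_base]
    change Qs ≤ o2 (centralizer ({z} : Set G))
    have hCC : CC (S : Subgroup G) = centralizer ({z} : Set G) := by
      change centralizer (zc (S : Subgroup G) : Set G) = _
      rw [hz, centralizer_zpowers_eq]
    have hCz : C ≤ centralizer ({z} : Set G) := fun c hc =>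
      mem_centralizer_singleton_iff.2 (hp.Cz c hc)
    have hQ0 : o2 (centralizer ({z} : Set G)) ≤ Q := by
      rw [hp.Qo2]
      exact o2_le_o2 S hSC hCz
    have hle : NO1.EE (S : Subgroup G) P ≤ zl (S : Subgroup G) P ⊓ Q := by
      refine le_inf inf_le_left (inf_le_right.trans ?_)
      rw [hCC]
      exact hQ0
    have hlt : ¬ zl (S : Subgroup G) P ≤ Q := by
      intro h0
      obtain ⟨m, hm, n, hn, h1, -, -⟩ := hp.tri
      exact h1 (h0 ((hp.conjV hm).2 hp.zV))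
    have hEE : zl (S : Subgroup G) P ⊓ Q ≤ NO1.EE (S : Subgroup G) P := by
      have h1 := relIndex_mul_relIndex (NO1.EE (S : Subgroup G) P) (zl (S : Subgroup G) P ⊓ Q)
        (zl (S : Subgroup G) P) hle inf_le_left
      rw [hE] at h1
      have h2 : (zl (S : Subgroup G) P ⊓ Q).relIndex (zl (S : Subgroup G) P) ≠ 1 := by
        intro h3
        exact hlt ((relIndex_eq_one.1 h3).trans inf_le_right)
      have h3 : (NO1.EE (S : Subgroup G) P).relIndex (zl (S : Subgroup G) P ⊓ Q) = 1 := by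
        rcases (Nat.dvd_prime Nat.prime_two).1 (Dvd.intro_left _ h1) with h4 | h4
        · exact absurd h4 h2
        · rw [h4] at h1
          omega
      exact relIndex_eq_one.1 h3
    refine hp.QsGen.trans ((closure_le _).2 ?_)
    rintro _ ⟨c, hc, e, he, heQ, rfl⟩
    have h1 : e ∈ o2 (centralizer ({z} : Set G)) := by
      rw [← hCC]
      exact (hEE ⟨he, heQ⟩).2
    exact (mem_normalizer_iff.1 (le_normalizer_o2 _ (hCz hc)) e).1 h1
  stab := hstab
  index := hind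

end Cfsg.Agent.Omega.NOne.AG

end

section


/-!
# THEOREM D0ag (bb #15001), (3), last line: `|S| = 2⁷`, `C_S(V) = V` implies `r(S) ≤ 4` (piece P3, helper319)

* `rank_of` : a Sylow 2-subgroup `S ⊵ V = 2⁴`, `|S : V| ≤ 8`, `C_S(V) = V`, some `s² ∉ V`, and every `X ≤ S` with
  `|XV/V| ≥ 3` contains an element `x` with `|C_V(x)| ≤ 4` : sectional 2-rank at most 4;
* `Base.false_of_plus` : type (γ) (`Plus2`), `T = V`: contradiction;
* `Base.false_of_alp` : type (α) (`Alp`), `T = V`: contradiction.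
-/

set_option autoImplicit false

namespace Cfsg.Agent.Omega.NOne.AG.Rank

open Subgroup Cfsg Cfsg.Agent.ZN Cfsg.Agent.Omega.MinPar Cfsg.Agent.Omega.Frame
open Cfsg.Agent.Omega.NO1.Nat.SixA
open Cfsg.Agent.Omega.NO1.Nat.SevenA (sup_dec)
open Cfsg.Agent.TwoFusion.SectionalRank (ElemSection sectionalPRankLE_iff exists_sylow_section
  card_eq_relIndex_mul)
open Cfsg.Agent.Omega.NO1 (Plus2)

universe u

variable {G : Type u} [Group G]

/-- `|V ∩ X| ≤ n |V ∩ Y|` if `s ∈ X` acts on `V` with `|C_V(s)| ≤ n` and `[X, X] ≤ Y`. -/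
theorem sec_bound [Finite G] {V X Y : Subgroup G} {n : ℕ} {s : G} (hs : s ∈ X)
    (hsV : s ∈ normalizer (V : Set G)) (hcomm : ∀ x ∈ V, ∀ y ∈ V, x * y = y * x)
    (hXY : ∀ a ∈ X, ∀ b ∈ X, a * b * a⁻¹ * b⁻¹ ∈ Y)
    (hn : Nat.card ↥(V ⊓ centralizer ({s} : Set G)) ≤ n) :
    Nat.card ↥(V ⊓ X) ≤ n * Nat.card ↥(V ⊓ Y) := by
  have hval : ∀ m ∈ V ⊓ X, s * m * s⁻¹ * m⁻¹ ∈ V ⊓ Y := by
    intro m hm
    obtain ⟨hm1, hm2⟩ := mem_inf.1 hm
    exact mem_inf.2 ⟨mul_mem (conj_mem hsV hm1) (inv_mem hm1), hXY s hs m hm2⟩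
  let f : ↥(V ⊓ X) →* ↥(V ⊓ Y) :=
    { toFun := fun m => ⟨s * m * s⁻¹ * (m : G)⁻¹, hval m m.2⟩
      map_one' := by
        apply Subtype.ext; simp
      map_mul' := fun x y => by
        apply Subtype.ext
        have h2 := hcomm _ (mem_inf.1 (hval y y.2)).1 _ (inv_mem (mem_inf.1 x.2).1)
        change s * (x * y) * s⁻¹ * ((x : G) * y)⁻¹ =
          (s * x * s⁻¹ * (x : G)⁻¹) * (s * y * s⁻¹ * (y : G)⁻¹)
        calc s * (x * y) * s⁻¹ * ((x : G) * y)⁻¹
            = s * x * s⁻¹ * (s * y * s⁻¹ * (y : G)⁻¹ * (x : G)⁻¹) := by group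
          _ = s * x * s⁻¹ * ((x : G)⁻¹ * (s * y * s⁻¹ * (y : G)⁻¹)) := by rw [h2]
          _ = _ := by group }
  have hk : Nat.card f.ker ≤ n := by
    have h3 : f.ker.map (V ⊓ X).subtype ≤ V ⊓ centralizer ({s} : Set G) := by
      rintro _ ⟨m, hm, rfl⟩
      refine mem_inf.2 ⟨(mem_inf.1 m.2).1, ?_⟩
      have h4 : s * m * s⁻¹ * (m : G)⁻¹ = 1 := congrArg Subtype.val (MonoidHom.mem_ker.1 hm)
      rw [mem_centralizer_singleton_iff]
      change (m : G) * s = s * m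
      calc (m : G) * s = 1 * m * s := by rw [one_mul]
        _ = s * m * s⁻¹ * (m : G)⁻¹ * m * s := by rw [h4]
        _ = s * m := by group
    have h4 := Subgroup.card_le_of_le h3
    rw [Subgroup.card_map_of_injective (V ⊓ X).subtype_injective] at h4
    exact h4.trans hn
  have h3 : Nat.card f.ker * Nat.card f.range = Nat.card ↥(V ⊓ X) := by
    rw [← Subgroup.index_ker f]
    exact f.ker.card_mul_index
  rw [← h3]
  exact Nat.mul_le_mul hk (Subgroup.card_le_card_group _)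

/-- The rank of a group with Sylow 2-subgroup `S ⊵ V = 2⁴`. -/
theorem rank_of [Finite G] (S : Sylow 2 G) {V : Subgroup G} (hVc : Nat.card V = 16)
    (hSV : (S : Subgroup G) ≤ normalizer (V : Set G))
    (hcomm : ∀ x ∈ V, ∀ y ∈ V, x * y = y * x) (hi : V.relIndex S ≤ 8) (hVS : V ≤ S)
    (hC : ∀ s ∈ (S : Subgroup G), (∀ v ∈ V, s * v = v * s) → s ∈ V)
    (hX : ∀ X : Subgroup G, X ≤ S → 3 ≤ V.relIndex X →
      ∃ x ∈ X, Nat.card ↥(V ⊓ centralizer ({x} : Set G)) ≤ 4)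
    (hsq : ∃ s ∈ (S : Subgroup G), s * s ∉ V) : SectionalPRankLE 2 4 G := by
  rw [sectionalPRankLE_iff]
  intro X₀ Y₀ h₀
  obtain ⟨X, Y, hXS, hXY, hc⟩ := exists_sylow_section S h₀
  -- enough for `X ≤ S`
  suffices hmain : Nat.card X ≤ 2 ^ 4 * Nat.card Y by
    have h1 : 0 < Nat.card Y := Nat.card_pos
    have h2 : Nat.card X₀ * Nat.card Y ≤ (2 ^ 4 * Nat.card Y₀) * Nat.card Y := by
      rw [hc]
      calc Nat.card X * Nat.card Y₀ ≤ (2 ^ 4 * Nat.card Y) * Nat.card Y₀ :=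
            Nat.mul_le_mul_right _ hmain
        _ = _ := by ring
    exact Nat.le_of_mul_le_mul_right h2 h1
  by_cases hXM : X ≤ V
  · have h1 := Subgroup.card_le_of_le hXM
    have h2 : 0 < Nat.card Y := Nat.card_pos
    rw [hVc] at h1
    omega
  have hne : ∀ A B : Subgroup G, A.relIndex B ≠ 0 := fun A B =>
    index_ne_zero_of_finite (H := A.subgroupOf B)
  have h5 : Nat.card X = V.relIndex X * Nat.card ↥(V ⊓ X) := by
    have := card_eq_relIndex_mul X (V ⊓ X) inf_le_right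
    rwa [inf_relIndex_right] at this
  have h6 : Nat.card Y = V.relIndex Y * Nat.card ↥(V ⊓ Y) := by
    have := card_eq_relIndex_mul Y (V ⊓ Y) inf_le_right
    rwa [inf_relIndex_right] at this
  by_cases h3 : 3 ≤ V.relIndex X
  · obtain ⟨s, hs, hs4⟩ := hX X hXS h3
    -- `|X ∩ V| ≤ 4 |Y ∩ V|`
    have h1 := sec_bound hs (hSV (hXS hs)) hcomm hXY.comm hs4
    -- `|X : X ∩ V| ≤ 4 |Y : Y ∩ V|`
    have h2 : V.relIndex X ≤ 4 * V.relIndex Y := by
      have h3 : V.relIndex X ≤ 8 := (relIndex_le_of_le_right hXS (hne _ _)).trans hi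
      by_cases h4 : V.relIndex Y = 1
      · by_contra hlt
        rw [h4] at hlt
        push Not at hlt
        have hYM : Y ≤ V := relIndex_eq_one.1 h4
        have h5 : V.relIndex X ≤ V.relIndex (V ⊔ X) :=
          relIndex_le_of_le_right le_sup_right (hne _ _)
        have h6 : V.relIndex (V ⊔ X) * (V ⊔ X).relIndex S = V.relIndex S :=
          relIndex_mul_relIndex _ _ _ le_sup_left (sup_le hVS hXS)
        have h7 : (V ⊔ X).relIndex S = 1 := by
          have h8 := hne (V ⊔ X) S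
          by_contra h9
          have h10 : 5 * 2 ≤ V.relIndex (V ⊔ X) * (V ⊔ X).relIndex S :=
            Nat.mul_le_mul (by omega) (by omega)
          omega
        obtain ⟨r, hr, hrM⟩ := hsq
        obtain ⟨x, hx, m, hm, rfl⟩ := sup_dec (hXS.trans hSV) (relIndex_eq_one.1 h7 hr)
        apply hrM
        have h8 : x * x ∈ V := by
          have := hXY.pow x hx
          rw [pow_two] at this
          exact hYM this
        have h9 := conj_mem' (hSV (hXS hx)) hm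
        have h10 := mul_mem (mul_mem h8 h9) hm
        rwa [show x * x * (x⁻¹ * m * x) * m = x * m * (x * m) by group] at h10
      · have h5 := hne V Y
        have h6 : 2 ≤ V.relIndex Y := by omega
        omega
    rw [h5, h6]
    calc V.relIndex X * Nat.card ↥(V ⊓ X) ≤ (4 * V.relIndex Y) * (4 * Nat.card ↥(V ⊓ Y)) :=
          Nat.mul_le_mul h2 h1
      _ = _ := by ring
  · -- `|XV/V| ≤ 2`
    obtain ⟨s, hs, hsM⟩ := SetLike.not_le_iff_exists.1 hXM
    have h8 : Nat.card ↥(V ⊓ centralizer ({s} : Set G)) ≤ 8 := by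
      have hlt : V ⊓ centralizer ({s} : Set G) < V := by
        refine lt_of_le_of_ne inf_le_left fun heq => hsM (hC s (hXS hs) fun v hv => ?_)
        rw [← heq] at hv
        exact ((mem_centralizer_singleton_iff).1 (mem_inf.1 hv).2).symm
      have h9 := Subgroup.card_dvd_of_le hlt.le
      have h10 : Nat.card ↥(V ⊓ centralizer ({s} : Set G)) ≠ Nat.card V := fun he =>
        hlt.ne (Subgroup.eq_of_le_of_card_ge hlt.le he.ge)
      rw [hVc] at h9 h10
      have h11 := Nat.le_of_dvd (by norm_num) h9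
      by_contra h12
      push Not at h12
      generalize Nat.card ↥(V ⊓ centralizer ({s} : Set G)) = k at *
      interval_cases k <;> omega
    have h1 := sec_bound hs (hSV (hXS hs)) hcomm hXY.comm h8
    have h2 : 0 < V.relIndex Y := Nat.pos_of_ne_zero (hne _ _)
    have h9 : V.relIndex X ≤ 2 := by omega
    rw [h5, h6]
    calc V.relIndex X * Nat.card ↥(V ⊓ X) ≤ 2 * (8 * Nat.card ↥(V ⊓ Y)) := Nat.mul_le_mul h9 h1
      _ = 2 ^ 4 * (1 * Nat.card ↥(V ⊓ Y)) := by ring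
      _ ≤ _ := Nat.mul_le_mul_left _ (Nat.mul_le_mul_right _ h2)

theorem conj_eq_iff {s v : G} : s * v * s⁻¹ = v ↔ s * v = v * s := by
  rw [mul_inv_eq_iff_eq_mul]

/-- `|C_V(s)| ≤ 4` if `s` moves `v`, `w` and `v w`. -/
theorem card_le_four [Finite G] {V : Subgroup G} (hVc : Nat.card V = 16) {s v w : G}
    (hv : v ∈ V) (hw : w ∈ V) (h1 : s * v * s⁻¹ ≠ v) (h2 : s * w * s⁻¹ ≠ w)
    (h3 : s * (v * w) * s⁻¹ ≠ v * w) : Nat.card ↥(V ⊓ centralizer ({s} : Set G)) ≤ 4 := by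
  set C := V ⊓ centralizer ({s} : Set G) with hC
  have hm : ∀ x ∈ V, s * x * s⁻¹ ≠ x → x ∉ C := fun x _ hx hxC => by
    have h4 := mem_centralizer_singleton_iff.1 (mem_inf.1 hxC).2
    exact hx (conj_eq_iff.2 h4.symm)
  have h4 : Nat.card C * C.relIndex V = 16 := by
    have := card_eq_relIndex_mul V C inf_le_left
    rw [hVc] at this
    rw [this]; ring
  have h5 : C.relIndex V ≠ 1 := fun h => hm v hv h1 (relIndex_eq_one.1 h hv)
  have h6 : C.relIndex V ≠ 2 := by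
    intro h
    have h7 := Subgroup.mul_mem_iff_of_index_two (H := C.subgroupOf V) h
      (a := ⟨v, hv⟩) (b := ⟨w, hw⟩)
    have h8 : (⟨v, hv⟩ : V) * ⟨w, hw⟩ ∈ C.subgroupOf V := by
      rw [h7]
      constructor
      · intro h9; exact absurd (mem_subgroupOf.1 h9) (hm v hv h1)
      · intro h9; exact absurd (mem_subgroupOf.1 h9) (hm w hw h2)
    exact hm (v * w) (mul_mem hv hw) h3 (mem_subgroupOf.1 h8)
  have h7 : C.relIndex V ≠ 0 := by
    intro h; rw [h] at h4; omega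
  have h8 : C.relIndex V ≠ 3 := by
    intro h; rw [h] at h4; omega
  have h9 : 4 ≤ C.relIndex V := by omega
  by_contra h10
  push Not at h10
  have h11 : 5 * 4 ≤ Nat.card C * C.relIndex V := Nat.mul_le_mul h10 h9
  omega

/-- three cosets -/
theorem exists_pair [Finite G] {V X : Subgroup G} (h : 3 ≤ V.relIndex X) :
    ∃ x ∈ X, ∃ y ∈ X, x ∉ V ∧ y ∉ V ∧ x⁻¹ * y ∉ V := by
  by_contra hcon
  push Not at hcon
  have h1 : ¬ X ≤ V := fun h2 => by rw [relIndex_eq_one.2 h2] at h; omega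
  obtain ⟨x, hx, hxV⟩ := SetLike.not_le_iff_exists.1 h1
  have h2 : V.relIndex X = 2 := by
    change (V.subgroupOf X).index = 2
    rw [Subgroup.index_eq_two_iff]
    refine ⟨⟨x⁻¹, inv_mem hx⟩, fun b => ?_⟩
    rw [mem_subgroupOf, mem_subgroupOf]
    change Xor (((b : X) : G) * x⁻¹ ∈ V) ((b : G) ∈ V)
    by_cases hb : (b : G) ∈ V
    · right
      refine ⟨hb, fun h3 => hxV ?_⟩
      have h4 := mul_mem (inv_mem h3) hb
      have h5 := mul_mem (inv_mem hb) h3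
      rw [inv_mul_cancel_left] at h5
      exact inv_mem_iff.1 h5
    · left
      refine ⟨?_, hb⟩
      have h3 := hcon (b : G)⁻¹ (inv_mem b.2) x⁻¹ (inv_mem hx) (fun h => hb (inv_mem_iff.1 h))
        (fun h => hxV (inv_mem_iff.1 h))
      rwa [inv_inv] at h3
  omega

/-! ### Type (γ) -/

section plus

variable {S P : Subgroup G} {z : Fin 3 → Fin 3 → G} (h : Plus2 S P z)
include h

theorem Plus.mem (i j : Fin 3) : z i j ∈ zl S P := by
  rw [← h.gen]; exact subset_closure ⟨(i, j), rfl⟩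

theorem Plus.prodR (i : Fin 3) : z i 1 * z i 2 = z i 0 := by
  have h1 := h.row i
  have h2 := h.sq i 0
  calc z i 1 * z i 2 = (z i 0 * z i 0) * (z i 1 * z i 2) := by rw [h2, one_mul]
    _ = z i 0 * (z i 0 * z i 1 * z i 2) := by group
    _ = z i 0 := by rw [h1, mul_one]

theorem Plus.prodC (j : Fin 3) : z 1 j * z 2 j = z 0 j := by
  have h1 := h.col j
  have h2 := h.sq 0 j
  calc z 1 j * z 2 j = (z 0 j * z 0 j) * (z 1 j * z 2 j) := by rw [h2, one_mul]
    _ = z 0 j * (z 0 j * z 1 j * z 2 j) := by group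
    _ = z 0 j := by rw [h1, mul_one]

theorem Plus.ne_diag : z 1 2 * z 2 1 ≠ z 1 1 * z 2 2 := by
  intro he
  have h1 : z 1 0 * z 2 0 = 1 := by
    rw [← Plus.prodR h 1, ← Plus.prodR h 2]
    calc z 1 1 * z 1 2 * (z 2 1 * z 2 2) = z 1 1 * (z 1 2 * z 2 1) * z 2 2 := by group
      _ = z 1 1 * (z 1 1 * z 2 2) * z 2 2 := by rw [he]
      _ = (z 1 1 * z 1 1) * (z 2 2 * z 2 2) := by group
      _ = 1 := by rw [h.sq, h.sq, mul_one]
  rw [Plus.prodC h 0] at h1
  exact h.ne_one 0 0 h1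

theorem Plus.same {x y : G} (hxy : ∀ i j, x * z i j * x⁻¹ = y * z i j * y⁻¹) {v : G}
    (hv : v ∈ zl S P) : x * v * x⁻¹ = y * v * y⁻¹ := by
  rw [← h.gen] at hv
  induction hv using closure_induction with
  | mem v hv => obtain ⟨⟨i, j⟩, rfl⟩ := hv; exact hxy i j
  | one => simp
  | mul a b _ _ ha hb =>
    calc x * (a * b) * x⁻¹ = (x * a * x⁻¹) * (x * b * x⁻¹) := by group
      _ = (y * a * y⁻¹) * (y * b * y⁻¹) := by rw [ha, hb]
      _ = _ := by group
  | inv a _ ha =>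
    calc x * a⁻¹ * x⁻¹ = (x * a * x⁻¹)⁻¹ := by group
      _ = (y * a * y⁻¹)⁻¹ := by rw [ha]
      _ = _ := by group

/-- `s ∈ P` fixing `z 0 0`: few fixed points, trivial, or one of two transvections. -/
theorem Plus.types [Finite G] (hc : Nat.card ↥(zl S P) = 16) {s : G} (hs : s ∈ P)
    (h0 : s * z 0 0 * s⁻¹ = z 0 0) :
    Nat.card ↥(zl S P ⊓ centralizer ({s} : Set G)) ≤ 4 ∨ (∀ i j, s * z i j * s⁻¹ = z i j) ∨
      (∀ i j, s * z i j * s⁻¹ = z j i) ∨
      (∀ i j, s * z i j * s⁻¹ = z (Equiv.swap 1 2 j) (Equiv.swap 1 2 i)) := by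
  have key : ∀ v ∈ zl S P, ∀ w ∈ zl S P, ∀ v' w' p p' : G, s * v * s⁻¹ = v' → s * w * s⁻¹ = w' →
      v * w = p → v' * w' = p' → v' ≠ v → w' ≠ w → p' ≠ p →
      Nat.card ↥(zl S P ⊓ centralizer ({s} : Set G)) ≤ 4 := by
    intro v hv w hw v' w' p p' h1 h2 h3 h4 h5 h6 h7
    refine card_le_four hc hv hw (by rw [h1]; exact h5) (by rw [h2]; exact h6) ?_
    have h8 : s * (v * w) * s⁻¹ = p' := by
      rw [← h4, ← h1, ← h2]; group
    rw [h8, h3]; exact h7
  have hne : ∀ i j k l : Fin 3, ¬ (i = k ∧ j = l) → z i j ≠ z k l := fun i j k l hn he =>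
    hn (h.inj _ _ _ _ he)
  have hfix : ∀ σ : Equiv.Perm (Fin 3), σ 0 = 0 → σ = 1 ∨ σ = Equiv.swap 1 2 := by decide
  have e1 : (Equiv.swap (1 : Fin 3) 2) 1 = 2 := by decide
  have e2 : (Equiv.swap (1 : Fin 3) 2) 2 = 1 := by decide
  obtain ⟨σ, τ, hst | hst⟩ := h.perm s hs
  · have h1 := hst 0 0
    rw [h0] at h1
    obtain ⟨h2, h3⟩ := h.inj _ _ _ _ h1
    rcases hfix σ h2.symm with rfl | rfl <;> rcases hfix τ h3.symm with rfl | rfl
    · right; left; intro i j; rw [hst]; rfl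
    · left
      refine key _ (Plus.mem h 1 1) _ (Plus.mem h 2 1) _ _ _ (z 0 2) (hst 1 1) (hst 2 1)
        (Plus.prodC h 1) ?_ ?_ ?_ ?_
      · simp only [Equiv.Perm.coe_one, id_eq, e1]; exact Plus.prodC h 2
      · exact hne _ _ _ _ (by decide)
      · exact hne _ _ _ _ (by decide)
      · exact hne _ _ _ _ (by decide)
    · left
      refine key _ (Plus.mem h 1 1) _ (Plus.mem h 1 2) _ _ _ (z 2 0) (hst 1 1) (hst 1 2)
        (Plus.prodR h 1) ?_ ?_ ?_ ?_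
      · simp only [Equiv.Perm.coe_one, id_eq, e1]; exact Plus.prodR h 2
      · exact hne _ _ _ _ (by decide)
      · exact hne _ _ _ _ (by decide)
      · exact hne _ _ _ _ (by decide)
    · left
      refine key _ (Plus.mem h 1 1) _ (Plus.mem h 1 2) _ _ _ (z 2 0) (hst 1 1) (hst 1 2)
        (Plus.prodR h 1) ?_ ?_ ?_ ?_
      · simp only [e1, e2]; rw [h.comm]; exact Plus.prodR h 2
      · exact hne _ _ _ _ (by decide)
      · exact hne _ _ _ _ (by decide)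
      · exact hne _ _ _ _ (by decide)
  · have h1 := hst 0 0
    rw [h0] at h1
    obtain ⟨h2, h3⟩ := h.inj _ _ _ _ h1
    rcases hfix σ h2.symm with rfl | rfl <;> rcases hfix τ h3.symm with rfl | rfl
    · right; right; left; intro i j; rw [hst]; rfl
    · left
      refine key _ (Plus.mem h 1 1) _ (Plus.mem h 2 2) _ _ _ _ (hst 1 1) (hst 2 2) rfl rfl ?_ ?_ ?_
      · exact hne _ _ _ _ (by decide)
      · exact hne _ _ _ _ (by decide)
      · simp only [Equiv.Perm.coe_one, id_eq, e1, e2]; exact Plus.ne_diag h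
    · left
      refine key _ (Plus.mem h 1 1) _ (Plus.mem h 2 2) _ _ _ _ (hst 1 1) (hst 2 2) rfl rfl ?_ ?_ ?_
      · exact hne _ _ _ _ (by decide)
      · exact hne _ _ _ _ (by decide)
      · simp only [Equiv.Perm.coe_one, id_eq, e1, e2]; rw [h.comm]; exact Plus.ne_diag h
    · right; right; right; exact hst

/-- a subgroup of `S` with three cosets of `V` contains an element with few fixed points. -/
theorem Plus.exists_le [Finite G] (hc : Nat.card ↥(zl S P) = 16) (hSP : S ≤ P)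
    (h0 : ∀ s ∈ S, s * z 0 0 * s⁻¹ = z 0 0)
    (hC : ∀ s ∈ S, (∀ v ∈ zl S P, s * v = v * s) → s ∈ zl S P) {X : Subgroup G} (hXS : X ≤ S)
    (hX : 3 ≤ (zl S P).relIndex X) :
    ∃ x ∈ X, Nat.card ↥(zl S P ⊓ centralizer ({x} : Set G)) ≤ 4 := by
  obtain ⟨x, hx, y, hy, hxV, hyV, hxyV⟩ := exists_pair hX
  have hcen : ∀ s ∈ S, (∀ i j, s * z i j * s⁻¹ = z i j) → s ∈ zl S P := by
    intro s hs hs'
    refine hC s hs fun v hv => conj_eq_iff.1 ?_
    have := Plus.same h (x := s) (y := 1) (fun i j => by rw [hs']; simp) hv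
    rw [this]; simp
  have hsame : ∀ f : Fin 3 → Fin 3 → G, (∀ i j, x * z i j * x⁻¹ = f i j) →
      (∀ i j, y * z i j * y⁻¹ = f i j) → False := by
    intro f h1 h2
    apply hxyV
    refine hcen _ (mul_mem (inv_mem (hXS hx)) (hXS hy)) fun i j => ?_
    calc x⁻¹ * y * z i j * (x⁻¹ * y)⁻¹ = x⁻¹ * (y * z i j * y⁻¹) * x := by group
      _ = x⁻¹ * (x * z i j * x⁻¹) * x := by rw [h1, h2]
      _ = z i j := by group
  have e3 : ∀ i : Fin 3, (Equiv.swap (1 : Fin 3) 2) ((Equiv.swap (1 : Fin 3) 2) i) = i := by decide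
  have hxy : ∀ x ∈ X, ∀ y ∈ X, (∀ i j, x * z i j * x⁻¹ = z j i) →
      (∀ i j, y * z i j * y⁻¹ = z (Equiv.swap 1 2 j) (Equiv.swap 1 2 i)) →
      ∃ x ∈ X, Nat.card ↥(zl S P ⊓ centralizer ({x} : Set G)) ≤ 4 := by
    intro x hx y hy h1 h2
    refine ⟨x * y, mul_mem hx hy, ?_⟩
    have h3 : ∀ i j, x * y * z i j * (x * y)⁻¹ = z (Equiv.swap 1 2 i) (Equiv.swap 1 2 j) := by
      intro i j
      calc x * y * z i j * (x * y)⁻¹ = x * (y * z i j * y⁻¹) * x⁻¹ := by group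
        _ = _ := by rw [h2, h1]
    rcases Plus.types h hc (hSP (hXS (mul_mem hx hy))) (h0 _ (hXS (mul_mem hx hy))) with
      h4 | h4 | h4 | h4
    · exact h4
    · exfalso
      have h5 := (h3 1 1).symm.trans (h4 1 1)
      exact absurd (h.inj _ _ _ _ h5) (by decide)
    · exfalso
      have h5 := (h3 1 1).symm.trans (h4 1 1)
      exact absurd (h.inj _ _ _ _ h5) (by decide)
    · exfalso
      have h5 := (h3 1 2).symm.trans (h4 1 2)
      exact absurd (h.inj _ _ _ _ h5) (by decide)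
  rcases Plus.types h hc (hSP (hXS hx)) (h0 _ (hXS hx)) with h1 | h1 | h1 | h1
  · exact ⟨x, hx, h1⟩
  · exact absurd (hcen x (hXS hx) h1) hxV
  · rcases Plus.types h hc (hSP (hXS hy)) (h0 _ (hXS hy)) with h2 | h2 | h2 | h2
    · exact ⟨y, hy, h2⟩
    · exact absurd (hcen y (hXS hy) h2) hyV
    · exact (hsame _ h1 h2).elim
    · exact hxy x hx y hy h1 h2
  · rcases Plus.types h hc (hSP (hXS hy)) (h0 _ (hXS hy)) with h2 | h2 | h2 | h2
    · exact ⟨y, hy, h2⟩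
    · exact absurd (hcen y (hXS hy) h2) hyV
    · exact hxy y hy x hx h2 h1
    · exact (hsame _ h1 h2).elim

end plus

/-! ### Type (α) -/

theorem d5_exists : ∀ {a b c d : Fin 5}, D4 a b c d → ∃ m, D5 a b c d m := by decide +kernel

theorem d5_of : ∀ m : Fin 5, ∃ a b c d, D5 a b c d m := by decide +kernel

theorem all5 : ∀ {a b c d m : Fin 5}, D5 a b c d m → ∀ t, t = a ∨ t = b ∨ t = c ∨ t = d ∨ t = m := by
  decide +kernel

theorem map4 {a b c d : Fin 5} (h : D4 a b c d) (σ : Equiv.Perm (Fin 5)) :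
    D4 (σ a) (σ b) (σ c) (σ d) := by
  obtain ⟨h1, h2, h3, h4, h5, h6⟩ := h
  refine ⟨?_, ?_, ?_, ?_, ?_, ?_⟩ <;> simpa

theorem map5 {a b c d m : Fin 5} (h : D5 a b c d m) (σ : Equiv.Perm (Fin 5)) :
    D5 (σ a) (σ b) (σ c) (σ d) (σ m) := by
  obtain ⟨h0, h1, h2, h3, h4⟩ := h
  refine ⟨map4 h0 σ, ?_, ?_, ?_, ?_⟩ <;> simpa

section alp

variable {P V : Subgroup G} {Z : Fin 5 → Fin 5 → Fin 5 → Fin 5 → G} (h : Alp P V Z)
include h

theorem Alp.L2 {a b c d m : Fin 5} (hd : D5 a b c d m) : Z a b c d ≠ Z a b c m := by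
  obtain ⟨⟨h1, h2, h3, h4, h5, h6⟩, h7, h8, h9, h10⟩ := hd
  intro he
  have h11 := h.line2 a b c d m ⟨⟨h1, h2, h3, h4, h5, h6⟩, h7, h8, h9, h10⟩
  rw [← he, h.sq _ (h.mem _ _ _ _ ⟨h1, h2, h3, h4, h5, h6⟩)] at h11
  exact h.ne_one a b d m ⟨h1, h3, h7.symm, h5, h8.symm, h10.symm⟩ h11.symm

theorem Alp.L3 {a b c d m : Fin 5} (hd : D5 a b c d m) : Z a b c d ≠ Z b c d m := by
  obtain ⟨⟨h1, h2, h3, h4, h5, h6⟩, h7, h8, h9, h10⟩ := hd
  intro he
  have h11 := h.hyp a b c d m ⟨⟨h1, h2, h3, h4, h5, h6⟩, h7, h8, h9, h10⟩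
  rw [← he, h.sq _ (h.mem _ _ _ _ ⟨h1, h2, h3, h4, h5, h6⟩)] at h11
  exact h.ne_one b m a d ⟨h8.symm, h1.symm, h5, h7, h10, h3⟩ h11.symm

theorem Alp.e3 {a b c d : Fin 5} (hd : D4 a b c d) : Z a b c d = Z a b d c := by
  obtain ⟨h1, h2, h3, h4, h5, h6⟩ := hd
  rw [h.swap2 a b c d ⟨h1, h2, h3, h4, h5, h6⟩,
    h.swap1 c d a b ⟨h6, h2.symm, h4.symm, h3.symm, h5.symm, h1⟩,
    h.swap2 d c a b ⟨h6.symm, h3.symm, h5.symm, h2.symm, h4.symm, h1⟩]

/-- `{x, y, w} = {a, b, c}` -/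
theorem Alp.missA {a b c d m x y w : Fin 5} (hd : D5 a b c d m) (hd' : D5 x y w m d) :
    Z a b c d ≠ Z x y w m := by
  have key : Z a b c d ≠ Z a b c m := Alp.L2 h hd
  obtain ⟨⟨h1, h2, h3, h4, h5, h6⟩, h7, h8, h9, h10⟩ := id hd
  obtain ⟨⟨k1, k2, k3, k4, k5, k6⟩, k7, k8, k9, k10⟩ := id hd'
  have key2 : Z a b c d ≠ Z c b a m := by
    have e : Z a b c d = Z d c b a := by
      rw [h.swap2 a b c d hd.1, h.swap1 c d a b ⟨h6, h2.symm, h4.symm, h3.symm, h5.symm, h1⟩,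
        Alp.e3 h ⟨h6.symm, h3.symm, h5.symm, h2.symm, h4.symm, h1⟩]
    rw [e]
    exact Alp.L3 h ⟨⟨h6.symm, h5.symm, h3.symm, h4.symm, h2.symm, h1.symm⟩, h10, h9, h8, h7⟩
  have key3 : Z a b c d ≠ Z c a b m := by
    have e : Z a b c d = Z d c a b := by
      rw [h.swap2 a b c d hd.1, h.swap1 c d a b ⟨h6, h2.symm, h4.symm, h3.symm, h5.symm, h1⟩]
    rw [e]
    exact Alp.L3 h ⟨⟨h6.symm, h3.symm, h5.symm, h2.symm, h4.symm, h1⟩, h10, h9, h7, h8⟩
  have hx := all5 hd x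
  have hy := all5 hd y
  have hw := all5 hd w
  rcases hx with rfl | rfl | rfl | hx | hx
  · rcases hy with hy | rfl | rfl | hy | hy
    · exact absurd hy.symm k1
    · rcases hw with hw | hw | rfl | hw | hw
      · exact absurd hw.symm k2
      · exact absurd hw.symm k4
      · exact key
      · exact absurd hw.symm k9
      · exact absurd hw k6
    · rcases hw with hw | rfl | hw | hw | hw
      · exact absurd hw.symm k2
      · rw [h.swap1 x y w m hd'.1]; exact key3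
      · exact absurd hw.symm k4
      · exact absurd hw.symm k9
      · exact absurd hw k6
    · exact absurd hy.symm k8
    · exact absurd hy k5
  · rcases hy with rfl | hy | rfl | hy | hy
    · rcases hw with hw | hw | rfl | hw | hw
      · exact absurd hw.symm k4
      · exact absurd hw.symm k2
      · rw [h.swap1 x y w m hd'.1]; exact key
      · exact absurd hw.symm k9
      · exact absurd hw k6
    · exact absurd hy.symm k1
    · rcases hw with rfl | hw | hw | hw | hw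
      · rw [h.swap1 x y w m hd'.1]; exact key2
      · exact absurd hw.symm k2
      · exact absurd hw.symm k4
      · exact absurd hw.symm k9
      · exact absurd hw k6
    · exact absurd hy.symm k8
    · exact absurd hy k5
  · rcases hy with rfl | rfl | hy | hy | hy
    · rcases hw with hw | rfl | hw | hw | hw
      · exact absurd hw.symm k4
      · exact key3
      · exact absurd hw.symm k2
      · exact absurd hw.symm k9
      · exact absurd hw k6
    · rcases hw with rfl | hw | hw | hw | hw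
      · exact key2
      · exact absurd hw.symm k4
      · exact absurd hw.symm k2
      · exact absurd hw.symm k9
      · exact absurd hw k6
    · exact absurd hy.symm k1
    · exact absurd hy.symm k8
    · exact absurd hy k5
  · exact absurd hx.symm k7
  · exact absurd hx k3

theorem Alp.missB {a b c d m x y w : Fin 5} (hd : D5 a b c d m) (hd' : D4 x y w m) :
    Z a b c d ≠ Z x y w m := by
  obtain ⟨t, ht⟩ := d5_exists hd'
  obtain ⟨⟨h1, h2, h3, h4, h5, h6⟩, h7, h8, h9, h10⟩ := id hd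
  rcases all5 hd t with rfl | rfl | rfl | rfl | h0
  · rw [h.swap2 t b c d hd.1, Alp.e3 h ⟨h6, h2.symm, h4.symm, h3.symm, h5.symm, h1⟩]
    exact Alp.missA h ⟨⟨h6, h4.symm, h2.symm, h5.symm, h3.symm, h1.symm⟩, h9, h10, h8, h7⟩ ht
  · rw [h.swap2 a t c d hd.1]
    exact Alp.missA h ⟨⟨h6, h2.symm, h4.symm, h3.symm, h5.symm, h1⟩, h9, h10, h7, h8⟩ ht
  · rw [Alp.e3 h hd.1]
    exact Alp.missA h ⟨⟨h1, h3, h2, h5, h4, h6.symm⟩, h7, h8, h10, h9⟩ ht
  · exact Alp.missA h hd ht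
  · exact absurd h0 ht.2.2.2.2

/-- points with different missing indices are different -/
theorem Alp.miss {a b c d m x y w v : Fin 5} (hd : D5 a b c d m) (hd' : D4 x y w v)
    (hm : m = x ∨ m = y ∨ m = w ∨ m = v) : Z a b c d ≠ Z x y w v := by
  obtain ⟨h1, h2, h3, h4, h5, h6⟩ := id hd'
  rcases hm with rfl | rfl | rfl | rfl
  · rw [h.swap2 m y w v hd', Alp.e3 h ⟨h6, h2.symm, h4.symm, h3.symm, h5.symm, h1⟩]
    exact Alp.missB h hd ⟨h6, h4.symm, h2.symm, h5.symm, h3.symm, h1.symm⟩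
  · rw [h.swap2 x m w v hd']
    exact Alp.missB h hd ⟨h6, h2.symm, h4.symm, h3.symm, h5.symm, h1⟩
  · rw [Alp.e3 h hd']
    exact Alp.missB h hd ⟨h1, h3, h2, h5, h4, h6.symm⟩
  · exact Alp.missB h hd hd'

/-- an element of `P` which does not centralise `V` has few fixed points. -/
theorem Alp.le_four [Finite G] {s : G} (hs : s ∈ P) (hsV : ¬ ∀ v ∈ V, s * v = v * s) :
    Nat.card ↥(V ⊓ centralizer ({s} : Set G)) ≤ 4 := by
  obtain ⟨σ, hσ⟩ := h.act s hs
  have h1 : ∃ m, σ m ≠ m := by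
    by_contra hcon
    push Not at hcon
    apply hsV
    intro v hv
    by_cases hv1 : v = 1
    · rw [hv1, mul_one, one_mul]
    obtain ⟨a, b, c, d, hd, rfl⟩ := h.surj v hv hv1
    have h2 := hσ a b c d hd
    rw [hcon, hcon, hcon, hcon] at h2
    exact conj_eq_iff.1 h2
  obtain ⟨m, hm⟩ := h1
  obtain ⟨a, b, c, d, hd⟩ := d5_of m
  obtain ⟨⟨h1, h2, h3, h4, h5, h6⟩, h7, h8, h9, h10⟩ := id hd
  have hmv : ∀ {x y w v : Fin 5}, D5 x y w v m → s * Z x y w v * s⁻¹ ≠ Z x y w v := by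
    intro x y w v hD
    rw [hσ x y w v hD.1]
    refine (Alp.miss h hD (map4 hD.1 σ) ?_).symm
    rcases all5 (map5 hD σ) m with h0 | h0 | h0 | h0 | h0
    · exact Or.inl h0
    · exact Or.inr (Or.inl h0)
    · exact Or.inr (Or.inr (Or.inl h0))
    · exact Or.inr (Or.inr (Or.inr h0))
    · exact absurd h0.symm hm
  have hd2 : D5 a c b d m := ⟨⟨h2, h1, h3, h4.symm, h6, h5⟩, h7, h9, h8, h10⟩
  have hd3 : D5 a d b c m := ⟨⟨h3, h1, h2, h5.symm, h6.symm, h4⟩, h7, h10, h8, h9⟩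
  refine card_le_four h.card (h.mem a b c d hd.1) (h.mem a c b d hd2.1) (hmv hd) (hmv hd2) ?_
  rw [h.line4 a b c d hd.1]
  exact hmv hd3

end alp

/-! ### The end -/

section fin

variable [Finite G] {S : Sylow 2 G} {P V T : Subgroup G} {ι : Type*} {z : ι → G}
  {opp : ι → ι → Prop} {C Q QF Qs : ι → Subgroup G} {i₀ : ι}

/-- If an element `m ∈ P ∩ C(z i₀)` moves some `m²`-image of `v ∈ V`, then `s² ∉ V` for some `s ∈ S`. -/
theorem exists_sq (hb : Base S P V T z opp C Q QF Qs i₀) {m v : G} (hm : m ∈ P)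
    (hmz : m * z i₀ * m⁻¹ = z i₀) (hv : v ∈ V) (hmv : m * (m * v * m⁻¹) * m⁻¹ ≠ v) :
    ∃ s ∈ (S : Subgroup G), s * s ∉ V := by
  obtain ⟨s, hs, c, hc, hcV, rfl⟩ := hb.stab m hm (conj_eq_iff.1 hmz)
  refine ⟨s, hs, fun hss => hmv ?_⟩
  have e1 : ∀ w ∈ V, s * c * w * (s * c)⁻¹ = s * w * s⁻¹ := by
    intro w hw
    calc s * c * w * (s * c)⁻¹ = s * (c * w * c⁻¹) * s⁻¹ := by group
      _ = s * w * s⁻¹ := by rw [conj_eq_iff.2 (hcV w hw)]
  have h1 : s * v * s⁻¹ ∈ V := (mem_normalizer_iff.1 (hb.S_normV hs) v).1 hv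
  rw [e1 v hv, e1 _ h1]
  have h2 := hb.Vab _ hss _ hv
  calc s * (s * v * s⁻¹) * s⁻¹ = (s * s) * v * (s * s)⁻¹ := by group
    _ = v := conj_eq_iff.2 h2

/-- **Type (γ), `T = V`** : the sectional 2-rank is at most 4. -/
theorem _root_.Cfsg.Agent.Omega.NOne.AG.Base.false_of_plus
    (hb : Base S P V T z opp C Q QF Qs i₀) (hT : T = V) (hV : V = zl (S : Subgroup G) P)
    {y : Fin 3 → Fin 3 → G} (h : Plus2 (S : Subgroup G) P y) : False := by
  have hc : Nat.card ↥(zl (S : Subgroup G) P) = 16 := by rw [← hV]; exact hb.cardV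
  -- `z i₀ = y 0 0`
  have h0 : y 0 0 ∈ zc (S : Subgroup G) := by rw [h.Z]; exact mem_zpowers _
  have h1 := mem_zc.1 h0
  have hz : z i₀ = y 0 0 := by
    rcases hb.omega _ h1.1 (h.sq 0 0) h1.2.1 with h2 | h2
    · exact absurd h2 (h.ne_one 0 0)
    · exact h2.symm
  have hcen : ∀ s ∈ (S : Subgroup G), (∀ v ∈ V, s * v = v * s) → s ∈ V := fun s hs hs' => by
    rw [← hT]; exact hb.mem_T hs hs'
  refine hb.ctx.rank (rank_of S hb.cardV hb.S_normV hb.Vab (by rw [← hT]; exact hb.index.le)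
    hb.V_le hcen ?_ ?_)
  · intro X hXS hX
    subst hV
    exact Plus.exists_le h hc hb.S_le_P (fun s hs => conj_eq_iff.2 (h1.2.1 s hs)) hcen hXS hX
  · obtain ⟨m₁, hm₁, hm₁'⟩ := h.swap
    obtain ⟨m₂, hm₂, hm₂'⟩ := h.full (Equiv.swap 1 2) 1
    have hm : ∀ i j, m₂ * m₁ * y i j * (m₂ * m₁)⁻¹ = y (Equiv.swap 1 2 j) i := by
      intro i j
      calc m₂ * m₁ * y i j * (m₂ * m₁)⁻¹ = m₂ * (m₁ * y i j * m₁⁻¹) * m₂⁻¹ := by group
        _ = _ := by rw [hm₁', hm₂']; rfl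
    refine exists_sq hb (m := m₂ * m₁) (v := y 1 1) (mul_mem hm₂ hm₁) ?_ ?_ ?_
    · rw [hz, hm]
      exact congrArg (fun k => y k 0) (by decide)
    · rw [hV]; exact Plus.mem h 1 1
    · rw [hm, hm]
      intro h3
      exact absurd (h.inj _ _ _ _ h3) (by decide)

/-- **Type (α), `T = V`** : the sectional 2-rank is at most 4. -/
theorem _root_.Cfsg.Agent.Omega.NOne.AG.Base.false_of_alp
    (hb : Base S P V T z opp C Q QF Qs i₀) (hT : T = V)
    {Z : Fin 5 → Fin 5 → Fin 5 → Fin 5 → G} (h : Alp P V Z) : False := by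
  have hcen : ∀ s ∈ (S : Subgroup G), (∀ v ∈ V, s * v = v * s) → s ∈ V := fun s hs hs' => by
    rw [← hT]; exact hb.mem_T hs hs'
  refine hb.ctx.rank (rank_of S hb.cardV hb.S_normV hb.Vab (by rw [← hT]; exact hb.index.le)
    hb.V_le hcen ?_ ?_)
  · intro X hXS hX
    obtain ⟨x, hx, _, _, hxV, -⟩ := exists_pair hX
    exact ⟨x, hx, Alp.le_four h (hb.S_le_P (hXS hx)) fun h1 => hxV (hcen x (hXS hx) h1)⟩
  · obtain ⟨a, b, c, d, hd, hz⟩ := h.surj _ (hb.zV i₀) (hb.ne_one i₀)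
    obtain ⟨m, hD⟩ := d5_exists hd
    obtain ⟨⟨h1, h2, h3, h4, h5, h6⟩, h7, h8, h9, h10⟩ := id hD
    obtain ⟨p, hp, hp'⟩ := h.full (Equiv.swap a c * Equiv.swap c b * Equiv.swap b d)
    have ea : (Equiv.swap a c * Equiv.swap c b * Equiv.swap b d) a = c := by
      simp only [Equiv.Perm.mul_apply]
      rw [Equiv.swap_apply_of_ne_of_ne h1 h3, Equiv.swap_apply_of_ne_of_ne h2 h1,
        Equiv.swap_apply_left]
    have ec : (Equiv.swap a c * Equiv.swap c b * Equiv.swap b d) c = b := by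
      simp only [Equiv.Perm.mul_apply]
      rw [Equiv.swap_apply_of_ne_of_ne h4.symm h6, Equiv.swap_apply_left,
        Equiv.swap_apply_of_ne_of_ne h1.symm h4]
    have eb : (Equiv.swap a c * Equiv.swap c b * Equiv.swap b d) b = d := by
      simp only [Equiv.Perm.mul_apply]
      rw [Equiv.swap_apply_left, Equiv.swap_apply_of_ne_of_ne h6.symm h5.symm,
        Equiv.swap_apply_of_ne_of_ne h3.symm h6.symm]
    have ed : (Equiv.swap a c * Equiv.swap c b * Equiv.swap b d) d = a := by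
      simp only [Equiv.Perm.mul_apply]
      rw [Equiv.swap_apply_right, Equiv.swap_apply_right, Equiv.swap_apply_right]
    have em : (Equiv.swap a c * Equiv.swap c b * Equiv.swap b d) m = m := by
      simp only [Equiv.Perm.mul_apply]
      rw [Equiv.swap_apply_of_ne_of_ne h8 h10, Equiv.swap_apply_of_ne_of_ne h9 h8,
        Equiv.swap_apply_of_ne_of_ne h7 h9]
    have hd2 : D4 a c b m := ⟨h2, h1, h7.symm, h4.symm, h9.symm, h8.symm⟩
    have hd3 : D4 c b d m := ⟨h4.symm, h6, h9.symm, h5, h8.symm, h10.symm⟩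
    refine exists_sq hb (m := p) (v := Z a c b m) hp ?_ (h.mem _ _ _ _ hd2) ?_
    · rw [hz, hp' a b c d hd, ea, eb, ec, ed,
        h.swap2 c d b a ⟨h6, h4.symm, h2.symm, h5.symm, h3.symm, h1.symm⟩,
        h.swap1 b a c d ⟨h1.symm, h4, h5, h2, h3, h6⟩]
    · rw [hp' a c b m hd2, ea, ec, eb, em, hp' c b d m hd3, ec, eb, ed, em]
      exact Alp.miss h (m := c) ⟨⟨h5, h1.symm, h8.symm, h3.symm, h10.symm, h7.symm⟩, h4.symm, h6,
        h2.symm, h9.symm⟩ hd2 (Or.inr (Or.inl rfl))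

end fin

end Cfsg.Agent.Omega.NOne.AG.Rank

end

end

-- merged: Cfsg.Agent.Mrg.Omega.NO1.EndMinus
section

/-!
# N1: the end of the type `O₄⁻(2)` (`NO1.EndMinus2`)

THEOREM D0 (`NOne/DZeroPts.lean`, helper302) plugged into the leaf: `F*(C_G(z 0))` is of symplectic type.
-/

set_option autoImplicit false
set_option linter.unusedSectionVars false

namespace Cfsg.Agent.Omega.NO1

open Subgroup Cfsg Cfsg.Agent.ZN Cfsg.Agent.Omega.MinPar Cfsg.Agent.Omega.Frame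
open Cfsg.Agent.Omega.NoFF.LinesPlug (CC)
open Cfsg.Agent.Co2Type.Quad (Large)

universe u

variable {G : Type u} [Group G]

/-- an isomorphism of `O₂(C_G(z))` as subgroup of `G` with the subgroup of `C_G(z)` -/
noncomputable def o2Equiv (z : G) :
    ↥(o2 (centralizer ({z} : Set G))) ≃* ↥(pCore 2 ↥(centralizer ({z} : Set G))) :=
  ((pCore 2 ↥(centralizer ({z} : Set G))).equivMapOfInjective _
    (centralizer ({z} : Set G)).subtype_injective).symm

/-- `O₂(C_G(z))` large extraspecial of order `> 8` gives `F*(C_G(z))` of symplectic type. -/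
theorem sympl_of_large [Finite G] (hG : IsCharacteristicTwoType G) {z : G}
    (h : Large (o2 (centralizer ({z} : Set G))) z)
    (h8 : 8 < Nat.card ↥(o2 (centralizer ({z} : Set G)))) : Sympl z := by
  have hz : orderOf z = 2 := orderOf_eq_prime (by rw [pow_two]; exact h.z_sq) h.z_ne
  refine ⟨hz, ?_⟩
  have h1 : IsExtraspecial 2 ↥(o2 (centralizer ({z} : Set G))) :=
    LargeExtra.Nine.ToCent.isExtraspecial_Q h (by omega)
  have h2 : IsExtraspecial 2 ↥(pCore 2 ↥(centralizer ({z} : Set G))) :=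
    J2.ExtQuot.isExtraspecial_of_equiv (o2Equiv z) h1
  rw [Exits.genFitting_centralizer hG hz]
  refine GH.C2Extra.isOfSymplecticType h2 ?_
  rwa [← Nat.card_congr (o2Equiv z).toEquiv]

/-! ### The five points -/

namespace Minus2

variable {S P : Subgroup G} {z : Fin 5 → G}

theorem prod' (h : Minus2 S P z) (a b c d e : Fin 5) (hn : [a, b, c, d, e].Nodup) :
    z a * z b * z c * z d * z e = 1 := by
  classical
  let _ : CommGroup (closure (Set.range z)) := closureCommGroupOfComm (by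
    rintro _ ⟨i, rfl⟩ _ ⟨j, rfl⟩
    exact h.comm i j)
  let y : Fin 5 → closure (Set.range z) := fun i => ⟨z i, subset_closure ⟨i, rfl⟩⟩
  have h1 : ∏ i, y i = 1 := by
    rw [Fin.prod_univ_five]
    exact Subtype.ext h.prod
  have h2 : (Finset.univ : Finset (Fin 5)) = {a, b, c, d, e} := by
    symm
    apply Finset.eq_univ_of_card
    simp only [List.nodup_cons, List.mem_cons, List.not_mem_nil, or_false, not_or,
      not_false_eq_true, List.nodup_nil, and_true] at hn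
    obtain ⟨⟨h1, h2, h3, h4⟩, ⟨h5, h6, h7⟩, ⟨h8, h9⟩, h10⟩ := hn
    simp [h1, h2, h3, h4, h5, h6, h7, h8, h9, h10]
  rw [h2] at h1
  simp only [List.nodup_cons, List.mem_cons, List.not_mem_nil, or_false, not_or,
    not_false_eq_true, List.nodup_nil, and_true] at hn
  obtain ⟨⟨n1, n2, n3, n4⟩, ⟨n5, n6, n7⟩, ⟨n8, n9⟩, n10⟩ := hn
  rw [Finset.prod_insert (by simp [n1, n2, n3, n4]), Finset.prod_insert (by simp [n5, n6, n7]),
    Finset.prod_insert (by simp [n8, n9]), Finset.prod_insert (by simp [n10]),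
    Finset.prod_singleton] at h1
  have h3 := congrArg Subtype.val h1
  have h4 : z a * (z b * (z c * (z d * z e))) = 1 := h3
  rw [← h4]; group

theorem mem (h : Minus2 S P z) (i : Fin 5) : z i ∈ zl S P := by
  rw [← h.gen]; exact subset_closure ⟨i, rfl⟩

theorem elts (h : Minus2 S P z) (v : G) (hv : v ∈ zl S P) :
    v = 1 ∨ (∃ i, v = z i) ∨ ∃ i j, i ≠ j ∧ v = z i * z j := by
  have key : ∀ v : G, (v = 1 ∨ (∃ i, v = z i) ∨ ∃ i j, i ≠ j ∧ v = z i * z j) → ∀ k,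
      (v * z k = 1 ∨ (∃ i, v * z k = z i) ∨ ∃ i j, i ≠ j ∧ v * z k = z i * z j) := by
    rintro v (rfl | ⟨i, rfl⟩ | ⟨i, j, hij, rfl⟩) k
    · right; left; exact ⟨k, one_mul _⟩
    · by_cases hik : i = k
      · subst hik; left; exact h.sq i
      · right; right; exact ⟨i, k, hik, rfl⟩
    · by_cases hik : i = k
      · subst hik
        right; left
        refine ⟨j, ?_⟩
        rw [h.comm i j, mul_assoc, h.sq, mul_one]
      · by_cases hjk : j = k
        · subst hjk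
          right; left
          exact ⟨i, by rw [mul_assoc, h.sq, mul_one]⟩
        · right; right
          obtain ⟨l, m, hn⟩ := NOne.DZero.exists_two i j k (by simp [hij, hik, hjk])
          have h1 := h.prod' i j k l m hn
          have hn' := hn
          simp only [List.nodup_cons, List.mem_cons, List.not_mem_nil, or_false, not_or,
            not_false_eq_true, List.nodup_nil, and_true] at hn'
          refine ⟨l, m, hn'.2.2.2, ?_⟩
          have h2 : z i * z j * z k * (z l * z m) = 1 := by rw [← h1]; group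
          have h3 : (z l * z m)⁻¹ = z l * z m := by
            rw [mul_inv_rev, inv_eq_of_mul_eq_one_left (h.sq l), inv_eq_of_mul_eq_one_left (h.sq m),
              h.comm]
          rw [← h3]
          exact eq_inv_of_mul_eq_one_left h2
  rw [← h.gen] at hv
  induction hv using closure_induction_right with
  | one => left; rfl
  | mul_right x _ y hy ih =>
    obtain ⟨k, rfl⟩ := hy
    exact key x ih k
  | mul_inv_cancel x _ y hy ih =>
    obtain ⟨k, rfl⟩ := hy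
    rw [inv_eq_of_mul_eq_one_left (h.sq k)]
    exact key x ih k

/-- The data of `NOne/DZeroPts.lean`. -/
theorem pts (h : Minus2 S P z) : NOne.DZeroPts.Pts P (zl S P) z where
  mem := h.mem
  gen := h.elts
  inj := h.inj
  ne_one := h.ne_one
  sq := h.sq
  comm := h.comm
  prod a b c d e hn := by
    have h1 := h.prod' a b c d e hn
    have h2 := eq_inv_of_mul_eq_one_left h1
    rw [inv_eq_of_mul_eq_one_left (h.sq e)] at h2
    exact h2
  perm := h.perm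
  alt σ hσ := h.alt σ (Equiv.Perm.mem_alternatingGroup.2 hσ)

end Minus2

theorem CC_eq_of_zpowers {S : Subgroup G} {z : G} (h : zc S = zpowers z) :
    CC S = centralizer ({z} : Set G) := by
  rw [CC, h]
  exact NOne.DZeroPts.CC_eq z

/-- The hypotheses of `DZeroPts.dz`, `DZeroPts.large` from the leaf. -/
theorem minus_hyps [Finite G] {S : Sylow 2 G} {P : Subgroup G} (h : Cfg S P) {z : Fin 5 → G}
    (hz : Minus2 (S : Subgroup G) P z) :
    (∀ s ∈ (S : Subgroup G), s * z 0 = z 0 * s) ∧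
    (∀ x ∈ (S : Subgroup G), (∀ s ∈ (S : Subgroup G), x * s = s * x) → x * x = 1 →
      x = 1 ∨ x = z 0) ∧
    ¬ zl (S : Subgroup G) P ≤ o2 (centralizer ({z 0} : Set G)) := by
  refine ⟨?_, ?_, ?_⟩
  · intro s hs
    have h1 : z 0 ∈ zc (S : Subgroup G) := by rw [hz.Z]; exact mem_zpowers _
    exact (mem_zc.1 h1).2.1 s hs
  · intro x hx hxs hxx
    have h1 : x ∈ zc (S : Subgroup G) := mem_zc.2 ⟨hx, fun s hs => (hxs s hs).symm, by rw [pow_two]; exact hxx⟩
    rw [hz.Z, mem_zpowers_iff] at h1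
    obtain ⟨k, rfl⟩ := h1
    rcases Int.even_or_odd' k with ⟨m, rfl | rfl⟩
    · left
      rw [zpow_mul, show (z 0) ^ (2 : ℤ) = 1 by rw [zpow_two]; exact hz.sq 0, one_zpow]
    · right
      rw [zpow_add, zpow_mul, show (z 0) ^ (2 : ℤ) = 1 by rw [zpow_two]; exact hz.sq 0, one_zpow,
        one_mul, zpow_one]
  · rw [← CC_eq_of_zpowers hz.Z]
    exact h.one.not_le

/-- `|O₂(C_G(z 0))| > 8` in type `O₄⁻(2)`. -/
theorem card_gt [Finite G] {S : Sylow 2 G} {P : Subgroup G} (h : Cfg S P) {z : Fin 5 → G}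
    (hz : Minus2 (S : Subgroup G) P z)
    (hL : Large (o2 (centralizer ({z 0} : Set G))) (z 0)) :
    8 < Nat.card ↥(o2 (centralizer ({z 0} : Set G))) := by
  have : Fact (Nat.Prime 2) := ⟨Nat.prime_two⟩
  obtain ⟨h1, h2, h3⟩ := minus_hyps h hz
  have hd := NOne.DZeroPts.dz h.ctx.char2 S hz.pts (Cfg.P_norm_V S P) h.S_le h.V_le_S h1 h2 h3
  set V := zl (S : Subgroup G) P with hV
  set Q := o2 (centralizer ({z 0} : Set G)) with hQ
  have hQQ : NOne.DZeroPts.QQ (z 0) = Q := by rw [NOne.DZeroPts.QQ, NOne.DZeroPts.CC_eq]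
  -- five elements of `V ∩ Q`
  have m0 : z 0 ∈ V ⊓ Q := ⟨hz.mem 0, hL.z_mem⟩
  have mp : ∀ j k : Fin 5, j ≠ 0 → k ≠ 0 → j ≠ k → z j * z k ∈ V ⊓ Q := by
    intro j k hj hk hjk
    refine ⟨mul_mem (hz.mem j) (hz.mem k), ?_⟩
    have h4 := hd.le 0 (hd.pair 0 j k hj hk hjk)
    rwa [hQQ] at h4
  have n1 : ∀ j k : Fin 5, j ≠ k → z j * z k ≠ 1 := by
    intro j k hjk e
    apply hjk
    apply hz.inj
    rw [eq_inv_of_mul_eq_one_left e, inv_eq_of_mul_eq_one_left (hz.sq k)]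
  have n0 : ∀ j k : Fin 5, j ≠ 0 → k ≠ 0 → j ≠ k → z j * z k ≠ z 0 := by
    intro j k hj hk hjk e
    obtain ⟨l, m, hn⟩ := NOne.DZero.exists_two 0 j k (by simp [Ne.symm hj, Ne.symm hk, hjk])
    have h4 := hz.prod' 0 j k l m hn
    simp only [List.nodup_cons, List.mem_cons, List.not_mem_nil, or_false, not_or,
      not_false_eq_true, List.nodup_nil, and_true] at hn
    refine n1 l m hn.2.2.2 ?_
    have h5 : z 0 * (z j * z k) * (z l * z m) = 1 := by rw [← h4]; group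
    rwa [e, hz.sq, one_mul] at h5
  have np : ∀ a b c d : Fin 5, a ≠ b → c ≠ d → ¬ ((a = c ∧ b = d) ∨ (a = d ∧ b = c)) →
      z a * z b ≠ z c * z d := fun a b c d hab hcd hn e => hn (hd.pair_inj hab hcd e)
  have hfive : 5 ≤ Nat.card ↥(V ⊓ Q) := by
    classical
    let L : List G := [1, z 0, z 1 * z 2, z 1 * z 3, z 2 * z 3]
    have hnd : L.Nodup := by
      simp only [L, List.nodup_cons, List.mem_cons, List.not_mem_nil, or_false, not_or,
        not_false_eq_true, List.nodup_nil, and_true]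
      refine ⟨⟨(hz.ne_one 0).symm, (n1 1 2 (by decide)).symm, (n1 1 3 (by decide)).symm,
        (n1 2 3 (by decide)).symm⟩, ⟨(n0 1 2 (by decide) (by decide) (by decide)).symm,
        (n0 1 3 (by decide) (by decide) (by decide)).symm,
        (n0 2 3 (by decide) (by decide) (by decide)).symm⟩,
        ⟨np 1 2 1 3 (by decide) (by decide) (by decide), np 1 2 2 3 (by decide) (by decide) (by decide)⟩,
        np 1 3 2 3 (by decide) (by decide) (by decide)⟩
    have hmem : ∀ x ∈ L.toFinset, x ∈ V ⊓ Q := by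
      intro x hx
      simp only [L, List.mem_toFinset, List.mem_cons, List.not_mem_nil, or_false] at hx
      rcases hx with rfl | rfl | rfl | rfl | rfl
      · exact one_mem _
      · exact m0
      · exact mp 1 2 (by decide) (by decide) (by decide)
      · exact mp 1 3 (by decide) (by decide) (by decide)
      · exact mp 2 3 (by decide) (by decide) (by decide)
    have h4 : L.toFinset.card = 5 := List.toFinset_card_of_nodup hnd
    have h5 : (L.toFinset : Set G).ncard ≤ ((V ⊓ Q : Subgroup G) : Set G).ncard :=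
      Set.ncard_le_ncard hmem (Set.toFinite _)
    rw [Set.ncard_coe_finset, h4, ← Nat.card_coe_set_eq] at h5
    exact h5
  by_contra hcon
  push Not at hcon
  obtain ⟨n, hn⟩ := IsPGroup.iff_card.1 (MinSimple.VModule.o2_isPGroup (centralizer ({z 0} : Set G)))
  rw [← hQ] at hn
  have hdvd : Nat.card ↥(V ⊓ Q) ∣ 2 ^ n := by
    rw [← hn]; exact card_dvd_of_le inf_le_right
  obtain ⟨m, hm, hm'⟩ := (Nat.dvd_prime_pow Nat.prime_two).1 hdvd
  have h5 : 3 ≤ m := by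
    by_contra hlt
    have : 2 ^ m ≤ 2 ^ 2 := Nat.pow_le_pow_right (by norm_num) (by omega)
    omega
  have h6 : n ≤ 3 := by
    by_contra hlt
    have : 2 ^ 4 ≤ 2 ^ n := Nat.pow_le_pow_right (by norm_num) (by omega)
    omega
  have h7 : V ⊓ Q = Q := by
    apply Subgroup.eq_of_le_of_card_ge inf_le_right
    rw [hm', hn]
    exact Nat.pow_le_pow_right (by norm_num) (by omega)
  apply h3
  intro v hv
  have hvc : ∀ w ∈ V, v * w = w * v := fun w hw =>
    (mem_centralizer_iff.1 (h.V_comm hv) w hw).symm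
  exact hL.self v (hvc _ (hz.mem 0)) fun x hx => hvc x (inf_eq_right.1 h7 hx)

/-- **`EndMinus2`** (THEOREM D0). -/
theorem endMinus2 : EndMinus2.{u} := by
  intro G _ _ S P h z hz
  obtain ⟨h1, h2, h3⟩ := minus_hyps h hz
  have hL := NOne.DZeroPts.large h.ctx.char2 S hz.pts (Cfg.P_norm_V S P) h.S_le h.V_le_S h1 h2 h3
  exact sympl_of_large h.ctx.char2 hL (card_gt h hz hL)

end Cfsg.Agent.Omega.NO1

end

-- merged: Cfsg.Agent.Mrg.Omega.NOne.AG.GammaV
section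

/-!
# THEOREM D0ag (bb #15001): type (γ), `Δ = V`

`Base.Dl_le_of`: `r₁, r₂ ∈ P` of order 3 modulo `C_P(V)`, `C_V(r₁) = 1`, `⟨r₁, r₂⟩ C_P(V)` abelian modulo `C_P(V)` and
`r₁^P ⊆ {r₁^{±1}, r₂^{±1}} C_P(V)`: `Δ = V`.  `Base.Dl_le_of_plus2`: this for `V = O₄⁺(2)`.
-/

set_option autoImplicit false

namespace Cfsg.Agent.Omega.NOne.AG

open Subgroup Cfsg Cfsg.Agent.ZN Cfsg.Agent.Omega.MinPar Cfsg.Agent.Omega.Frame

universe u

variable {G : Type u} [Group G] {ι : Type*}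

namespace Base

variable [Finite G] {S : Sylow 2 G} {P V T : Subgroup G} {z : ι → G} {opp : ι → ι → Prop}
  {C Q QF Qs : ι → Subgroup G} {i₀ : ι}

/-- `x`, `y` act in the same way on `V`. -/
def Eqv (V : Subgroup G) (x y : G) : Prop := ∀ v ∈ V, x * v * x⁻¹ = y * v * y⁻¹

omit [Finite G] in
theorem Eqv.comm {V : Subgroup G} {x y : G} (h : Eqv V x y) {v : G} (hv : v ∈ V) :
    (y⁻¹ * x) * v = v * (y⁻¹ * x) := by
  have h1 := h v hv
  calc (y⁻¹ * x) * v = y⁻¹ * (x * v * x⁻¹) * x := by group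
    _ = v * (y⁻¹ * x) := by rw [h1]; group

section

variable (h : Base S P V T z opp C Q QF Qs i₀)
include h

/-- Two elements of `P` acting in the same way on `V` act in the same way on `Δ`. -/
theorem eqv_Dl {x y : G} (hx : x ∈ P) (hy : y ∈ P) (hxy : Eqv V x y) {d : G} (hd : d ∈ h.toConf.Dl) :
    x * d * x⁻¹ = y * d * y⁻¹ := by
  have : Nonempty ι := ⟨i₀⟩
  have h1 := h.toConf.Dl_comm (mul_mem (inv_mem hy) hx) (fun v hv => hxy.comm hv) hd
  calc x * d * x⁻¹ = y * ((y⁻¹ * x) * d) * x⁻¹ := by group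
    _ = y * (d * (y⁻¹ * x)) * x⁻¹ := by rw [h1]
    _ = y * d * y⁻¹ := by group

/-- `{x ∈ P : [x, Δ] ≤ V}` -/
def KD : Subgroup G where
  carrier := {x | x ∈ P ∧ ∀ d ∈ h.toConf.Dl, x * d * x⁻¹ * d⁻¹ ∈ V}
  one_mem' := ⟨one_mem _, fun d _ => by simp⟩
  mul_mem' := by
    rintro a b ⟨ha, ha'⟩ ⟨hb, hb'⟩
    refine ⟨mul_mem ha hb, fun d hd => ?_⟩
    have e : a * b * d * (a * b)⁻¹ * d⁻¹ =
        (a * (b * d * b⁻¹ * d⁻¹) * a⁻¹) * (a * d * a⁻¹ * d⁻¹) := by group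
    rw [e]
    exact mul_mem (h.toConf.conj_V ha (hb' d hd)) (ha' d hd)
  inv_mem' := by
    rintro a ⟨ha, ha'⟩
    refine ⟨inv_mem ha, fun d hd => ?_⟩
    have e : a⁻¹ * d * a⁻¹⁻¹ * d⁻¹ = a⁻¹ * (a * d * a⁻¹ * d⁻¹)⁻¹ * a⁻¹⁻¹ := by group
    rw [e]
    exact h.toConf.conj_V (inv_mem ha) (inv_mem (ha' d hd))

theorem mem_KD {x : G} : x ∈ h.KD ↔ x ∈ P ∧ ∀ d ∈ h.toConf.Dl, x * d * x⁻¹ * d⁻¹ ∈ V := Iff.rfl

theorem KD_conj {m x : G} (hm : m ∈ P) (hx : x ∈ h.KD) : m * x * m⁻¹ ∈ h.KD := by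
  obtain ⟨hx1, hx2⟩ := h.mem_KD.1 hx
  refine h.mem_KD.2 ⟨mul_mem (mul_mem hm hx1) (inv_mem hm), fun d hd => ?_⟩
  have hd' : m⁻¹ * d * m⁻¹⁻¹ ∈ h.toConf.Dl := norm_conj h.toConf.Dl_norm (inv_mem hm) hd
  have h1 := h.toConf.conj_V hm (hx2 _ hd')
  have e : m * x * m⁻¹ * d * (m * x * m⁻¹)⁻¹ * d⁻¹ =
      m * (x * (m⁻¹ * d * m⁻¹⁻¹) * x⁻¹ * (m⁻¹ * d * m⁻¹⁻¹)⁻¹) * m⁻¹ := by group
  rwa [e]

theorem Qs_KD (i : ι) : Qs i ≤ h.KD := by
  intro x hx
  refine h.mem_KD.2 ⟨h.toConf.QsP i hx, fun d hd => ?_⟩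
  have h1 := h.toConf.comm_Dl hx hd
  have h2 := inv_mem h1
  have : Nonempty ι := ⟨i₀⟩
  -- `d⁻¹ (x d x⁻¹) ∈ V`; `V` is normal in `Δ`
  have h3 : d * (d⁻¹ * (x * d * x⁻¹)) * d⁻¹ ∈ V :=
    h.toConf.conj_V (h.toConf.TP (h.toConf.Dl_le_T hd)) h1
  have e : d * (d⁻¹ * (x * d * x⁻¹)) * d⁻¹ = x * d * x⁻¹ * d⁻¹ := by group
  rwa [e] at h3

theorem cent_KD {x : G} (hx : x ∈ P) (hc : ∀ v ∈ V, x * v = v * x) : x ∈ h.KD := by
  have : Nonempty ι := ⟨i₀⟩
  refine h.mem_KD.2 ⟨hx, fun d hd => ?_⟩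
  rw [h.toConf.Dl_comm hx hc hd]
  have e : d * x * x⁻¹ * d⁻¹ = 1 := by group
  rw [e]
  exact one_mem _

/-- An element of `P` whose cube centralises `V` centralises `Δ / V`. -/
theorem cube_KD {r : G} (hr : r ∈ P) (h3 : ∀ v ∈ V, r ^ 3 * v = v * r ^ 3) : r ∈ h.KD := by
  -- `r = k s` with `k ∈ K`, `s ∈ S`
  obtain ⟨j, -, hij, -, -⟩ := h.tri i₀
  obtain ⟨i, hi⟩ := h.toConf.perm r hr i₀
  obtain ⟨x, hx, hxi⟩ := h.toConf.trans i₀ j hij i
  have hxK : x ∈ h.KD := (sup_le (h.Qs_KD i₀) (h.Qs_KD j)) hx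
  have hxP : x ∈ P := (h.mem_KD.1 hxK).1
  obtain ⟨s, hs, c, hc, hcV, hsc⟩ := h.stab (x⁻¹ * r) (mul_mem (inv_mem hxP) hr) (by
    calc x⁻¹ * r * z i₀ = x⁻¹ * (r * z i₀ * r⁻¹) * r := by group
      _ = x⁻¹ * (x * z i₀ * x⁻¹) * r := by rw [hi, hxi]
      _ = z i₀ * (x⁻¹ * r) := by group)
  have hcK := h.cent_KD hc hcV
  have hsP : s ∈ P := h.S_le_P hs
  -- a 2-power of `r` lies in `K`
  have key : ∀ n : ℕ, ∃ k ∈ h.KD, r ^ n = k * s ^ n := by
    intro n
    induction n with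
    | zero => exact ⟨1, one_mem _, by simp⟩
    | succ n ih =>
      obtain ⟨k, hk, hkn⟩ := ih
      have hr' : r = x * (s * c * s⁻¹) * s := by
        have e : r = x * (x⁻¹ * r) := by group
        rw [e, hsc]; group
      have h1 : s ^ n * (x * (s * c * s⁻¹)) * (s ^ n)⁻¹ ∈ h.KD :=
        h.KD_conj (pow_mem hsP n) (mul_mem hxK (h.KD_conj hsP hcK))
      refine ⟨k * (s ^ n * (x * (s * c * s⁻¹)) * (s ^ n)⁻¹), mul_mem hk h1, ?_⟩
      calc r ^ (n + 1) = r ^ n * r := pow_succ r n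
        _ = k * s ^ n * (x * (s * c * s⁻¹) * s) := by rw [hkn, ← hr']
        _ = k * (s ^ n * (x * (s * c * s⁻¹)) * (s ^ n)⁻¹) * (s ^ n * s) := by group
        _ = _ := by rw [← pow_succ]
  have : Fact (Nat.Prime 2) := ⟨Nat.prime_two⟩
  obtain ⟨n, hn⟩ := S.isPGroup' ⟨s, hs⟩
  have hn' : s ^ 2 ^ n = 1 := congrArg Subtype.val hn
  obtain ⟨k, hk, hkn⟩ := key (2 ^ n)
  rw [hn', mul_one] at hkn
  have h4 : r ^ 2 ^ n ∈ h.KD := hkn ▸ hk
  have h5 : r ^ 3 ∈ h.KD := h.cent_KD (pow_mem hr 3) h3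
  -- `gcd(3, 2^n) = 1`
  have hco : Nat.Coprime (2 ^ n) 3 := Nat.Coprime.pow_left n (by norm_num)
  have h6 : Nat.gcd (2 ^ n) 3 = 1 := hco
  have h7 : (r : G) ^ ((Nat.gcd (2 ^ n) 3 : ℕ) : ℤ) ∈ h.KD := by
    rw [Nat.gcd_eq_gcd_ab, zpow_add, zpow_mul, zpow_mul, zpow_natCast, zpow_natCast]
    exact mul_mem (zpow_mem h4 _) (zpow_mem h5 _)
  rw [h6, Nat.cast_one, zpow_one] at h7
  exact h7

/-- **`Δ = V`**: see the file header. -/
theorem Dl_le_of {r₁ r₂ : G} (hr₁ : r₁ ∈ P) (hr₂ : r₂ ∈ P)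
    (c₁ : ∀ v ∈ V, r₁ ^ 3 * v = v * r₁ ^ 3) (c₂ : ∀ v ∈ V, r₂ ^ 3 * v = v * r₂ ^ 3)
    (fpf : ∀ v ∈ V, r₁ * v = v * r₁ → v = 1) (hcomm : Eqv V (r₁ * r₂) (r₂ * r₁))
    (hconj : ∀ m ∈ P, Eqv V (m * r₁ * m⁻¹) r₁ ∨ Eqv V (m * r₁ * m⁻¹) r₁⁻¹ ∨
      Eqv V (m * r₁ * m⁻¹) r₂ ∨ Eqv V (m * r₁ * m⁻¹) r₂⁻¹) : h.toConf.Dl ≤ V := by
  have hne : Nonempty ι := ⟨i₀⟩
  have k₁ := h.cube_KD hr₁ c₁
  have k₂ := h.cube_KD hr₂ c₂
  have hDP : h.toConf.Dl ≤ P := h.toConf.Dl_le_T.trans h.toConf.TP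
  -- `N = C_Δ(r₁)`
  let N : Subgroup G := h.toConf.Dl ⊓ centralizer ({r₁} : Set G)
  have hN : ∀ {x}, x ∈ N ↔ x ∈ h.toConf.Dl ∧ x * r₁ = r₁ * x := by
    intro x
    rw [mem_inf, mem_centralizer_singleton_iff]
  -- `r₂` centralises `N`
  have h2 : ∀ d ∈ N, r₂ * d * r₂⁻¹ = d := by
    intro d hd
    obtain ⟨hd1, hd2⟩ := hN.1 hd
    have hv : r₂ * d * r₂⁻¹ * d⁻¹ ∈ V := (h.mem_KD.1 k₂).2 d hd1
    have e1 : r₁ * (r₂ * d * r₂⁻¹) * r₁⁻¹ = r₂ * d * r₂⁻¹ := by
      calc r₁ * (r₂ * d * r₂⁻¹) * r₁⁻¹ = (r₁ * r₂) * d * (r₁ * r₂)⁻¹ := by group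
        _ = (r₂ * r₁) * d * (r₂ * r₁)⁻¹ :=
          h.eqv_Dl (mul_mem hr₁ hr₂) (mul_mem hr₂ hr₁) hcomm hd1
        _ = r₂ * (r₁ * d) * r₁⁻¹ * r₂⁻¹ := by group
        _ = r₂ * d * r₂⁻¹ := by rw [← hd2]; group
    have e2 : r₁ * d * r₁⁻¹ = d := by rw [← hd2]; group
    have h3 := fpf _ hv (by
      calc r₁ * (r₂ * d * r₂⁻¹ * d⁻¹) =
          (r₁ * (r₂ * d * r₂⁻¹) * r₁⁻¹) * (r₁ * d * r₁⁻¹)⁻¹ * r₁ := by group
        _ = r₂ * d * r₂⁻¹ * d⁻¹ * r₁ := by rw [e1, e2])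
    exact mul_inv_eq_one.1 h3
  have h1 : ∀ d ∈ N, r₁ * d * r₁⁻¹ = d := by
    intro d hd
    rw [← (hN.1 hd).2]; group
  have inv_fix : ∀ {r d : G}, r * d * r⁻¹ = d → r⁻¹ * d * r⁻¹⁻¹ = d := by
    intro r d hrd
    calc r⁻¹ * d * r⁻¹⁻¹ = r⁻¹ * (r * d * r⁻¹) * r := by rw [hrd, inv_inv]
      _ = d := by group
  -- `N` is normalised by `P`
  have hNP : ∀ m ∈ P, ∀ d ∈ N, m * d * m⁻¹ ∈ N := by
    intro m hm d hd
    have hd1 := (hN.1 hd).1
    refine hN.2 ⟨norm_conj h.toConf.Dl_norm hm hd1, ?_⟩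
    have hm' := inv_mem hm
    have key : (m⁻¹ * r₁ * m⁻¹⁻¹) * d * (m⁻¹ * r₁ * m⁻¹⁻¹)⁻¹ = d := by
      have hP' : m⁻¹ * r₁ * m⁻¹⁻¹ ∈ P := mul_mem (mul_mem hm' hr₁) (inv_mem hm')
      rcases hconj m⁻¹ hm' with e | e | e | e
      · rw [h.eqv_Dl hP' hr₁ e hd1]; exact h1 d hd
      · rw [h.eqv_Dl hP' (inv_mem hr₁) e hd1]; exact inv_fix (h1 d hd)
      · rw [h.eqv_Dl hP' hr₂ e hd1]; exact h2 d hd
      · rw [h.eqv_Dl hP' (inv_mem hr₂) e hd1]; exact inv_fix (h2 d hd)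
    have key' : (m⁻¹ * r₁ * m⁻¹⁻¹) * d = d * (m⁻¹ * r₁ * m⁻¹⁻¹) := by
      calc (m⁻¹ * r₁ * m⁻¹⁻¹) * d =
          (m⁻¹ * r₁ * m⁻¹⁻¹) * d * (m⁻¹ * r₁ * m⁻¹⁻¹)⁻¹ * (m⁻¹ * r₁ * m⁻¹⁻¹) := by group
        _ = d * (m⁻¹ * r₁ * m⁻¹⁻¹) := by rw [key]
    calc m * d * m⁻¹ * r₁ = m * (d * (m⁻¹ * r₁ * m⁻¹⁻¹)) * m⁻¹ := by group
      _ = m * ((m⁻¹ * r₁ * m⁻¹⁻¹) * d) * m⁻¹ := by rw [key']
      _ = r₁ * (m * d * m⁻¹) := by group
  -- `N = 1`
  have hN1 : N = ⊥ := by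
    by_contra hNe
    have hz := h.toConf.min i₀ N (fun d hd => h.toConf.Dl_le_T (hN.1 hd).1)
      (fun m hm _ d hd => hNP m hm d hd) hNe
    exact h.ne_one i₀ (fpf _ (h.zV i₀) (hN.1 hz).2.symm)
  -- `Δ = V N`
  intro d hd
  have hvd : r₁ * d * r₁⁻¹ * d⁻¹ ∈ V := (h.mem_KD.1 k₁).2 d hd
  have hinj : Function.Injective (fun v : V => (⟨r₁ * v * r₁⁻¹ * (v : G)⁻¹,
      mul_mem (h.toConf.conj_V hr₁ v.2) (inv_mem v.2)⟩ : V)) := by
    intro v w hvw
    have e : r₁ * v * r₁⁻¹ * (v : G)⁻¹ = r₁ * w * r₁⁻¹ * (w : G)⁻¹ := congrArg Subtype.val hvw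
    have hvw' : (w : G)⁻¹ * v ∈ V := mul_mem (inv_mem w.2) v.2
    have e2 := fpf _ hvw' (by
      have e3 : r₁ * (w : G)⁻¹ * r₁⁻¹ ∈ V := h.toConf.conj_V hr₁ (inv_mem w.2)
      have e5 : (w : G)⁻¹ * (v : G) = (r₁ * (w : G) * r₁⁻¹)⁻¹ * (r₁ * v * r₁⁻¹) := by
        calc (w : G)⁻¹ * (v : G) = (w : G)⁻¹ * ((r₁ * v * r₁⁻¹ * (v : G)⁻¹)⁻¹ * (r₁ * v * r₁⁻¹)) := by group
          _ = (w : G)⁻¹ * ((r₁ * w * r₁⁻¹ * (w : G)⁻¹)⁻¹ * (r₁ * v * r₁⁻¹)) := by rw [e]
          _ = (r₁ * (w : G) * r₁⁻¹)⁻¹ * (r₁ * v * r₁⁻¹) := by group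
      calc r₁ * ((w : G)⁻¹ * v) = ((r₁ * (w : G) * r₁⁻¹)⁻¹ * (r₁ * v * r₁⁻¹)) * r₁ := by group
        _ = (w : G)⁻¹ * v * r₁ := by rw [← e5])
    exact Subtype.ext (inv_mul_eq_one.1 e2).symm
  obtain ⟨v, hv⟩ := (Finite.injective_iff_surjective.1 hinj) ⟨(r₁ * d * r₁⁻¹ * d⁻¹)⁻¹, inv_mem hvd⟩
  have hv' : r₁ * v * r₁⁻¹ * (v : G)⁻¹ = (r₁ * d * r₁⁻¹ * d⁻¹)⁻¹ := congrArg Subtype.val hv
  have hVD := h.toConf.V_le_Dl
  have hdT := h.toConf.Dl_le_T hd
  have hdv : d * v ∈ N := by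
    refine hN.2 ⟨mul_mem hd (hVD v.2), ?_⟩
    have hc : ∀ w ∈ V, d * w = w * d := fun w hw => h.TV d hdT w hw
    have e3 : r₁ * (v : G) * r₁⁻¹ = (r₁ * d * r₁⁻¹ * d⁻¹)⁻¹ * v := by rw [← hv']; group
    have e4 : r₁ * (d * v) * r₁⁻¹ = d * v := by
      calc r₁ * (d * v) * r₁⁻¹ = (r₁ * d * r₁⁻¹ * d⁻¹) * (d * (r₁ * v * r₁⁻¹)) := by group
        _ = (r₁ * d * r₁⁻¹ * d⁻¹) * ((r₁ * v * r₁⁻¹) * d) := by
          rw [hc _ (h.toConf.conj_V hr₁ v.2)]
        _ = (r₁ * d * r₁⁻¹ * d⁻¹) * ((r₁ * d * r₁⁻¹ * d⁻¹)⁻¹ * v * d) := by rw [e3]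
        _ = v * d := by group
        _ = d * v := (hc v v.2).symm
    calc d * v * r₁ = (r₁ * (d * v) * r₁⁻¹) * r₁ := by rw [e4]
      _ = r₁ * (d * v) := by group
  rw [hN1, mem_bot] at hdv
  have e5 : d = (v : G)⁻¹ := eq_inv_of_mul_eq_one_left hdv
  rw [e5]
  exact inv_mem v.2

end

/-! ### Type (γ) -/

theorem rot_perm (σ : Equiv.Perm (Fin 3)) :
    (∀ i, σ (i + 1) = σ i + 1) ∨ (∀ i, σ (i + 1) = σ i + 2) := by
  revert σ
  decide

/-- **Type (γ): `Δ = V`.** -/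
theorem Dl_le_of_plus2 {ζ : Fin 3 → Fin 3 → G}
    (h : Base S P (zl (S : Subgroup G) P) T z opp C Q QF Qs i₀)
    (hz : NO1.Plus2 (S : Subgroup G) P ζ) : h.toConf.Dl ≤ zl (S : Subgroup G) P := by
  obtain ⟨r₁, hr₁, e₁⟩ := hz.full (Equiv.addRight 1) 1
  obtain ⟨r₂, hr₂, e₂⟩ := hz.full 1 (Equiv.addRight 1)
  simp only [Equiv.coe_addRight, Equiv.Perm.coe_one, id_eq] at e₁ e₂
  have hgen := hz.gen
  have hmem : ∀ i j, ζ i j ∈ zl (S : Subgroup G) P := fun i j => by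
    rw [← hgen]
    exact subset_closure ⟨(i, j), rfl⟩
  -- equality of the action on `V`
  have eqv_of : ∀ x y : G, (∀ i j, x * ζ i j * x⁻¹ = y * ζ i j * y⁻¹) →
      Eqv (zl (S : Subgroup G) P) x y := by
    intro x y hxy v hv
    rw [← hgen] at hv
    induction hv using Subgroup.closure_induction with
    | mem v hv => obtain ⟨⟨i, j⟩, rfl⟩ := hv; exact hxy i j
    | one => simp
    | mul a b _ _ ha hb =>
      calc x * (a * b) * x⁻¹ = (x * a * x⁻¹) * (x * b * x⁻¹) := by group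
        _ = (y * a * y⁻¹) * (y * b * y⁻¹) := by rw [ha, hb]
        _ = y * (a * b) * y⁻¹ := by group
    | inv a _ ha =>
      calc x * a⁻¹ * x⁻¹ = (x * a * x⁻¹)⁻¹ := by group
        _ = (y * a * y⁻¹)⁻¹ := by rw [ha]
        _ = y * a⁻¹ * y⁻¹ := by group
  have e₁' : ∀ i j, r₁⁻¹ * ζ i j * r₁⁻¹⁻¹ = ζ (i + 2) j := by
    intro i j
    have e' : ∀ i : Fin 3, i + 2 + 1 = i := by decide
    have e := e₁ (i + 2) j
    rw [e'] at e
    rw [← e]; group
  have e₂' : ∀ i j, r₂⁻¹ * ζ i j * r₂⁻¹⁻¹ = ζ i (j + 2) := by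
    intro i j
    have e' : ∀ j : Fin 3, j + 2 + 1 = j := by decide
    have e := e₂ i (j + 2)
    rw [e'] at e
    rw [← e]; group
  have c₁ : ∀ v ∈ zl (S : Subgroup G) P, r₁ ^ 3 * v = v * r₁ ^ 3 := by
    intro v hv
    have h1 : Eqv (zl (S : Subgroup G) P) (r₁ ^ 3) 1 := by
      apply eqv_of
      intro i j
      calc r₁ ^ 3 * ζ i j * (r₁ ^ 3)⁻¹ = r₁ * (r₁ * (r₁ * ζ i j * r₁⁻¹) * r₁⁻¹) * r₁⁻¹ := by
            rw [pow_succ, pow_two]; group
        _ = ζ (i + 1 + 1 + 1) j := by rw [e₁, e₁, e₁]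
        _ = ζ i j := by
          have e' : i + 1 + 1 + 1 = i := by revert i; decide
          rw [e']
        _ = 1 * ζ i j * 1⁻¹ := by simp
    have h2 := h1 v hv
    simp only [one_mul, inv_one, mul_one] at h2
    calc r₁ ^ 3 * v = (r₁ ^ 3 * v * (r₁ ^ 3)⁻¹) * r₁ ^ 3 := by group
      _ = v * r₁ ^ 3 := by rw [h2]
  have c₂ : ∀ v ∈ zl (S : Subgroup G) P, r₂ ^ 3 * v = v * r₂ ^ 3 := by
    intro v hv
    have h1 : Eqv (zl (S : Subgroup G) P) (r₂ ^ 3) 1 := by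
      apply eqv_of
      intro i j
      calc r₂ ^ 3 * ζ i j * (r₂ ^ 3)⁻¹ = r₂ * (r₂ * (r₂ * ζ i j * r₂⁻¹) * r₂⁻¹) * r₂⁻¹ := by
            rw [pow_succ, pow_two]; group
        _ = ζ i (j + 1 + 1 + 1) := by rw [e₂, e₂, e₂]
        _ = ζ i j := by
          have e' : j + 1 + 1 + 1 = j := by revert j; decide
          rw [e']
        _ = 1 * ζ i j * 1⁻¹ := by simp
    have h2 := h1 v hv
    simp only [one_mul, inv_one, mul_one] at h2
    calc r₂ ^ 3 * v = (r₂ ^ 3 * v * (r₂ ^ 3)⁻¹) * r₂ ^ 3 := by group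
      _ = v * r₂ ^ 3 := by rw [h2]
  -- `v r₁(v) r₁²(v) = 1`
  have nrm : ∀ v ∈ zl (S : Subgroup G) P, v * (r₁ * v * r₁⁻¹) * (r₁ * (r₁ * v * r₁⁻¹) * r₁⁻¹) = 1 := by
    intro v hv
    rw [← hgen] at hv
    have hab := h.Vab
    induction hv using Subgroup.closure_induction with
    | mem v hv =>
      obtain ⟨⟨i, j⟩, rfl⟩ := hv
      change ζ i j * (r₁ * ζ i j * r₁⁻¹) * (r₁ * (r₁ * ζ i j * r₁⁻¹) * r₁⁻¹) = 1
      rw [e₁, e₁]
      have hcol := hz.col j
      have h12 := hz.comm 1 j 2 j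
      have h01 := hz.comm 0 j 1 j
      have h02 := hz.comm 0 j 2 j
      fin_cases i
      · exact hcol
      · change ζ 1 j * ζ 2 j * ζ 0 j = 1
        rw [← hcol, mul_assoc, ← h02, ← mul_assoc, ← h01]
      · change ζ 2 j * ζ 0 j * ζ 1 j = 1
        rw [← hcol, ← h02, mul_assoc, ← h12, ← mul_assoc]
    | one => simp
    | mul a b ha0 hb0 ha hb =>
      rw [hgen] at ha0 hb0
      set A := r₁ * a * r₁⁻¹ with hA
      set B := r₁ * b * r₁⁻¹ with hB
      have hAV : A ∈ zl (S : Subgroup G) P := h.toConf.conj_V hr₁ ha0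
      have hBV : B ∈ zl (S : Subgroup G) P := h.toConf.conj_V hr₁ hb0
      have hAV' : r₁ * A * r₁⁻¹ ∈ zl (S : Subgroup G) P := h.toConf.conj_V hr₁ hAV
      have e1 : r₁ * (a * b) * r₁⁻¹ = A * B := by rw [hA, hB]; group
      have e2 : r₁ * (A * B) * r₁⁻¹ = (r₁ * A * r₁⁻¹) * (r₁ * B * r₁⁻¹) := by group
      rw [e1, e2]
      have x1 : b * A = A * b := hab b hb0 A hAV
      have x2 : b * B * (r₁ * A * r₁⁻¹) = (r₁ * A * r₁⁻¹) * (b * B) :=
        hab _ (mul_mem hb0 hBV) _ hAV'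
      calc a * b * (A * B) * (r₁ * A * r₁⁻¹ * (r₁ * B * r₁⁻¹))
          = a * (b * A) * B * (r₁ * A * r₁⁻¹) * (r₁ * B * r₁⁻¹) := by group
        _ = a * A * (b * B * (r₁ * A * r₁⁻¹)) * (r₁ * B * r₁⁻¹) := by rw [x1]; group
        _ = (a * A * (r₁ * A * r₁⁻¹)) * (b * B * (r₁ * B * r₁⁻¹)) := by rw [x2]; group
        _ = 1 := by rw [ha, hb, one_mul]
    | inv a ha0 ha =>
      rw [hgen] at ha0
      set A := r₁ * a * r₁⁻¹ with hA
      have hAV : A ∈ zl (S : Subgroup G) P := h.toConf.conj_V hr₁ ha0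
      have hAV' : r₁ * A * r₁⁻¹ ∈ zl (S : Subgroup G) P := h.toConf.conj_V hr₁ hAV
      have e1 : r₁ * a⁻¹ * r₁⁻¹ = A⁻¹ := by rw [hA]; group
      have e2 : r₁ * A⁻¹ * r₁⁻¹ = (r₁ * A * r₁⁻¹)⁻¹ := by group
      rw [e1, e2]
      have x1 : A * a = a * A := hab A hAV a ha0
      have x2 : (r₁ * A * r₁⁻¹) * (a * A) = (a * A) * (r₁ * A * r₁⁻¹) :=
        hab _ hAV' _ (mul_mem ha0 hAV)
      calc a⁻¹ * A⁻¹ * (r₁ * A * r₁⁻¹)⁻¹ = ((r₁ * A * r₁⁻¹) * (A * a))⁻¹ := by group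
        _ = 1 := by rw [x1, x2, ha, inv_one]
  refine h.Dl_le_of hr₁ hr₂ c₁ c₂ ?_ ?_ ?_
  · intro v hv hc
    have h1 := nrm v hv
    have h2 : r₁ * v * r₁⁻¹ = v := by rw [hc]; group
    rw [h2, h2, h.Vsq v hv, one_mul] at h1
    exact h1
  · apply eqv_of
    intro i j
    calc r₁ * r₂ * ζ i j * (r₁ * r₂)⁻¹ = r₁ * (r₂ * ζ i j * r₂⁻¹) * r₁⁻¹ := by group
      _ = ζ (i + 1) (j + 1) := by rw [e₂, e₁]
      _ = r₂ * (r₁ * ζ i j * r₁⁻¹) * r₂⁻¹ := by rw [e₁, e₂]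
      _ = r₂ * r₁ * ζ i j * (r₂ * r₁)⁻¹ := by group
  · intro m hm
    obtain ⟨σ, τ, hστ | hστ⟩ := hz.perm m hm
    · have hm' : ∀ i j, m⁻¹ * ζ (σ i) (τ j) * m⁻¹⁻¹ = ζ i j := fun i j => by rw [← hστ i j]; group
      rcases rot_perm σ with hσ | hσ
      · left
        apply eqv_of
        intro i j
        obtain ⟨i, rfl⟩ := σ.surjective i
        obtain ⟨j, rfl⟩ := τ.surjective j
        calc m * r₁ * m⁻¹ * ζ (σ i) (τ j) * (m * r₁ * m⁻¹)⁻¹
            = m * (r₁ * (m⁻¹ * ζ (σ i) (τ j) * m⁻¹⁻¹) * r₁⁻¹) * m⁻¹ := by group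
          _ = r₁ * ζ (σ i) (τ j) * r₁⁻¹ := by rw [hm', e₁, hστ, e₁, hσ]
      · right; left
        apply eqv_of
        intro i j
        obtain ⟨i, rfl⟩ := σ.surjective i
        obtain ⟨j, rfl⟩ := τ.surjective j
        calc m * r₁ * m⁻¹ * ζ (σ i) (τ j) * (m * r₁ * m⁻¹)⁻¹
            = m * (r₁ * (m⁻¹ * ζ (σ i) (τ j) * m⁻¹⁻¹) * r₁⁻¹) * m⁻¹ := by group
          _ = r₁⁻¹ * ζ (σ i) (τ j) * r₁⁻¹⁻¹ := by rw [hm', e₁, hστ, e₁', hσ]
    · have hm' : ∀ i j, m⁻¹ * ζ (σ j) (τ i) * m⁻¹⁻¹ = ζ i j := fun i j => by rw [← hστ i j]; group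
      rcases rot_perm τ with hτ | hτ
      · right; right; left
        apply eqv_of
        intro j i
        obtain ⟨j, rfl⟩ := σ.surjective j
        obtain ⟨i, rfl⟩ := τ.surjective i
        calc m * r₁ * m⁻¹ * ζ (σ j) (τ i) * (m * r₁ * m⁻¹)⁻¹
            = m * (r₁ * (m⁻¹ * ζ (σ j) (τ i) * m⁻¹⁻¹) * r₁⁻¹) * m⁻¹ := by group
          _ = r₂ * ζ (σ j) (τ i) * r₂⁻¹ := by rw [hm', e₁, hστ, e₂, hτ]
      · right; right; right
        apply eqv_of
        intro j i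
        obtain ⟨j, rfl⟩ := σ.surjective j
        obtain ⟨i, rfl⟩ := τ.surjective i
        calc m * r₁ * m⁻¹ * ζ (σ j) (τ i) * (m * r₁ * m⁻¹)⁻¹
            = m * (r₁ * (m⁻¹ * ζ (σ j) (τ i) * m⁻¹⁻¹) * r₁⁻¹) * m⁻¹ := by group
          _ = r₂⁻¹ * ζ (σ j) (τ i) * r₂⁻¹⁻¹ := by rw [hm', e₁, hστ, e₂', hτ]

end Base

end Cfsg.Agent.Omega.NOne.AG

end

-- merged: Cfsg.Agent.Mrg.Omega.NOne.AG.Sympl
section

section


/-!
# THEOREM D0ag (bb #15001): the end `Q` extraspecial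

`Δ = V` and `Q i₀` induces only `F` on `V` (`Q i₀ ≤ QF i₀`): `O₂(C_G(z i₀)) = Qs i₀` is large extraspecial.
-/

set_option autoImplicit false

namespace Cfsg.Agent.Omega.NOne.AG

open Subgroup Cfsg Cfsg.Agent.ZN Cfsg.Agent.Omega.MinPar Cfsg.Agent.Omega.Frame
open Cfsg.Agent.Co2Type.Quad (Large)

universe u

variable {G : Type u} [Group G] {ι : Type*}

namespace Conf

variable {P V T : Subgroup G} {z : ι → G} {opp : ι → ι → Prop} {C Q QF Qs : ι → Subgroup G}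

section

variable (h : Conf P V T z opp C Q QF Qs)
include h

/-- `|V ∩ Q i| ≥ 8`. -/
theorem card_VQ [Finite G] (i : ι) : 8 ≤ Nat.card ↥(V ⊓ Q i) := by
  classical
  by_cases hVQ : V ≤ Q i
  · have : V ⊓ Q i = V := inf_eq_left.2 hVQ
    rw [this, h.cardV]
    norm_num
  · obtain ⟨v, hv, hvQ⟩ := SetLike.not_le_iff_exists.1 hVQ
    have h1 : (V : Set G) ⊆ ((V ⊓ Q i : Subgroup G) : Set G) ∪
        (fun x => v * x) '' ((V ⊓ Q i : Subgroup G) : Set G) := by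
      intro w hw
      by_cases hwQ : w ∈ Q i
      · exact Or.inl ⟨hw, hwQ⟩
      · refine Or.inr ⟨v * w, ⟨mul_mem hv hw, h.VQ2 i v hv w hw hvQ hwQ⟩, ?_⟩
        change v * (v * w) = w
        rw [← mul_assoc, h.Vsq v hv, one_mul]
    have h2 : (V : Set G).ncard ≤ ((V ⊓ Q i : Subgroup G) : Set G).ncard +
        ((V ⊓ Q i : Subgroup G) : Set G).ncard := by
      refine (Set.ncard_le_ncard h1 (Set.toFinite _)).trans ((Set.ncard_union_le _ _).trans ?_)
      have h3 := Set.ncard_image_le (f := fun x => v * x)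
        (Set.toFinite ((V ⊓ Q i : Subgroup G) : Set G))
      omega
    have h4 : Nat.card V = (V : Set G).ncard := rfl
    have h5 : Nat.card ↥(V ⊓ Q i) = ((V ⊓ Q i : Subgroup G) : Set G).ncard := rfl
    rw [h5]
    rw [← h4, h.cardV] at h2
    omega

theorem card_Qs [Finite G] (i : ι) : 8 < Nat.card ↥(Qs i) := by
  have hle : V ⊓ Q i ≤ Qs i := fun v hv => h.VQs i v hv.1 hv.2
  have h8 := h.card_VQ i
  have h1 : Nat.card ↥(V ⊓ Q i) ≤ Nat.card ↥(Qs i) := Subgroup.card_le_of_le hle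
  rcases h1.lt_or_eq with h2 | h2
  · omega
  exfalso
  have h3 : V ⊓ Q i = Qs i := Subgroup.eq_of_le_of_card_ge hle h2.ge
  have h4 : ∀ e ∈ V ⊓ Q i, e = 1 ∨ e = z i := by
    intro e he
    refine h.fixE i e he.1 fun x hx => ?_
    rw [← h3] at hx
    exact h.Vab x hx.1 e he.1
  have h5 : ((V ⊓ Q i : Subgroup G) : Set G) ⊆ {1, z i} := by
    intro e he
    rcases h4 e he with h6 | h6
    · left; exact h6
    · right; exact h6
  have h6 := Set.ncard_le_ncard h5 (Set.toFinite _)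
  have h7 : Nat.card ↥(V ⊓ Q i) = ((V ⊓ Q i : Subgroup G) : Set G).ncard := rfl
  have h8' : ({1, z i} : Set G).ncard = 2 := Set.ncard_pair (h.ne_one i).symm
  omega

end

end Conf

namespace Base

variable [Finite G] {S : Sylow 2 G} {P V T : Subgroup G} {z : ι → G} {opp : ι → ι → Prop}
  {C Q QF Qs : ι → Subgroup G} {i₀ : ι}

/-- **The end `Δ = V`, image `F`**: `O₂(C_G(z i₀)) = Qs i₀` is large extraspecial. -/
theorem large (h : Base S P V T z opp C Q QF Qs i₀)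
    (hB : ∀ x ∈ h.toConf.B i₀, x = 1 ∨ x = z i₀) (hQF : QF i₀ = Qs i₀) (hQ : Q i₀ ≤ QF i₀) :
    o2 (centralizer ({z i₀} : Set G)) = Qs i₀ ∧
      Large (o2 (centralizer ({z i₀} : Set G))) (z i₀) := by
  have heq : o2 (centralizer ({z i₀} : Set G)) = Qs i₀ :=
    le_antisymm (h.Q0_le.trans (hQ.trans hQF.le)) h.Qs_le
  refine ⟨heq, ?_⟩
  have hz2 : z i₀ ^ 2 = 1 := by rw [pow_two]; exact h.sq i₀
  have hself : ∀ g, g * z i₀ = z i₀ * g → (∀ x ∈ o2 (centralizer ({z i₀} : Set G)), g * x = x * g) →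
      g ∈ o2 (centralizer ({z i₀} : Set G)) := by
    intro g hg hgx
    have h1 : o2 (centralizer ({z i₀} : Set G)) ≠ ⊥ := by
      rw [heq]
      intro h0
      have h2 := h.z_mem_Qs i₀
      rw [h0, mem_bot] at h2
      exact h.ne_one i₀ h2
    have h2 := Cfsg.Agent.MinSimple.Basic.char2_of_o2_ne_bot h.ctx.char2 S h.S_le_cz h1
    exact h2 ⟨mem_centralizer_singleton_iff.2 hg, mem_centralizer_iff.2 fun x hx => (hgx x hx).symm⟩
  refine ⟨?_, h.ne_one i₀, h.sq i₀, ?_, ?_, ?_, ?_, ?_, hself⟩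
  · rw [heq]; exact h.z_mem_Qs i₀
  · intro x hx
    exact mem_centralizer_singleton_iff.1 (o2_le _ hx)
  · intro g hg x hx
    exact (mem_normalizer_iff.1 (le_normalizer_o2 _ (mem_centralizer_singleton_iff.2 hg)) x).1 hx
  · intro x hx
    rw [heq] at hx
    exact h.sq_Qs hx
  · intro x hx y hy
    rw [heq] at hx hy
    have hcz : ∀ y ∈ Qs i₀, y * z i₀ = z i₀ * y := fun y hy => h.Cz i₀ y (h.QsC i₀ hy)
    rcases h.com i₀ x hx y (h.QsQF i₀ hy) with h1 | h1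
    · exact Or.inl h1
    · right
      rw [h1, hcz _ (mul_mem hy hx)]
  · intro x hx hxy
    rw [heq] at hx
    refine hB x ⟨h.QsQF i₀ hx, mem_centralizer_iff.2 fun y hy => ?_⟩
    rw [← heq] at hy
    exact (hxy y hy).symm

/-- **The end `Δ = V`, image `F`**: `F*(C_G(z i₀))` is of symplectic type. -/
theorem sympl (h : Base S P V T z opp C Q QF Qs i₀)
    (hB : ∀ x ∈ h.toConf.B i₀, x = 1 ∨ x = z i₀) (hQF : QF i₀ = Qs i₀) (hQ : Q i₀ ≤ QF i₀) :
    NO1.Sympl (z i₀) := by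
  obtain ⟨h1, h2⟩ := h.large hB hQF hQ
  refine NO1.sympl_of_large h.ctx.char2 h2 ?_
  rw [h1]
  exact h.card_Qs i₀

end Base

end Cfsg.Agent.Omega.NOne.AG

end

section


/-!
# NO-1, THEOREM D0ag (#15001), part (3): `Q` induces `D₈` and `Δ = V`  (helper652)

One group `C` (the group `C₁` of the text), `Q = O₂(C) ≥ C_C(Q)`, `R = Q_F` normal in `C` of index 2 in `Q`,
extraspecial with centre `⟨z⟩`, `z ∈ E ≤ R` elementary of order 8, `s ∈ Q` normalises `E` and moves `E/⟨z⟩`, `T ≤ C`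
centralises `E`, `[C_R(E), T] ≤ E`, `|T ∩ Q| ≤ 4`, `|R| ≤ 4 |T|`, `v ∈ C - Q` an involution.

`Wide.card_R : Nat.card R = 32`, `Wide.card_C : Nat.card C = 6 * Nat.card Q`.

Proof: `N = [R, s]⟨z⟩`, `K = {x ∈ R : [s, x] ∈ ⟨z⟩} = C_R(N)`; `N ≤ K`, `|R : K| = |N : ⟨z⟩|`; `n = [s, e] ∈ E ∩ N`,
some `a ∈ N` does not commute with `e`, `N_e = C_N(e)`.  `t ∈ T` is determined mod `T ∩ Q` by `[t, a] ∈ N_e / ⟨z⟩`, because
an element of `T` centralising `a` mod `z` stabilises the chain `Q > R > K > N > ⟨z⟩ > 1`.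
-/

set_option autoImplicit false
set_option linter.unusedSectionVars false
set_option linter.dupNamespace false
set_option linter.unusedVariables false

namespace Cfsg.Agent.Omega.NOne.AG.Wide

open Subgroup Cfsg Cfsg.Agent.ZN

universe u

variable {G : Type u} [Group G]

/-! ### general lemmas -/

/-- an odd order element stabilising a chain of length 2 of a 2-group -/
theorem comm_of_odd {c w : G} (hc : Odd (orderOf c)) {P : Subgroup G} (hP : IsPGroup 2 P)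
    (h : c * w * c⁻¹ * w⁻¹ ∈ P) (h2 : c * (c * w * c⁻¹ * w⁻¹) = c * w * c⁻¹ * w⁻¹ * c) : c * w = w * c := by
  set t := c * w * c⁻¹ * w⁻¹ with ht
  have hk : ∀ k : ℕ, c ^ k * w * (c ^ k)⁻¹ = t ^ k * w := by
    intro k
    induction k with
    | zero => simp
    | succ k ih =>
      have hct : c * t ^ k = t ^ k * c := (show Commute c t from h2).pow_right k
      calc c ^ (k + 1) * w * (c ^ (k + 1))⁻¹ = c * (c ^ k * w * (c ^ k)⁻¹) * c⁻¹ := by
            rw [pow_succ']; group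
        _ = (c * t ^ k) * w * c⁻¹ := by rw [ih]; group
        _ = t ^ k * (c * w * c⁻¹ * w⁻¹) * w := by rw [hct]; group
        _ = t ^ (k + 1) * w := by rw [← ht, pow_succ]
  have h1 := hk (orderOf c)
  rw [pow_orderOf_eq_one, one_mul, inv_one, mul_one, eq_comm, mul_eq_right] at h1
  obtain ⟨n, hn⟩ := hP ⟨t, h⟩
  have hn' : t ^ 2 ^ n = 1 := congrArg Subtype.val hn
  have hd := Nat.dvd_gcd (orderOf_dvd_of_pow_eq_one h1) (orderOf_dvd_of_pow_eq_one hn')
  have hco : Nat.gcd (orderOf c) (2 ^ n) = 1 := (Nat.coprime_two_right.2 hc).pow_right n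
  rw [hco, Nat.dvd_one, orderOf_eq_one_iff] at hd
  rw [hd, eq_comm, mul_inv_eq_one, mul_inv_eq_iff_eq_mul] at ht
  exact ht

theorem isPGroup_of_odd [Finite G] {H : Subgroup G} (h : ∀ c ∈ H, Odd (orderOf c) → c = 1) :
    IsPGroup 2 H := by
  rintro ⟨c, hc⟩
  obtain ⟨k, m, hm, hk⟩ := Nat.exists_eq_two_pow_mul_odd (orderOf_pos c).ne'
  refine ⟨k, Subtype.ext ?_⟩
  change c ^ 2 ^ k = 1
  refine h _ (pow_mem hc _) ?_
  rw [orderOf_pow' c (by positivity), hk, Nat.gcd_mul_right_left, Nat.mul_div_cancel_left _ (by positivity)]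
  exact hm

/-- a map `F` from `C` to `M` which separates the cosets of `H` mod `Z`: `|C : C ∩ H| ≤ |M : Z|` -/
theorem relIndex_le [Finite G] {C H M Z : Subgroup G} (F : G → G) (hF : ∀ c ∈ C, F c ∈ M)
    (hs : ∀ c ∈ C, ∀ d ∈ C, (F c)⁻¹ * F d ∈ Z → c⁻¹ * d ∈ H) : H.relIndex C ≤ Z.relIndex M := by
  unfold relIndex
  rw [Subgroup.index, Subgroup.index]
  refine Nat.card_le_card_of_injective
    (fun q : C ⧸ H.subgroupOf C => (QuotientGroup.mk (⟨F q.out, hF _ q.out.2⟩ : M) : M ⧸ Z.subgroupOf M)) ?_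
  intro q r hqr
  have h1 := QuotientGroup.eq.1 hqr
  rw [mem_subgroupOf] at h1
  have h2 := hs _ q.out.2 _ r.out.2 h1
  rw [← QuotientGroup.out_eq' q, ← QuotientGroup.out_eq' r]
  refine QuotientGroup.eq.2 ?_
  rw [mem_subgroupOf]
  exact h2

theorem relIndex_le_card [Finite G] {β : Type*} {C H : Subgroup G} (F : G → β) (P : Finset β)
    (hF : ∀ c ∈ C, F c ∈ P) (hs : ∀ c ∈ C, ∀ d ∈ C, F c = F d → c⁻¹ * d ∈ H) : H.relIndex C ≤ P.card := by
  have h0 : Nat.card P = P.card := by simp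
  rw [← h0]
  unfold relIndex
  rw [Subgroup.index]
  refine Nat.card_le_card_of_injective
    (fun q : C ⧸ H.subgroupOf C => (⟨F q.out, hF _ q.out.2⟩ : P)) ?_
  intro q r hqr
  have h1 : F q.out = F r.out := congrArg Subtype.val hqr
  have h2 := hs _ q.out.2 _ r.out.2 h1
  rw [← QuotientGroup.out_eq' q, ← QuotientGroup.out_eq' r]
  refine QuotientGroup.eq.2 ?_
  rw [mem_subgroupOf]
  exact h2

theorem inv_mul_mem {H K : Subgroup G} (h : H.relIndex K = 2) {x y : G} (hx : x ∈ K) (hy : y ∈ K)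
    (hxH : x ∉ H) (hyH : y ∉ H) : x⁻¹ * y ∈ H := by
  have h1 : (H.subgroupOf K).index = 2 := h
  have h2 := (Subgroup.mul_mem_iff_of_index_two h1 (a := ⟨x⁻¹, inv_mem hx⟩) (b := ⟨y, hy⟩)).2 (by
    simp only [mem_subgroupOf]
    have h5 : x⁻¹ ∉ H := fun h5 => hxH (by simpa using inv_mem h5)
    tauto)
  exact h2

theorem card_mul_relIndex {H K : Subgroup G} (h : H ≤ K) :
    Nat.card H * H.relIndex K = Nat.card K := by
  rw [Subgroup.relIndex, ← Nat.card_congr (Subgroup.subgroupOfEquivOfLe h).toEquiv]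
  exact Subgroup.card_mul_index _

/-- a proper subgroup has at most half of the order -/
theorem two_mul_le [Finite G] {H K : Subgroup G} (h : H ≤ K) {k : G} (hk : k ∈ K) (hkH : k ∉ H) :
    2 * Nat.card H ≤ Nat.card K := by
  have h1 := card_mul_relIndex h
  have h2 : H.relIndex K ≠ 1 := fun h3 => hkH (relIndex_eq_one.1 h3 hk)
  have h3 : H.relIndex K ≠ 0 := fun h3 => by
    rw [h3, mul_zero] at h1
    exact Nat.card_pos.ne h1
  have h4 : 2 ≤ H.relIndex K := by omega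
  calc 2 * Nat.card H = Nat.card H * 2 := mul_comm _ _
    _ ≤ Nat.card H * H.relIndex K := Nat.mul_le_mul_left _ h4
    _ = _ := h1

/-! ### the configuration -/

/-- the commutator `x y x⁻¹ y⁻¹` -/
abbrev cm (x y : G) : G := x * y * x⁻¹ * y⁻¹

/-- **Part (3) of D0ag, hypotheses.**  (`C = C₁`, `R = Q_F`, `T = T_j`.) -/
structure Wide (C Q R E T : Subgroup G) (z s v : G) : Prop where
  /-- `Q = O₂(C)` -/
  Q_eq : Q = o2 C
  /-- `C_C(Q) ≤ Q` -/
  cent : C ⊓ centralizer (Q : Set G) ≤ Q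
  z_ne : z ≠ 1
  z_sq : z * z = 1
  z_cent : ∀ c ∈ C, c * z = z * c
  R_le : R ≤ Q
  R_norm : ∀ c ∈ C, ∀ x ∈ R, c * x * c⁻¹ ∈ R
  /-- `|Q : R| = 2` -/
  R_idx : R.relIndex Q = 2
  R_sq : ∀ x ∈ R, x * x ∈ zpowers z
  R_comm : ∀ x ∈ R, ∀ y ∈ R, cm x y ∈ zpowers z
  /-- `C_R(R) ≤ ⟨z⟩` -/
  R_cent : ∀ x ∈ R, (∀ y ∈ R, x * y = y * x) → x ∈ zpowers z
  z_mem : z ∈ E
  E_le : E ≤ R
  E_card : Nat.card E = 8
  E_comm : ∀ x ∈ E, ∀ y ∈ E, x * y = y * x
  s_mem : s ∈ Q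
  s_norm : ∀ e ∈ E, s * e * s⁻¹ ∈ E
  /-- `s` does not centralise `E/⟨z⟩` -/
  s_move : ∃ e ∈ E, cm s e ∉ zpowers z
  T_le : T ≤ C
  T_cent : ∀ t ∈ T, ∀ e ∈ E, t * e = e * t
  T_comm : ∀ t ∈ T, ∀ x ∈ R, (∀ e ∈ E, x * e = e * x) → cm t x ∈ E
  T_card : Nat.card R ≤ 4 * Nat.card T
  T_inf : Nat.card (T ⊓ Q : Subgroup G) ≤ 4
  v_mem : v ∈ C
  v_sq : v * v = 1
  v_not : v ∉ Q

namespace Wide

variable {C Q R E T : Subgroup G} {z s v : G}

theorem z_inv (h : Wide C Q R E T z s v) : z⁻¹ = z := inv_eq_of_mul_eq_one_right h.z_sq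

theorem mem_z (h : Wide C Q R E T z s v) {x : G} : x ∈ zpowers z ↔ x = 1 ∨ x = z := by
  constructor
  · intro hx
    obtain ⟨k, rfl⟩ := mem_zpowers_iff.1 hx
    rcases Int.even_or_odd' k with ⟨m, rfl | rfl⟩
    · left
      rw [zpow_mul, show z ^ (2 : ℤ) = 1 by rw [zpow_two, h.z_sq], one_zpow]
    · right
      rw [zpow_add, zpow_mul, show z ^ (2 : ℤ) = 1 by rw [zpow_two, h.z_sq], one_zpow, one_mul, zpow_one]
  · rintro (rfl | rfl)
    · exact one_mem _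
    · exact mem_zpowers _

theorem Q_le (h : Wide C Q R E T z s v) : Q ≤ C := by rw [h.Q_eq]; exact o2_le C

theorem R_le_C (h : Wide C Q R E T z s v) : R ≤ C := h.R_le.trans h.Q_le

theorem Q_p (h : Wide C Q R E T z s v) : IsPGroup 2 Q := by rw [h.Q_eq]; exact isPGroup_o2 C

theorem zp_cent (h : Wide C Q R E T z s v) {c x : G} (hc : c ∈ C) (hx : x ∈ zpowers z) : c * x = x * c := by
  rcases h.mem_z.1 hx with rfl | rfl
  · simp
  · exact h.z_cent c hc

theorem zp_le_E (h : Wide C Q R E T z s v) : zpowers z ≤ E := zpowers_le.2 h.z_mem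

theorem zp_le_R (h : Wide C Q R E T z s v) : zpowers z ≤ R := h.zp_le_E.trans h.E_le

theorem card_zp (h : Wide C Q R E T z s v) : Nat.card (zpowers z) = 2 := by
  rw [Nat.card_zpowers]
  refine orderOf_eq_prime ?_ h.z_ne
  rw [pow_two, h.z_sq]

/-- elements of `Q` outside `R`, `R` of index 2 -/
theorem mul_mem_of (h : Wide C Q R E T z s v) {x y : G} (hx : x ∈ Q) (hy : y ∈ Q) (hxR : x ∉ R) (hyR : y ∉ R) :
    x * y ∈ R := by
  have h1 : (R.subgroupOf Q).index = 2 := h.R_idx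
  have h2 := (Subgroup.mul_mem_iff_of_index_two h1 (a := ⟨x, hx⟩) (b := ⟨y, hy⟩)).2
    (by simp only [mem_subgroupOf]; tauto)
  exact h2

/-- `[c, q] ∈ R` for `c ∈ C`, `q ∈ Q` -/
theorem cm_mem_R (h : Wide C Q R E T z s v) {c q : G} (hc : c ∈ C) (hq : q ∈ Q) : cm c q ∈ R := by
  by_cases hqR : q ∈ R
  · exact mul_mem (h.R_norm c hc q hqR) (inv_mem hqR)
  · have h1 : c * q * c⁻¹ ∈ Q := by
      rw [h.Q_eq] at hq ⊢
      exact (mem_normalizer_iff.1 (le_normalizer_o2 C hc) q).1 hq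
    have h2 : c * q * c⁻¹ ∉ R := by
      intro h3
      have h4 := h.R_norm _ (inv_mem hc) _ h3
      apply hqR
      have e : c⁻¹ * (c * q * c⁻¹) * c⁻¹⁻¹ = q := by group
      rwa [e] at h4
    exact h.mul_mem_of h1 (inv_mem hq) h2 (fun h5 => hqR (by simpa using inv_mem h5))

/-- `x² ∈ R` for `x ∈ Q` -/
theorem sq_mem_R (h : Wide C Q R E T z s v) {q : G} (hq : q ∈ Q) : q * q ∈ R := by
  by_cases hqR : q ∈ R
  · exact mul_mem hqR hqR
  · exact h.mul_mem_of hq hq hqR hqR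

/-! ### congruence mod `z` -/

/-- `x ≡ y` mod `⟨z⟩` -/
def Eqz (z x y : G) : Prop := ∃ ζ ∈ zpowers z, x = y * ζ

theorem Eqz.refl (x : G) : Eqz z x x := ⟨1, one_mem _, by simp⟩

theorem Eqz.symm {x y : G} (h : Eqz z x y) : Eqz z y x := by
  obtain ⟨ζ, hζ, rfl⟩ := h
  exact ⟨ζ⁻¹, inv_mem hζ, by simp⟩

theorem Eqz.trans {x y w : G} (h : Eqz z x y) (h' : Eqz z y w) : Eqz z x w := by
  obtain ⟨ζ, hζ, rfl⟩ := h
  obtain ⟨ξ, hξ, rfl⟩ := h'
  exact ⟨ξ * ζ, mul_mem hξ hζ, by rw [mul_assoc]⟩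

theorem eqz_one {x : G} : Eqz z x 1 ↔ x ∈ zpowers z := by
  constructor
  · rintro ⟨ζ, hζ, rfl⟩
    simpa using hζ
  · intro hx
    exact ⟨x, hx, by simp⟩

theorem eqz_mul (h : Wide C Q R E T z s v) {x y x' y' : G} (hy : y' ∈ C) (h1 : Eqz z x x')
    (h2 : Eqz z y y') : Eqz z (x * y) (x' * y') := by
  obtain ⟨ζ, hζ, rfl⟩ := h1
  obtain ⟨ξ, hξ, rfl⟩ := h2
  refine ⟨ζ * ξ, mul_mem hζ hξ, ?_⟩
  calc x' * ζ * (y' * ξ) = x' * (ζ * y') * ξ := by group
    _ = x' * (y' * ζ) * ξ := by rw [h.zp_cent hy hζ]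
    _ = _ := by group

theorem eqz_inv (h : Wide C Q R E T z s v) {x x' : G} (hx : x' ∈ C) (h1 : Eqz z x x') : Eqz z x⁻¹ x'⁻¹ := by
  obtain ⟨ζ, hζ, rfl⟩ := h1
  refine ⟨ζ⁻¹, inv_mem hζ, ?_⟩
  rw [mul_inv_rev]
  exact (h.zp_cent (inv_mem hx) (inv_mem hζ)).symm

theorem eqz_conj (h : Wide C Q R E T z s v) {c x x' : G} (hc : c ∈ C) (h1 : Eqz z x x') :
    Eqz z (c * x * c⁻¹) (c * x' * c⁻¹) := by
  obtain ⟨ζ, hζ, rfl⟩ := h1
  refine ⟨ζ, hζ, ?_⟩
  calc c * (x' * ζ) * c⁻¹ = c * x' * (ζ * c⁻¹) := by group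
    _ = c * x' * (c⁻¹ * ζ) := by rw [h.zp_cent (inv_mem hc) hζ]
    _ = _ := by group

theorem eqz_mem (h : Wide C Q R E T z s v) {A : Subgroup G} (hA : zpowers z ≤ A) {x y : G} (hxy : Eqz z x y)
    (hy : y ∈ A) : x ∈ A := by
  obtain ⟨ζ, hζ, rfl⟩ := hxy
  exact mul_mem hy (hA hζ)

/-- commuting mod `z` in `R` -/
theorem eqz_comm (h : Wide C Q R E T z s v) {x y : G} (hx : x ∈ R) (hy : y ∈ R) : Eqz z (x * y) (y * x) := by
  have h1 := h.R_comm x hx y hy
  refine ⟨cm x y, h1, ?_⟩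
  rw [← h.zp_cent (mul_mem (h.R_le_C hy) (h.R_le_C hx)) h1 |>.symm]
  simp only [cm]
  group

/-! ### the commutator form on `R` -/

theorem cm_mul_left (h : Wide C Q R E T z s v) {x y w : G} (hx : x ∈ R) (hy : y ∈ R) (hw : w ∈ R) :
    cm (x * y) w = cm x w * cm y w := by
  have h1 := h.R_comm y hy w hw
  have h2 := h.zp_cent (h.R_le_C hx) h1
  have h3 := h.zp_cent (h.R_le_C (h.zp_le_R (h.R_comm x hx w hw))) h1
  calc cm (x * y) w = x * cm y w * (w * x⁻¹ * w⁻¹) := by simp only [cm]; group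
    _ = cm y w * x * (w * x⁻¹ * w⁻¹) := by rw [h2]
    _ = cm y w * cm x w := by simp only [cm]; group
    _ = _ := h3.symm

theorem cm_inv (x y : G) : (cm x y)⁻¹ = cm y x := by simp only [cm]; group

theorem zp_inv (h : Wide C Q R E T z s v) {x : G} (hx : x ∈ zpowers z) : x⁻¹ = x := by
  rcases h.mem_z.1 hx with rfl | rfl
  · simp
  · exact h.z_inv

theorem cm_swap (h : Wide C Q R E T z s v) {x y : G} (hx : x ∈ R) (hy : y ∈ R) : cm x y = cm y x := by
  rw [← cm_inv x y, h.zp_inv (h.R_comm x hx y hy)]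

theorem cm_mul_right (h : Wide C Q R E T z s v) {x y w : G} (hx : x ∈ R) (hy : y ∈ R) (hw : w ∈ R) :
    cm x (y * w) = cm x y * cm x w := by
  rw [h.cm_swap hx (mul_mem hy hw), h.cm_mul_left hy hw hx, h.cm_swap hy hx, h.cm_swap hw hx]

theorem cm_conj (h : Wide C Q R E T z s v) {c x y : G} (hc : c ∈ C) (hx : x ∈ R) (hy : y ∈ R) :
    cm (c * x * c⁻¹) (c * y * c⁻¹) = cm x y := by
  have h1 := h.zp_cent hc (h.R_comm x hx y hy)
  calc cm (c * x * c⁻¹) (c * y * c⁻¹) = c * cm x y * c⁻¹ := by simp only [cm]; group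
    _ = cm x y := by rw [h1]; group

theorem cm_one_iff {x y : G} : cm x y = 1 ↔ x * y = y * x := by
  simp only [cm]
  rw [mul_inv_eq_one, mul_inv_eq_iff_eq_mul]

theorem cm_eqz (h : Wide C Q R E T z s v) {x x' y y' : G} (hx : x' ∈ C) (hy : y' ∈ C) (h1 : Eqz z x x')
    (h2 : Eqz z y y') : cm x y = cm x' y' := by
  obtain ⟨ζ, hζ, rfl⟩ := h1
  obtain ⟨ξ, hξ, rfl⟩ := h2
  have a1 := h.zp_cent hx hζ
  have a2 := h.zp_cent hy hζ
  have a3 := h.zp_cent hx hξ
  have a4 := h.zp_cent hy hξ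
  have a5 := h.zp_cent (h.R_le_C (h.zp_le_R hζ)) hξ
  simp only [cm, mul_inv_rev]
  calc x' * ζ * (y' * ξ) * (ζ⁻¹ * x'⁻¹) * (ξ⁻¹ * y'⁻¹) = x' * (ζ * y') * (ξ * ζ⁻¹) * x'⁻¹ * (ξ⁻¹ * y'⁻¹) := by group
    _ = x' * (y' * ζ) * (ζ⁻¹ * ξ) * x'⁻¹ * (ξ⁻¹ * y'⁻¹) := by
        rw [a2, show ξ * ζ⁻¹ = ζ⁻¹ * ξ from (eq_comm.1 (by
          rw [inv_mul_eq_iff_eq_mul, ← mul_assoc, a5, mul_assoc, mul_inv_cancel, mul_one]))]
    _ = x' * y' * (ξ * x'⁻¹) * (ξ⁻¹ * y'⁻¹) := by group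
    _ = x' * y' * (x'⁻¹ * ξ) * (ξ⁻¹ * y'⁻¹) := by
        rw [show ξ * x'⁻¹ = x'⁻¹ * ξ from (eq_comm.1 (by
          rw [inv_mul_eq_iff_eq_mul, ← mul_assoc, a3, mul_assoc, mul_inv_cancel, mul_one]))]
    _ = _ := by group

/-! ### the map `x ↦ [s, x]` -/

/-- `[s, x] ∈ R` -/
theorem sx_mem (h : Wide C Q R E T z s v) {x : G} (hx : x ∈ R) : cm s x ∈ R :=
  mul_mem (h.R_norm s (h.Q_le h.s_mem) x hx) (inv_mem hx)

theorem s_conj_mem (h : Wide C Q R E T z s v) {x : G} (hx : x ∈ R) : s * x * s⁻¹ ∈ R :=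
  h.R_norm s (h.Q_le h.s_mem) x hx

/-- `[s, x y] ≡ [s, x] [s, y]` -/
theorem sx_mul (h : Wide C Q R E T z s v) {x y : G} (hx : x ∈ R) (hy : y ∈ R) :
    Eqz z (cm s (x * y)) (cm s x * cm s y) := by
  have e : cm s (x * y) = cm s x * (x * cm s y * x⁻¹) := by simp only [cm]; group
  rw [e]
  refine h.eqz_mul (h.R_le_C (h.sx_mem hy)) (Eqz.refl _) ?_
  have h1 := h.eqz_comm hx (h.sx_mem hy)
  have h2 := h.eqz_mul (inv_mem (h.R_le_C hx)) h1 (Eqz.refl x⁻¹)
  have e2 : cm s y * x * x⁻¹ = cm s y := by group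
  rwa [e2] at h2

theorem sx_eqz (h : Wide C Q R E T z s v) {x y : G} (hx : x ∈ R) (hy : y ∈ R) (hxy : Eqz z x y) :
    Eqz z (cm s x) (cm s y) := by
  rw [h.cm_eqz (h.Q_le h.s_mem) (h.R_le_C hy) (Eqz.refl s) hxy]
  exact Eqz.refl _

theorem sx_inv (h : Wide C Q R E T z s v) {x : G} (hx : x ∈ R) : Eqz z (cm s x⁻¹) (cm s x)⁻¹ := by
  have h1 := h.sx_mul hx (inv_mem hx)
  have e : cm s (x * x⁻¹) = 1 := by simp [cm]
  rw [e] at h1
  have h2 := h.eqz_mul (h.R_le_C (mul_mem (h.sx_mem hx) (h.sx_mem (inv_mem hx)))) (Eqz.refl (cm s x)⁻¹) h1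
  have e1 : (cm s x)⁻¹ * 1 = (cm s x)⁻¹ := mul_one _
  have e2 : (cm s x)⁻¹ * (cm s x * cm s x⁻¹) = cm s x⁻¹ := inv_mul_cancel_left _ _
  rw [e1, e2] at h2
  exact h2.symm

/-- `c [s, y] c⁻¹ ≡ [s, c y c⁻¹]` -/
theorem sx_conj (h : Wide C Q R E T z s v) {c y : G} (hc : c ∈ C) (hy : y ∈ R) :
    Eqz z (c * cm s y * c⁻¹) (cm s (c * y * c⁻¹)) := by
  set r := c * s * c⁻¹ * s⁻¹ with hr
  have hrR : r ∈ R := h.cm_mem_R hc h.s_mem
  set y' := c * y * c⁻¹ with hy'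
  have hyR : y' ∈ R := h.R_norm c hc y hy
  have e : c * cm s y * c⁻¹ = cm r (s * y' * s⁻¹) * cm s y' := by
    simp only [cm, hr, hy']
    group
  rw [e]
  have h1 := h.R_comm r hrR _ (h.s_conj_mem hyR)
  refine ⟨cm r (s * y' * s⁻¹), h1, ?_⟩
  exact (h.zp_cent (h.R_le_C (h.sx_mem hyR)) h1).symm

/-- `[s, [s, y]] ∈ ⟨z⟩` -/
theorem sx_sx (h : Wide C Q R E T z s v) {y : G} (hy : y ∈ R) : cm s (cm s y) ∈ zpowers z := by
  set a := s * y⁻¹ * s⁻¹ with ha
  have haR : a ∈ R := h.s_conj_mem (inv_mem hy)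
  have h1 : cm (s * s) y ∈ zpowers z := h.R_comm _ (h.sq_mem_R h.s_mem) _ hy
  have e : cm s (cm s y) = cm (s * s) y * ((y * a) * (y * a)) := by
    simp only [cm, ha]
    group
  rw [e]
  exact mul_mem h1 (h.R_sq _ (mul_mem hy haR))

/-! ### `K` and `N` -/

/-- `K = {x ∈ R : [s, x] ∈ ⟨z⟩}` -/
def KK (h : Wide C Q R E T z s v) : Subgroup G where
  carrier := {x | x ∈ R ∧ Eqz z (cm s x) 1}
  one_mem' := ⟨one_mem _, by rw [show cm s 1 = 1 by simp [cm]]; exact Eqz.refl _⟩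
  mul_mem' := by
    rintro x y ⟨hx, hx1⟩ ⟨hy, hy1⟩
    refine ⟨mul_mem hx hy, (h.sx_mul hx hy).trans ?_⟩
    have := h.eqz_mul (one_mem C) hx1 hy1
    rwa [mul_one] at this
  inv_mem' := by
    rintro x ⟨hx, hx1⟩
    refine ⟨inv_mem hx, (h.sx_inv hx).trans ?_⟩
    have := h.eqz_inv (one_mem C) hx1
    rwa [inv_one] at this

/-- `N = [s, R]⟨z⟩` -/
def NN (h : Wide C Q R E T z s v) : Subgroup G where
  carrier := {x | x ∈ R ∧ ∃ y ∈ R, Eqz z x (cm s y)}
  one_mem' := ⟨one_mem _, 1, one_mem _, by rw [show cm s 1 = 1 by simp [cm]]; exact Eqz.refl _⟩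
  mul_mem' := by
    rintro x x' ⟨hx, y, hy, hxy⟩ ⟨hx', y', hy', hxy'⟩
    refine ⟨mul_mem hx hx', y * y', mul_mem hy hy', ?_⟩
    exact (h.eqz_mul (h.R_le_C (h.sx_mem hy')) hxy hxy').trans (h.sx_mul hy hy').symm
  inv_mem' := by
    rintro x ⟨hx, y, hy, hxy⟩
    refine ⟨inv_mem hx, y⁻¹, inv_mem hy, ?_⟩
    exact (h.eqz_inv (h.R_le_C (h.sx_mem hy)) hxy).trans (h.sx_inv hy).symm

theorem mem_KK (h : Wide C Q R E T z s v) {x : G} : x ∈ h.KK ↔ x ∈ R ∧ Eqz z (cm s x) 1 := Iff.rfl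

theorem mem_NN (h : Wide C Q R E T z s v) {x : G} : x ∈ h.NN ↔ x ∈ R ∧ ∃ y ∈ R, Eqz z x (cm s y) := Iff.rfl

theorem KK_le (h : Wide C Q R E T z s v) : h.KK ≤ R := fun _ hx => hx.1

theorem NN_le (h : Wide C Q R E T z s v) : h.NN ≤ h.KK := by
  rintro x ⟨hx, y, hy, hxy⟩
  refine ⟨hx, (h.sx_eqz hx (h.sx_mem hy) hxy).trans ?_⟩
  exact eqz_one.2 (h.sx_sx hy)

theorem zp_le_NN (h : Wide C Q R E T z s v) : zpowers z ≤ h.NN := by
  intro x hx
  refine ⟨h.zp_le_R hx, 1, one_mem _, ?_⟩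
  rw [show cm s 1 = 1 by simp [cm]]
  exact eqz_one.2 hx

theorem NN_conj (h : Wide C Q R E T z s v) {c x : G} (hc : c ∈ C) (hx : x ∈ h.NN) : c * x * c⁻¹ ∈ h.NN := by
  obtain ⟨hxR, y, hy, hxy⟩ := hx
  exact ⟨h.R_norm c hc x hxR, c * y * c⁻¹, h.R_norm c hc y hy, (h.eqz_conj hc hxy).trans (h.sx_conj hc hy)⟩

theorem KK_conj (h : Wide C Q R E T z s v) {c x : G} (hc : c ∈ C) (hx : x ∈ h.KK) : c * x * c⁻¹ ∈ h.KK := by
  obtain ⟨hxR, hx1⟩ := hx
  refine ⟨h.R_norm c hc x hxR, (h.sx_conj hc hxR).symm.trans ?_⟩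
  have := h.eqz_conj hc hx1
  rwa [mul_one, mul_inv_cancel] at this

/-- `[K, N] = 1` -/
theorem KN_comm (h : Wide C Q R E T z s v) {k a : G} (hk : k ∈ h.KK) (ha : a ∈ h.NN) : cm k a = 1 := by
  obtain ⟨hkR, hk1⟩ := hk
  obtain ⟨haR, x, hx, hax⟩ := ha
  rw [h.cm_eqz (h.R_le_C hkR) (h.R_le_C (h.sx_mem hx)) (Eqz.refl k) hax]
  have hsk : Eqz z (s * k * s⁻¹) k := by
    have := h.eqz_mul (h.R_le_C hkR) hk1 (Eqz.refl k)
    have e : cm s k * k = s * k * s⁻¹ := by simp only [cm]; group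
    rwa [e, one_mul] at this
  have e1 : cm s x = (s * x * s⁻¹) * x⁻¹ := rfl
  rw [e1, h.cm_mul_right hkR (h.s_conj_mem hx) (inv_mem hx)]
  have h2 : cm k (s * x * s⁻¹) = cm k x := by
    rw [← h.cm_eqz (h.R_le_C hkR) (h.R_le_C (h.s_conj_mem hx)) hsk (Eqz.refl (s * x * s⁻¹))]
    exact h.cm_conj (h.Q_le h.s_mem) hkR hx
  rw [h2, ← h.cm_mul_right hkR hx (inv_mem hx)]
  simp [cm]

/-- `|R : K| ≥ |N : ⟨z⟩|` -/
theorem idx_le [Finite G] (h : Wide C Q R E T z s v) : (zpowers z).relIndex h.NN ≤ h.KK.relIndex R := by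
  classical
  have hch : ∀ a : G, ∃ x : G, a ∈ h.NN → x ∈ R ∧ Eqz z a (cm s x) := by
    intro a
    by_cases ha : a ∈ h.NN
    · obtain ⟨-, x, hx, hax⟩ := ha
      exact ⟨x, fun _ => ⟨hx, hax⟩⟩
    · exact ⟨1, fun h' => (ha h').elim⟩
  choose F hF using hch
  refine relIndex_le F (fun a ha => (hF a ha).1) fun a ha b hb hab => ?_
  have h1 := (hF a ha).2
  have h2 := (hF b hb).2
  obtain ⟨-, h3⟩ := hab
  have h4 := h.sx_mul (inv_mem (hF a ha).1) (hF b hb).1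
  have h5 := h.eqz_mul (h.R_le_C (h.sx_mem (hF b hb).1)) (h.sx_inv (hF a ha).1) (Eqz.refl (cm s (F b)))
  have h6 := (h4.trans h5).symm.trans h3
  have h7 := h.eqz_mul (h.R_le_C (h.sx_mem (hF b hb).1))
    (h.eqz_inv (h.R_le_C (h.sx_mem (hF a ha).1)) h1) h2
  exact eqz_one.1 (h7.trans h6)

/-- `|N|² ≤ 2 |R|` -/
theorem card_N_sq [Finite G] (h : Wide C Q R E T z s v) : Nat.card h.NN * Nat.card h.NN ≤ 2 * Nat.card R := by
  have h1 := card_mul_relIndex h.KK_le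
  have h2 := card_mul_relIndex h.zp_le_NN
  rw [h.card_zp] at h2
  have h3 : Nat.card h.NN ≤ Nat.card h.KK := Nat.card_le_card_of_injective _ (inclusion_injective h.NN_le)
  calc Nat.card h.NN * Nat.card h.NN = 2 * (Nat.card h.NN * (zpowers z).relIndex h.NN) := by
        conv_lhs => rw [← h2]
        rw [← h2]; ring
    _ ≤ 2 * (Nat.card h.KK * h.KK.relIndex R) := Nat.mul_le_mul_left _ (Nat.mul_le_mul h3 h.idx_le)
    _ = _ := by rw [h1]

/-! ### the elements `e`, `n`, `a` -/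

/-- the elements of `E` fixed by `s` mod `z` -/
theorem E_inf [Finite G] (h : Wide C Q R E T z s v) {e : G} (he : e ∈ E) (hse : cm s e ∉ zpowers z) {y : G}
    (hy : y ∈ E) (hyK : y ∈ h.KK) : y ∈ h.NN := by
  -- `E ∩ K = ⟨z, [s, e]⟩`: `E ∩ K < E` has order at most 4, `⟨z⟩ < ⟨z⟩⟨[s,e]⟩ ≤ E ∩ N`
  have hn : cm s e ∈ E := mul_mem (h.s_norm e he) (inv_mem he)
  have heR := h.E_le he
  have hnN : cm s e ∈ h.NN := ⟨h.sx_mem heR, e, heR, Eqz.refl _⟩
  have h1 : E ⊓ h.NN ≤ E ⊓ h.KK := inf_le_inf_left _ h.NN_le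
  have heK : e ∉ E ⊓ h.KK := fun h2 => hse (eqz_one.1 h2.2.2)
  have h2 := two_mul_le (inf_le_left : E ⊓ h.KK ≤ E) he heK
  rw [h.E_card] at h2
  have h3 : zpowers z ≤ E ⊓ h.NN := le_inf h.zp_le_E h.zp_le_NN
  have h4 := two_mul_le h3 (k := cm s e) ⟨hn, hnN⟩ hse
  rw [h.card_zp] at h4
  have h5 : E ⊓ h.NN = E ⊓ h.KK := Subgroup.eq_of_le_of_card_ge h1 (by omega)
  have h6 : y ∈ E ⊓ h.KK := ⟨hy, hyK⟩
  rw [← h5] at h6
  exact h6.2

/-- some `a ∈ N` does not commute with `e` -/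
theorem exists_a (h : Wide C Q R E T z s v) {e : G} (he : e ∈ R) (hse : cm s e ∉ zpowers z) :
    ∃ a ∈ h.NN, cm a e ≠ 1 := by
  by_contra hcon
  push Not at hcon
  apply hse
  refine h.R_cent _ (h.sx_mem he) fun x hx => ?_
  have h1 := hcon _ ⟨h.sx_mem hx, x, hx, Eqz.refl _⟩
  -- `[[s, x], e] = [σx, e][x, e] = [x, σe][x, e] = [x, [s, e]]`
  have e1 : cm s x = (s * x * s⁻¹) * x⁻¹ := rfl
  have e2 : cm s e = (s * e * s⁻¹) * e⁻¹ := rfl
  rw [e1, h.cm_mul_left (h.s_conj_mem hx) (inv_mem hx) he] at h1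
  have h2 : cm (s * x * s⁻¹) e = cm x (s * e * s⁻¹) := by
    have h3 := h.cm_conj (h.Q_le h.s_mem) (h.s_conj_mem hx) he
    have hss : Eqz z (s * (s * x * s⁻¹) * s⁻¹) x := by
      have h4 : cm (s * s) x ∈ zpowers z := h.R_comm _ (h.sq_mem_R h.s_mem) _ hx
      have e3 : s * (s * x * s⁻¹) * s⁻¹ = cm (s * s) x * x := by simp only [cm]; group
      rw [e3]
      have := h.eqz_mul (h.R_le_C hx) (eqz_one.2 h4) (Eqz.refl x)
      rwa [one_mul] at this
    rw [h.cm_eqz (h.R_le_C hx) (h.R_le_C (h.s_conj_mem he)) hss (Eqz.refl (s * e * s⁻¹))] at h3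
    exact h3.symm
  have h3 : ∀ {u w : G}, u ∈ R → w ∈ R → cm u w * cm u w = 1 := by
    intro u w hu hw
    rcases h.mem_z.1 (h.R_comm u hu w hw) with h4 | h4
    · rw [h4, one_mul]
    · rw [h4, h.z_sq]
  have h4 : cm x⁻¹ e = cm x e := by
    have h5 := h.cm_mul_left (inv_mem hx) hx he
    rw [inv_mul_cancel, show cm 1 e = 1 by simp [cm]] at h5
    rw [← mul_right_cancel_iff (a := cm x e), ← h5, h3 hx he]
  have h5 : cm x e⁻¹ = cm x e := by
    have h5 := h.cm_mul_right hx (inv_mem he) he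
    rw [inv_mul_cancel, show cm x 1 = 1 by simp [cm]] at h5
    rw [← mul_right_cancel_iff (a := cm x e), ← h5, h3 hx he]
  refine (cm_one_iff.1 ?_).symm
  rw [e2, h.cm_mul_right hx (h.s_conj_mem he) (inv_mem he), h5, ← h2]
  rwa [h4] at h1

/-! ### the stabiliser of the chain -/

/-- the (K) lemma for the chain `Q > R > K > N > ⟨z⟩ > 1` -/
theorem mem_Q_of [Finite G] (h : Wide C Q R E T z s v) {c : G} (hc : c ∈ C) (h1 : ∀ x ∈ R, cm c x ∈ h.KK)
    (h2 : ∀ x ∈ h.KK, cm c x ∈ h.NN) (h3 : ∀ x ∈ h.NN, cm c x ∈ zpowers z) : c ∈ Q := by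
  have aux : ∀ {A : Subgroup G}, (∀ c ∈ C, ∀ x ∈ A, c * x * c⁻¹ ∈ A) → ∀ {B : Subgroup G} {a b : G}, a ∈ C → b ∈ C →
      (∀ x ∈ B, cm a x ∈ A) → (∀ x ∈ B, cm b x ∈ A) → (∀ x ∈ B, cm (a * b) x ∈ A) ∧ (∀ x ∈ B, cm a⁻¹ x ∈ A) := by
    intro A hA B a b ha hb h4 h5
    refine ⟨fun x hx => ?_, fun x hx => ?_⟩
    · have e : cm (a * b) x = (a * cm b x * a⁻¹) * cm a x := by simp only [cm]; group
      rw [e]
      exact mul_mem (hA a ha _ (h5 x hx)) (h4 x hx)
    · have e : cm a⁻¹ x = a⁻¹ * (cm a x)⁻¹ * a⁻¹⁻¹ := by simp only [cm]; group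
      rw [e]
      exact hA _ (inv_mem ha) _ (inv_mem (h4 x hx))
  have nK : ∀ c ∈ C, ∀ x ∈ h.KK, c * x * c⁻¹ ∈ h.KK := fun c hc x hx => h.KK_conj hc hx
  have nN : ∀ c ∈ C, ∀ x ∈ h.NN, c * x * c⁻¹ ∈ h.NN := fun c hc x hx => h.NN_conj hc hx
  have nZ : ∀ c ∈ C, ∀ x ∈ zpowers z, c * x * c⁻¹ ∈ zpowers z := by
    intro c hc x hx
    rw [h.zp_cent hc hx, mul_inv_cancel_right]
    exact hx
  let B : Subgroup G :=
    { carrier := {g | g ∈ C ∧ (∀ x ∈ R, cm g x ∈ h.KK) ∧ (∀ x ∈ h.KK, cm g x ∈ h.NN) ∧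
        ∀ x ∈ h.NN, cm g x ∈ zpowers z}
      one_mem' := ⟨one_mem _, fun x _ => by simp [cm], fun x _ => by simp [cm], fun x _ => by simp [cm]⟩
      mul_mem' := by
        rintro a b ⟨ha0, ha1, ha2, ha3⟩ ⟨hb0, hb1, hb2, hb3⟩
        exact ⟨mul_mem ha0 hb0, (aux nK ha0 hb0 ha1 hb1).1, (aux nN ha0 hb0 ha2 hb2).1, (aux nZ ha0 hb0 ha3 hb3).1⟩
      inv_mem' := by
        rintro a ⟨ha0, ha1, ha2, ha3⟩
        exact ⟨inv_mem ha0, (aux nK ha0 ha0 ha1 ha1).2, (aux nN ha0 ha0 ha2 ha2).2, (aux nZ ha0 ha0 ha3 ha3).2⟩ }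
  have hB : ∀ g, g ∈ B ↔ g ∈ C ∧ (∀ x ∈ R, cm g x ∈ h.KK) ∧ (∀ x ∈ h.KK, cm g x ∈ h.NN) ∧
        ∀ x ∈ h.NN, cm g x ∈ zpowers z := fun _ => Iff.rfl
  have hBC : B ≤ C := fun g hg => ((hB g).1 hg).1
  have hR2 : IsPGroup 2 R := h.Q_p.to_le h.R_le
  have hB2 : IsPGroup 2 B := by
    refine isPGroup_of_odd fun g hg hodd => ?_
    obtain ⟨g0, g1, g2, g3⟩ := (hB g).1 hg
    have k3 : ∀ x ∈ h.NN, g * x = x * g := fun x hx =>
      comm_of_odd hodd (hR2.to_le h.zp_le_R) (g3 x hx) (h.zp_cent g0 (g3 x hx))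
    have k2 : ∀ x ∈ h.KK, g * x = x * g := fun x hx =>
      comm_of_odd hodd (hR2.to_le (h.NN_le.trans h.KK_le)) (g2 x hx) (k3 _ (g2 x hx))
    have k1 : ∀ x ∈ R, g * x = x * g := fun x hx =>
      comm_of_odd hodd (hR2.to_le h.KK_le) (g1 x hx) (k2 _ (g1 x hx))
    have k0 : ∀ x ∈ Q, g * x = x * g := fun x hx =>
      comm_of_odd hodd hR2 (h.cm_mem_R g0 hx) (k1 _ (h.cm_mem_R g0 hx))
    have h4 : g ∈ Q := h.cent ⟨g0, mem_centralizer_iff.2 fun x hx => (k0 x hx).symm⟩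
    obtain ⟨n, hn⟩ := h.Q_p ⟨g, h4⟩
    have hn' : g ^ 2 ^ n = 1 := congrArg Subtype.val hn
    have hd := orderOf_dvd_of_pow_eq_one hn'
    have hco : (orderOf g).Coprime (2 ^ n) := (Nat.coprime_two_right.2 hodd).pow_right n
    exact orderOf_eq_one_iff.1 (Nat.Coprime.eq_one_of_dvd hco hd)
  have hBn : C ≤ normalizer (B : Set G) := by
    have key : ∀ l ∈ C, ∀ g ∈ B, l * g * l⁻¹ ∈ B := by
      intro l hl g hg
      obtain ⟨g0, g1, g2, g3⟩ := (hB g).1 hg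
      have conv : ∀ {A A' : Subgroup G}, (∀ c ∈ C, ∀ x ∈ A, c * x * c⁻¹ ∈ A) →
          (∀ c ∈ C, ∀ x ∈ A', c * x * c⁻¹ ∈ A') → (∀ x ∈ A', cm g x ∈ A) → ∀ x ∈ A', cm (l * g * l⁻¹) x ∈ A := by
        intro A A' hA hA' h4 x hx
        have h5 := hA' _ (inv_mem hl) x hx
        have h6 := hA l hl _ (h4 _ h5)
        have e : cm (l * g * l⁻¹) x = l * cm g (l⁻¹ * x * l⁻¹⁻¹) * l⁻¹ := by simp only [cm]; group
        rw [e]
        exact h6
      exact (hB _).2 ⟨mul_mem (mul_mem hl g0) (inv_mem hl), conv nK h.R_norm g1, conv nN nK g2, conv nZ nN g3⟩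
    intro l hl
    rw [mem_normalizer_iff]
    intro g
    refine ⟨key l hl g, fun h4 => ?_⟩
    have h5 := key _ (inv_mem hl) _ h4
    have e : l⁻¹ * (l * g * l⁻¹) * l⁻¹⁻¹ = g := by group
    rwa [e] at h5
  rw [h.Q_eq]
  exact le_o2 hBC hB2 hBn ((hB c).2 ⟨hc, h1, h2, h3⟩)

/-- an element acting trivially on `N/z` has `[c, R] ≤ K` -/
theorem cm_R_mem (h : Wide C Q R E T z s v) {c : G} (hc : c ∈ C) (h3 : ∀ x ∈ h.NN, cm c x ∈ zpowers z) {x : G}
    (hx : x ∈ R) : cm c x ∈ h.KK := by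
  have hcx : c * x * c⁻¹ ∈ R := h.R_norm c hc x hx
  refine ⟨mul_mem hcx (inv_mem hx), ?_⟩
  have h1 : cm c x = (c * x * c⁻¹) * x⁻¹ := rfl
  rw [h1]
  refine (h.sx_mul hcx (inv_mem hx)).trans ?_
  have h2 := h.sx_conj hc hx
  have hsxN : cm s x ∈ h.NN := ⟨h.sx_mem hx, x, hx, Eqz.refl _⟩
  have h4 := h3 _ hsxN
  have h5 : Eqz z (c * cm s x * c⁻¹) (cm s x) := by
    have e : c * cm s x * c⁻¹ = cm c (cm s x) * cm s x := by simp only [cm]; group
    rw [e]
    have := h.eqz_mul (h.R_le_C (h.sx_mem hx)) (eqz_one.2 h4) (Eqz.refl (cm s x))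
    rwa [one_mul] at this
  have h6 := h.eqz_mul (inv_mem (h.R_le_C (h.sx_mem hx))) (h2.symm.trans h5) (h.sx_inv hx)
  rwa [mul_inv_cancel] at h6

/-- **the kernel**: an element of `T` centralising `a` mod `z` lies in `Q` -/
theorem mem_Q_of_T [Finite G] (h : Wide C Q R E T z s v) {e a : G} (he : e ∈ E) (hse : cm s e ∉ zpowers z)
    (ha : a ∈ h.NN) (hae : cm a e ≠ 1) {w : G} (hw : w ∈ T) (hwa : cm w a ∈ zpowers z) : w ∈ Q := by
  have hwC := h.T_le hw
  have heR := h.E_le he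
  have hNR : h.NN ≤ R := h.NN_le.trans h.KK_le
  have hnE : cm s e ∈ E := mul_mem (h.s_norm e he) (inv_mem he)
  have hnN : cm s e ∈ h.NN := ⟨h.sx_mem heR, e, heR, Eqz.refl _⟩
  -- `[a, e] = z` and so `y` or `y a` commutes with `e`
  have hz : ∀ {x y : G}, x ∈ R → y ∈ R → cm x y ≠ 1 → cm x y = z := fun hx hy h1 =>
    (h.mem_z.1 (h.R_comm _ hx _ hy)).resolve_left h1
  have hfix : ∀ k ∈ h.KK, cm k e ≠ 1 → cm (k * a) e = 1 := by
    intro k hk hke
    rw [h.cm_mul_left (h.KK_le hk) (hNR ha) heR, hz (h.KK_le hk) heR hke, hz (hNR ha) heR hae, h.z_sq]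
  -- elements of `K` commuting with `e` centralise `E`
  have hcE : ∀ k ∈ h.KK, cm k e = 1 → ∀ x ∈ E, k * x = x * k := by
    intro k hk hke x hx
    -- `E = ⟨z, n, e⟩`
    have h1 : E ⊓ centralizer ({k} : Set G) = E := by
      refine Subgroup.eq_of_le_of_card_ge inf_le_left ?_
      rw [h.E_card]
      have heI : e ∈ E ⊓ centralizer ({k} : Set G) := ⟨he, mem_centralizer_singleton_iff.2 (cm_one_iff.1 hke).symm⟩
      have hnI : cm s e ∈ E ⊓ h.NN ⊓ centralizer ({k} : Set G) :=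
        ⟨⟨hnE, hnN⟩, mem_centralizer_singleton_iff.2 (cm_one_iff.1 (h.KN_comm hk hnN)).symm⟩
      have hzI : zpowers z ≤ E ⊓ h.NN ⊓ centralizer ({k} : Set G) := by
        refine le_inf (le_inf h.zp_le_E h.zp_le_NN) ?_
        intro y hy
        exact mem_centralizer_singleton_iff.2 (h.zp_cent (h.R_le_C (h.KK_le hk)) hy).symm
      have h2 := two_mul_le hzI hnI hse
      rw [h.card_zp] at h2
      have hle : E ⊓ h.NN ⊓ centralizer ({k} : Set G) ≤ E ⊓ centralizer ({k} : Set G) :=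
        inf_le_inf_right _ inf_le_left
      have h3 := two_mul_le hle heI (fun h4 => hse (eqz_one.1 (h.NN_le h4.1.2).2))
      omega
    have h2 : x ∈ E ⊓ centralizer ({k} : Set G) := by rw [h1]; exact hx
    exact (mem_centralizer_singleton_iff.1 h2.2).symm
  -- `[w, k] ∈ E ∩ K ≤ N` for such `k`
  have hk1 : ∀ k ∈ h.KK, cm k e = 1 → cm w k ∈ h.NN := by
    intro k hk hke
    refine h.E_inf he hse (h.T_comm w hw k (h.KK_le hk) (hcE k hk hke)) ?_
    exact mul_mem (h.KK_conj hwC hk) (inv_mem hk)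
  -- `[w, y] ∈ ⟨z⟩` for `y ∈ N`, `[y, e] = 1`
  have hy1 : ∀ y ∈ h.NN, cm y e = 1 → cm w y ∈ zpowers z := by
    intro y hy hye
    have hyE : cm w y ∈ E := h.T_comm w hw y (hNR hy) (hcE y (h.NN_le hy) hye)
    by_contra hcon
    -- `E ∩ N = ⟨z⟩ ∪ n⟨z⟩`
    have hyN : cm w y ∈ h.NN := mul_mem (h.NN_conj hwC hy) (inv_mem hy)
    have h2 : Eqz z (cm w y) (cm s e) := by
      have h3 : (zpowers z).relIndex (E ⊓ h.NN) = 2 := by
        have h4 := card_mul_relIndex (le_inf h.zp_le_E h.zp_le_NN)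
        rw [h.card_zp] at h4
        have h5 := two_mul_le (inf_le_left : E ⊓ h.NN ≤ E) he (fun h6 => hse (eqz_one.1 (h.NN_le h6.2).2))
        rw [h.E_card] at h5
        have h6 := two_mul_le (le_inf h.zp_le_E h.zp_le_NN) (k := cm s e) ⟨hnE, hnN⟩ hse
        rw [h.card_zp] at h6
        omega
      have h4 := (Subgroup.mul_mem_iff_of_index_two h3 (a := ⟨(cm s e)⁻¹, inv_mem ⟨hnE, hnN⟩⟩)
        (b := ⟨cm w y, ⟨hyE, hyN⟩⟩)).2 (by
          simp only [mem_subgroupOf]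
          have h5 : (cm s e)⁻¹ ∉ zpowers z := fun h5 => hse (by simpa using inv_mem h5)
          tauto)
      exact ⟨(cm s e)⁻¹ * cm w y, h4, (mul_inv_cancel_left _ _).symm⟩
    -- `y ≡ [s, x]`, `w x w⁻¹ ≡ x e k`
    obtain ⟨-, x, hx, hyx⟩ := hy
    have hwx : w * x * w⁻¹ ∈ R := h.R_norm w hwC x hx
    have h5 : Eqz z (cm s (w * x * w⁻¹)) (cm s (x * e)) := by
      refine (h.sx_conj hwC hx).symm.trans ((h.eqz_conj hwC hyx).symm.trans ?_)
      have e1 : w * y * w⁻¹ = cm w y * y := by simp only [cm]; group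
      rw [e1]
      refine (h.eqz_mul (h.R_le_C (h.sx_mem hx)) h2 hyx).trans ?_
      exact (h.eqz_comm (h.sx_mem heR) (h.sx_mem hx)).trans (h.sx_mul hx heR).symm
    have hkK : (x * e)⁻¹ * (w * x * w⁻¹) ∈ h.KK := by
      refine ⟨mul_mem (inv_mem (mul_mem hx heR)) hwx, ?_⟩
      refine (h.sx_mul (inv_mem (mul_mem hx heR)) hwx).trans ?_
      have h6 := h.eqz_mul (h.R_le_C (h.sx_mem (mul_mem hx heR))) (h.sx_inv (mul_mem hx heR)) h5
      rwa [inv_mul_cancel] at h6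
    have hwa' : Eqz z (w * a * w⁻¹) a := by
      have e1 : w * a * w⁻¹ = cm w a * a := by simp only [cm]; group
      rw [e1]
      have := h.eqz_mul (h.R_le_C (hNR ha)) (eqz_one.2 hwa) (Eqz.refl a)
      rwa [one_mul] at this
    have h6 : cm (w * x * w⁻¹) a = cm x a := by
      rw [← h.cm_conj hwC hx (hNR ha)]
      exact (h.cm_eqz (h.R_le_C hwx) (h.R_le_C (hNR ha)) (Eqz.refl _) hwa').symm
    have h7 : cm (w * x * w⁻¹) a = cm x a * cm e a := by
      have e1 : w * x * w⁻¹ = (x * e) * ((x * e)⁻¹ * (w * x * w⁻¹)) := by group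
      rw [e1, h.cm_mul_left (mul_mem hx heR) (h.KK_le hkK) (hNR ha), h.KN_comm hkK ha, mul_one,
        h.cm_mul_left hx heR (hNR ha)]
    rw [h6, left_eq_mul, ← h.cm_swap (hNR ha) heR] at h7
    exact hae h7
  -- `w` is trivial on `N / z`
  have h3 : ∀ x ∈ h.NN, cm w x ∈ zpowers z := by
    intro x hx
    by_cases hxe : cm x e = 1
    · exact hy1 x hx hxe
    · have h4 := hy1 (x * a) (mul_mem hx ha) (hfix x (h.NN_le hx) hxe)
      have h5 : cm w (x * a) = cm w x * (x * cm w a * x⁻¹) := by simp only [cm]; group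
      rw [h5, h.zp_cent (h.R_le_C (hNR hx)) hwa, mul_inv_cancel_right] at h4
      exact (Subgroup.mul_mem_cancel_right _ hwa).1 h4
  -- `[w, K] ≤ N`
  have h2 : ∀ x ∈ h.KK, cm w x ∈ h.NN := by
    intro x hx
    by_cases hxe : cm x e = 1
    · exact hk1 x hx hxe
    · have h4 := hk1 (x * a) (mul_mem hx (h.NN_le ha)) (hfix x hx hxe)
      have h5 : cm w (x * a) = cm w x * (x * cm w a * x⁻¹) := by simp only [cm]; group
      rw [h5, h.zp_cent (h.R_le_C (h.KK_le hx)) hwa, mul_inv_cancel_right] at h4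
      exact (Subgroup.mul_mem_cancel_right _ (h.zp_le_NN hwa)).1 h4
  exact h.mem_Q_of hwC (fun x hx => h.cm_R_mem hwC h3 hx) h2 h3

/-- `c x c⁻¹ ≡ d x d⁻¹` implies `[c⁻¹ d, x] ∈ ⟨z⟩` -/
theorem cm_of_eq (h : Wide C Q R E T z s v) {c d x : G} (hc : c ∈ C) (hd : d ∈ C) (hx : x ∈ C)
    (h6 : (c * x * c⁻¹)⁻¹ * (d * x * d⁻¹) ∈ zpowers z) : cm (c⁻¹ * d) x ∈ zpowers z := by
  have hcx : c * x * c⁻¹ ∈ C := mul_mem (mul_mem hc hx) (inv_mem hc)
  have e2 : cm (c⁻¹ * d) x =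
      c⁻¹ * ((c * x * c⁻¹) * ((c * x * c⁻¹)⁻¹ * (d * x * d⁻¹)) * (c * x * c⁻¹)⁻¹) * c := by simp only [cm]; group
  rw [e2, h.zp_cent hcx h6, mul_inv_cancel_right, h.zp_cent (inv_mem hc) h6, inv_mul_cancel_right]
  exact h6

/-- `8 ≤ |N|`, `|R| ≤ 4 |N|` -/
theorem card_N [Finite G] (h : Wide C Q R E T z s v) : 8 ≤ Nat.card h.NN ∧ Nat.card R ≤ 4 * Nat.card h.NN := by
  obtain ⟨e, he, hse⟩ := h.s_move
  have heR := h.E_le he
  have hNR : h.NN ≤ R := h.NN_le.trans h.KK_le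
  have hnE : cm s e ∈ E := mul_mem (h.s_norm e he) (inv_mem he)
  have hnN : cm s e ∈ h.NN := ⟨h.sx_mem heR, e, heR, Eqz.refl _⟩
  obtain ⟨a, ha, hae⟩ := h.exists_a heR hse
  set Ne : Subgroup G := h.NN ⊓ centralizer ({e} : Set G) with hNe
  have hz : zpowers z ≤ Ne := by
    refine le_inf h.zp_le_NN fun x hx => mem_centralizer_singleton_iff.2 (h.zp_cent (h.R_le_C heR) hx).symm
  have haN : a ∉ Ne := fun h1 => hae (cm_one_iff.2 (mem_centralizer_singleton_iff.1 h1.2))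
  have hnNe : cm s e ∈ Ne := ⟨hnN, mem_centralizer_singleton_iff.2 (h.E_comm _ hnE _ he)⟩
  have h1 := two_mul_le hz hnNe hse
  have h2 : 2 * Nat.card Ne ≤ Nat.card h.NN := two_mul_le inf_le_left ha haN
  rw [h.card_zp] at h1
  refine ⟨by omega, ?_⟩
  have h3 : Q.relIndex T ≤ (zpowers z).relIndex Ne := by
    refine relIndex_le (fun t => cm t a) (fun t ht => ?_) fun t ht t' ht' h4 => ?_
    · have htC := h.T_le ht
      have h5 : cm t a ∈ h.NN := mul_mem (h.NN_conj htC ha) (inv_mem ha)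
      refine ⟨h5, mem_centralizer_singleton_iff.2 (cm_one_iff.1 ?_)⟩
      have e1 : cm t a = (t * a * t⁻¹) * a⁻¹ := rfl
      have hta : t * a * t⁻¹ ∈ R := h.R_norm t htC a (hNR ha)
      have e2 : t * e * t⁻¹ = e := by rw [h.T_cent t ht e he, mul_inv_cancel_right]
      have h6 : cm (t * a * t⁻¹) e = cm a e := by
        conv_lhs => rw [← e2]
        exact h.cm_conj htC (hNR ha) heR
      rw [e1, h.cm_mul_left hta (inv_mem (hNR ha)) heR, h6, ← h.cm_mul_left (hNR ha) (inv_mem (hNR ha)) heR]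
      simp [cm]
    · -- `[t⁻¹ t', a] ∈ ⟨z⟩`
      have htC := h.T_le ht
      refine h.mem_Q_of_T he hse ha hae (mul_mem (inv_mem ht) ht') ?_
      refine h.cm_of_eq htC (h.T_le ht') (h.R_le_C (hNR ha)) ?_
      have h5 : (cm t a)⁻¹ * cm t' a = a * ((t * a * t⁻¹)⁻¹ * (t' * a * t'⁻¹)) * a⁻¹ := by simp only [cm]; group
      change (cm t a)⁻¹ * cm t' a ∈ zpowers z at h4
      rw [h5] at h4
      have h7 := h.zp_cent (inv_mem (h.R_le_C (hNR ha))) h4
      have e1 : (t * a * t⁻¹)⁻¹ * (t' * a * t'⁻¹) =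
          a⁻¹ * (a * ((t * a * t⁻¹)⁻¹ * (t' * a * t'⁻¹)) * a⁻¹) * a := by group
      rw [e1, h7, inv_mul_cancel_right]
      exact h4
  have h4 : Nat.card (T ⊓ Q : Subgroup G) * Q.relIndex T = Nat.card T := by
    have := card_mul_relIndex (inf_le_left : T ⊓ Q ≤ T)
    rwa [inf_relIndex_left] at this
  have h5 := card_mul_relIndex hz
  rw [h.card_zp] at h5
  have h6 := h.T_inf
  have h7 := h.T_card
  have h8 : Nat.card T ≤ 4 * (zpowers z).relIndex Ne := by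
    rw [← h4]
    exact Nat.mul_le_mul h6 h3
  omega

/-- **`|R| = 32`** -/
theorem card_R [Finite G] (h : Wide C Q R E T z s v) : Nat.card R = 32 := by
  obtain ⟨h1, h2⟩ := h.card_N
  have h3 := h.card_N_sq
  have h4 : Nat.card h.NN ≤ 8 := by
    have h5 : Nat.card h.NN * Nat.card h.NN ≤ 8 * Nat.card h.NN := by omega
    exact Nat.le_of_mul_le_mul_right h5 (by omega)
  have h5 : Nat.card h.NN = 8 := le_antisymm h4 h1
  rw [h5] at h2 h3
  omega

theorem card_NN [Finite G] (h : Wide C Q R E T z s v) : Nat.card h.NN = 8 := by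
  obtain ⟨h1, h2⟩ := h.card_N
  have h3 := h.card_N_sq
  rw [h.card_R] at h3
  have h4 : Nat.card h.NN ≤ 8 := by
    by_contra h5
    push Not at h5
    have : 9 * 9 ≤ Nat.card h.NN * Nat.card h.NN := Nat.mul_le_mul h5 h5
    omega
  omega

/-- `K = N` -/
theorem KK_eq [Finite G] (h : Wide C Q R E T z s v) : h.NN = h.KK := by
  refine Subgroup.eq_of_le_of_card_ge h.NN_le ?_
  have h1 := card_mul_relIndex h.KK_le
  have h2 := card_mul_relIndex h.zp_le_NN
  have h3 := h.idx_le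
  rw [h.card_zp, h.card_NN] at h2
  rw [h.card_R] at h1
  rw [h.card_NN]
  have h4 : (zpowers z).relIndex h.NN = 4 := by omega
  rw [h4] at h3
  by_contra h5
  push Not at h5
  have : 9 * 4 ≤ Nat.card h.KK * h.KK.relIndex R := Nat.mul_le_mul h5 h3
  omega

/-- an element of `C` trivial on `N/z` lies in `Q` -/
theorem mem_Q_of_N [Finite G] (h : Wide C Q R E T z s v) {c : G} (hc : c ∈ C)
    (h3 : ∀ x ∈ h.NN, cm c x ∈ zpowers z) : c ∈ Q := by
  refine h.mem_Q_of hc (fun x hx => h.cm_R_mem hc h3 hx) (fun x hx => ?_) h3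
  rw [← h.KK_eq] at hx
  exact h.zp_le_NN (h3 x hx)

/-- `|C : Q| ≤ 6` -/
theorem relIndex_le_six [Finite G] (h : Wide C Q R E T z s v) : Q.relIndex C ≤ 6 := by
  classical
  obtain ⟨e, he, hse⟩ := h.s_move
  have heR := h.E_le he
  have hNR : h.NN ≤ R := h.NN_le.trans h.KK_le
  have hnE : cm s e ∈ E := mul_mem (h.s_norm e he) (inv_mem he)
  set n := cm s e with hn
  have hnN : n ∈ h.NN := ⟨h.sx_mem heR, e, heR, Eqz.refl _⟩
  obtain ⟨a, ha, hae⟩ := h.exists_a heR hse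
  set Ne : Subgroup G := h.NN ⊓ centralizer ({e} : Set G) with hNe
  have hz : zpowers z ≤ Ne := by
    refine le_inf h.zp_le_NN fun x hx => mem_centralizer_singleton_iff.2 (h.zp_cent (h.R_le_C heR) hx).symm
  have haN : a ∉ Ne := fun h1 => hae (cm_one_iff.2 (mem_centralizer_singleton_iff.1 h1.2))
  have hnNe : n ∈ Ne := ⟨hnN, mem_centralizer_singleton_iff.2 (h.E_comm _ hnE _ he)⟩
  have hNle : Ne ≤ h.NN := inf_le_left
  have h1 := two_mul_le hz hnNe hse
  have h2 : 2 * Nat.card Ne ≤ Nat.card h.NN := two_mul_le hNle ha haN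
  have h3 := card_mul_relIndex hNle
  have h4 := card_mul_relIndex hz
  rw [h.card_zp] at h1 h4
  rw [h.card_NN] at h2 h3
  have hc : Nat.card Ne = 4 := by omega
  have hi1 : Ne.relIndex h.NN = 2 := by rw [hc] at h3; omega
  have hi2 : (zpowers z).relIndex Ne = 2 := by rw [hc] at h4; omega
  have haz : a ∉ zpowers z := fun h5 => haN (hz h5)
  have hanz : a * n ∉ zpowers z := fun h5 => haN ((Subgroup.mul_mem_cancel_right _ hnNe).1 (hz h5))
  -- the three cosets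
  let mk : G → G ⧸ zpowers z := QuotientGroup.mk
  have hmk : ∀ x y : G, mk x = mk y ↔ x⁻¹ * y ∈ zpowers z := fun x y => QuotientGroup.eq
  have hcos : ∀ x ∈ h.NN, x ∉ zpowers z → mk x = mk n ∨ mk x = mk a ∨ mk x = mk (a * n) := by
    intro x hx hxz
    by_cases hxN : x ∈ Ne
    · left
      exact (hmk _ _).2 (inv_mul_mem hi2 hxN hnNe hxz hse)
    · have h5 : a⁻¹ * x ∈ Ne := inv_mul_mem hi1 ha hx haN hxN
      right
      by_cases h6 : a⁻¹ * x ∈ zpowers z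
      · left
        exact ((hmk _ _).2 h6).symm
      · right
        refine ((hmk _ _).2 ?_).symm
        have h7 := inv_mul_mem hi2 hnNe h5 hse h6
        have e1 : (a * n)⁻¹ * x = n⁻¹ * (a⁻¹ * x) := by group
        rwa [e1]
  let P3 : Finset (G ⧸ zpowers z) := {mk n, mk a, mk (a * n)}
  have hP3 : P3.card ≤ 3 := Finset.card_le_three
  have hconj : ∀ c ∈ C, ∀ x ∈ h.NN, x ∉ zpowers z → mk (c * x * c⁻¹) ∈ P3 := by
    intro c hc x hx hxz
    have h5 := hcos _ (h.NN_conj hc hx) (fun h6 => hxz (by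
      have h7 := h.zp_cent (inv_mem hc) h6
      have e1 : x = c⁻¹ * (c * x * c⁻¹) * c := by group
      rw [e1, h7, inv_mul_cancel_right]
      exact h6))
    simp only [P3, Finset.mem_insert, Finset.mem_singleton]
    exact h5
  have h5 : P3.offDiag.card ≤ 6 := by
    rw [Finset.offDiag_card]
    interval_cases P3.card <;> omega
  refine le_trans (relIndex_le_card (fun c => (mk (c * n * c⁻¹), mk (c * a * c⁻¹))) P3.offDiag ?_ ?_) h5
  · intro c hc
    rw [Finset.mem_offDiag]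
    refine ⟨hconj c hc n hnN hse, hconj c hc a ha haz, fun h6 => ?_⟩
    have h7 := (hmk _ _).1 h6
    have h8 : n⁻¹ * a ∈ zpowers z := by
      have e1 : n⁻¹ * a = c⁻¹ * ((c * n * c⁻¹)⁻¹ * (c * a * c⁻¹)) * c := by group
      rw [e1, h.zp_cent (inv_mem hc) h7, inv_mul_cancel_right]
      exact h7
    exact haN ((Subgroup.mul_mem_cancel_left _ (inv_mem hnNe)).1 (hz h8))
  · intro c hc d hd h6
    have h7 := (hmk _ _).1 (congrArg Prod.fst h6)
    have h8 := (hmk _ _).1 (congrArg Prod.snd h6)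
    have hwC : c⁻¹ * d ∈ C := mul_mem (inv_mem hc) hd
    have k1 := h.cm_of_eq hc hd (h.R_le_C (hNR hnN)) h7
    have k2 := h.cm_of_eq hc hd (h.R_le_C (hNR ha)) h8
    have kmul : ∀ x ∈ C, ∀ y ∈ C, cm (c⁻¹ * d) x ∈ zpowers z → cm (c⁻¹ * d) y ∈ zpowers z →
        cm (c⁻¹ * d) (x * y) ∈ zpowers z := by
      intro x hx y hy h9 h10
      have h11 : cm (c⁻¹ * d) (x * y) = cm (c⁻¹ * d) x * (x * cm (c⁻¹ * d) y * x⁻¹) := by simp only [cm]; group
      rw [h11, h.zp_cent hx h10, mul_inv_cancel_right]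
      exact mul_mem h9 h10
    have kz : ∀ x ∈ zpowers z, cm (c⁻¹ * d) x ∈ zpowers z := by
      intro x hx
      have : cm (c⁻¹ * d) x = 1 := cm_one_iff.2 (h.zp_cent hwC hx)
      rw [this]
      exact one_mem _
    have kcos : ∀ y ∈ C, cm (c⁻¹ * d) y ∈ zpowers z → ∀ x, mk x = mk y → cm (c⁻¹ * d) x ∈ zpowers z := by
      intro y hy h9 x h10
      have h11 := (hmk _ _).1 h10.symm
      have e1 : x = y * (y⁻¹ * x) := by group
      rw [e1]
      exact kmul y hy _ (h.R_le_C (h.zp_le_R h11)) h9 (kz _ h11)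
    have hnC := h.R_le_C (hNR hnN)
    have haC := h.R_le_C (hNR ha)
    refine h.mem_Q_of_N hwC fun x hx => ?_
    by_cases hxz : x ∈ zpowers z
    · exact kz x hxz
    · rcases hcos x hx hxz with h9 | h9 | h9
      · exact kcos n hnC k1 x h9
      · exact kcos a haC k2 x h9
      · exact kcos (a * n) (mul_mem haC hnC) (kmul a haC n hnC k2 k1) x h9

/-- **`|C| = 6 |Q|`** -/
theorem card_C [Finite G] (h : Wide C Q R E T z s v) : Nat.card C = 6 * Nat.card Q := by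
  have h1 := card_mul_relIndex h.Q_le
  have h2 := h.relIndex_le_six
  have h3 : Q.relIndex C ≠ 0 := fun h3 => by
    rw [h3, mul_zero] at h1
    exact Nat.card_pos.ne h1
  have : (Q.subgroupOf C).Normal := by
    rw [h.Q_eq]
    exact normal_subgroupOf_of_le_normalizer (le_normalizer_o2 C)
  -- even
  have h4 : 2 ∣ Q.relIndex C := by
    have h5 : orderOf (QuotientGroup.mk (⟨v, h.v_mem⟩ : C) : C ⧸ Q.subgroupOf C) = 2 := by
      refine orderOf_eq_prime ?_ ?_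
      · rw [← QuotientGroup.mk_pow, QuotientGroup.eq_one_iff, mem_subgroupOf]
        change v ^ 2 ∈ Q
        rw [pow_two, h.v_sq]
        exact one_mem _
      · rw [Ne, QuotientGroup.eq_one_iff, mem_subgroupOf]
        exact h.v_not
    rw [← h5]
    exact orderOf_dvd_natCard _
  -- not a power of 2
  have h5 : ∀ k : ℕ, Q.relIndex C ≠ 2 ^ k := by
    intro k hk
    obtain ⟨n, hn⟩ := IsPGroup.iff_card.1 h.Q_p
    have h6 : IsPGroup 2 C := by
      refine IsPGroup.iff_card.2 ⟨n + k, ?_⟩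
      rw [← h1, hn, hk, pow_add]
    have h7 : C ≤ Q := by
      rw [h.Q_eq]
      exact le_o2 le_rfl h6 le_normalizer
    exact h.v_not (h7 h.v_mem)
  have h6 : Q.relIndex C = 6 := by
    have h7 := h5 1
    have h8 := h5 2
    interval_cases hq : Q.relIndex C <;> omega
  rw [← h1, h6, mul_comm]

end Wide

end Cfsg.Agent.Omega.NOne.AG.Wide

end

section


/-!
# THEOREM D0ag (bb #15001): the case `Δ = V`

`Base.caseV`: `Δ ≤ V` gives `F*(C_G(z i₀))` of symplectic type, or `|S| = 128`, `C_S(V) = V`.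
-/

set_option autoImplicit false

namespace Cfsg.Agent.Omega.NOne.AG

open Subgroup Cfsg Cfsg.Agent.ZN Cfsg.Agent.Omega.MinPar Cfsg.Agent.Omega.Frame
open Cfsg.Agent.Omega.NOne.AG.Wide (Wide relIndex_le_card card_mul_relIndex)

universe u

variable {G : Type u} [Group G] {ι : Type*}

namespace Conf

variable {P V T : Subgroup G} {z : ι → G} {opp : ι → ι → Prop} {C Q QF Qs : ι → Subgroup G}

section

variable (h : Conf P V T z opp C Q QF Qs)
include h

/-- `|Qs i : T ∩ Qs i| ≤ 4`. -/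
theorem relIndex_Tt [Finite G] {i j : ι} (hij : opp i j) :
    (h.Tt i).relIndex (Qs i) ≤ 4 := by
  classical
  -- a basis of `E_i / z_i`
  have h8 := h.card_E hij
  obtain ⟨e, he, he1, hez⟩ : ∃ e ∈ V ⊓ Q i, e ≠ 1 ∧ e ≠ z i := by
    by_contra hcon
    push Not at hcon
    have h1 : ((V ⊓ Q i : Subgroup G) : Set G) ⊆ {1, z i} := by
      intro x hx
      by_cases hx1 : x = 1
      · left; exact hx1
      · right; exact hcon x hx hx1
    have h2 := Set.ncard_le_ncard h1 (Set.toFinite _)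
    have h3 : Nat.card ↥(V ⊓ Q i) = ((V ⊓ Q i : Subgroup G) : Set G).ncard := rfl
    have h4 : ({1, z i} : Set G).ncard = 2 := Set.ncard_pair (h.ne_one i).symm
    omega
  obtain ⟨f, hf, hf'⟩ : ∃ f ∈ V ⊓ Q i, ¬ (f = 1 ∨ f = z i ∨ f = e ∨ f = e * z i) := by
    by_contra hcon
    push Not at hcon
    have h1 : ((V ⊓ Q i : Subgroup G) : Set G) ⊆ (({1, z i, e, e * z i} : Finset G) : Set G) := by
      intro x hx
      simp only [Finset.coe_insert, Finset.coe_singleton, Set.mem_insert_iff, Set.mem_singleton_iff]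
      by_contra hc
      simp only [not_or] at hc
      exact hc.2.2.2 (hcon x hx |>.resolve_left hc.1 |>.resolve_left hc.2.1 |>.resolve_left hc.2.2.1)
    have h2 := Set.ncard_le_ncard h1 (Set.toFinite _)
    rw [Set.ncard_coe_finset] at h2
    have h3 : Nat.card ↥(V ⊓ Q i) = ((V ⊓ Q i : Subgroup G) : Set G).ncard := rfl
    have h4 := Finset.card_le_four (a := (1 : G)) (b := z i) (c := e) (d := e * z i)
    omega
  have key : (h.Tt i).relIndex (Qs i) ≤ (Finset.univ : Finset (Bool × Bool)).card := by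
    refine relIndex_le_card (fun x => (decide (x * e = e * x), decide (x * f = f * x))) Finset.univ
      (fun _ _ => Finset.mem_univ _) ?_
    intro c hc d hd hcd
    rw [Prod.mk.injEq, decide_eq_decide, decide_eq_decide] at hcd
    have hx : c⁻¹ * d ∈ Qs i := mul_mem (inv_mem hc) hd
    -- `c⁻¹ d` commutes with `w` if `c`, `d` commute with `w` or both do not
    have hcom : ∀ w ∈ V ⊓ Q i, (c * w = w * c ↔ d * w = w * d) → w * (c⁻¹ * d) = c⁻¹ * d * w := by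
      intro w hw hiff
      have hwQs : w ∈ Qs i := h.VQs i w hw.1 hw.2
      have hzc : ∀ y ∈ Qs i, y * z i = z i * y := fun y hy => h.Qcomm_z (h.QsQ i hy)
      by_cases h1 : c * w = w * c
      · have h2 := hiff.1 h1
        calc w * (c⁻¹ * d) = c⁻¹ * (c * w) * c⁻¹ * d := by group
          _ = c⁻¹ * (w * c) * c⁻¹ * d := by rw [h1]
          _ = c⁻¹ * (w * d) := by group
          _ = c⁻¹ * d * w := by rw [← h2]; group
      · have h2 : ¬ d * w = w * d := fun h2 => h1 (hiff.2 h2)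
        have h3 : c * w = z i * (w * c) := (h.Qs_comm hc hwQs).resolve_left h1
        have h4 : d * w = z i * (w * d) := (h.Qs_comm hd hwQs).resolve_left h2
        have h5 : w * c = z i * (c * w) := by rw [h3, ← mul_assoc, h.sq, one_mul]
        calc w * (c⁻¹ * d) = c⁻¹ * (c * w) * c⁻¹ * d := by group
          _ = c⁻¹ * (z i * (w * c)) * c⁻¹ * d := by rw [h3]
          _ = c⁻¹ * (z i * (w * d)) := by group
          _ = c⁻¹ * d * w := by rw [← h4]; group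
    refine h.mem_Tt.2 ⟨?_, h.QsQ i hx⟩
    by_contra hxT
    exact hf' (h.E_comm hij hx hxT he.1 he.2 hf.1 hf.2 (hcom e he hcd.1) (hcom f hf hcd.2) he1 hez)
  simpa using key

/-- `|Qs i| ≤ 4 |T_i|`. -/
theorem card_Qs_le [Finite G] {i j : ι} (hij : opp i j) (hQF : QF i = Qs i) :
    Nat.card ↥(Qs i) ≤ 4 * Nat.card ↥(h.Tt i) := by
  have hle : h.Tt i ≤ Qs i := fun x hx => hQF ▸ h.Tt_QF hx
  have h1 := card_mul_relIndex hle
  have h2 := h.relIndex_Tt hij
  calc Nat.card ↥(Qs i) = Nat.card ↥(h.Tt i) * (h.Tt i).relIndex (Qs i) := h1.symm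
    _ ≤ Nat.card ↥(h.Tt i) * 4 := Nat.mul_le_mul_left _ h2
    _ = 4 * Nat.card ↥(h.Tt i) := mul_comm _ _

/-- `|Qs i| = |Qs j|`. -/
theorem card_Qs_eq [Finite G] (i j : ι) (hne : ∃ k, opp i k) : Nat.card ↥(Qs i) ≤ Nat.card ↥(Qs j) := by
  obtain ⟨k, hik⟩ := hne
  obtain ⟨x, hx, hxj⟩ := h.trans i k hik j
  have hxP : x ∈ P := (sup_le (h.QsP i) (h.QsP k)) hx
  refine Nat.card_le_card_of_injective
    (fun y : Qs i => (⟨x * y * x⁻¹, h.eqQs x hxP i j hxj y y.2⟩ : Qs j)) ?_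
  intro a b hab
  have h1 := congrArg Subtype.val hab
  exact Subtype.ext (mul_left_cancel (mul_right_cancel h1))

/-- `|V ∩ Q i ∩ Q j| ≤ 4`. -/
theorem card_EE [Finite G] {i j : ι} (hij : opp i j) : Nat.card ↥((V ⊓ Q i) ⊓ Q j) ≤ 4 := by
  have h1 := card_two (H := (V ⊓ Q i) ⊓ Q j) (K := V ⊓ Q i) inf_le_left
    ⟨z i, ⟨h.zV i, h.z_mem_Q i⟩, fun hc => (h.opp_iff j i).1 (h.symm hij) (mem_inf.1 hc).2⟩
    (fun a ha b hb ha' hb' => by
      refine mem_inf.2 ⟨mul_mem ha hb, ?_⟩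
      exact h.VQ2 j a (mem_inf.1 ha).1 b (mem_inf.1 hb).1 (fun hc => ha' (mem_inf.2 ⟨ha, hc⟩))
        (fun hc => hb' (mem_inf.2 ⟨hb, hc⟩)))
  rw [h.card_E hij] at h1
  omega

/-- **The hypotheses of (3).** -/
theorem wide [Finite G] (hD : h.Dl ≤ V) {i j : ι} (hij : opp i j) {s : G} (hs : s ∈ Q i)
    (hsF : s ∉ QF i) : Wide (C i) (Q i) (QF i) (V ⊓ Q i) (h.Tt j) (z i) s (z j) where
  Q_eq := h.Qo2 i
  cent := fun c hc => h.char2 i c (mem_inf.1 hc).1 fun x hx =>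
    ((mem_centralizer_iff.1 (mem_inf.1 hc).2) x hx).symm
  z_ne := h.ne_one i
  z_sq := h.sq i
  z_cent := h.Cz i
  R_le := h.QFQ i
  R_norm := fun c hc x hx => (mem_normalizer_iff.1 (h.nQF i hc) x).1 hx
  R_idx := by
    have h1 := card_two (h.QFQ i) ⟨s, hs, hsF⟩ fun a ha b hb ha' hb' => h.QF2 i a ha b hb ha' hb'
    have h2 := card_mul_relIndex (h.QFQ i)
    have h3 : 0 < Nat.card ↥(QF i) := Nat.card_pos
    rw [h1, mul_comm] at h2
    exact Nat.eq_of_mul_eq_mul_right h3 h2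
  R_sq := fun x hx => by
    rw [h.QF_eq_of_V hD] at hx
    rcases h.sq_Qs hx with h1 | h1
    · rw [h1]; exact one_mem _
    · rw [h1]; exact mem_zpowers _
  R_comm := fun x hx y hy => by
    rw [h.QF_eq_of_V hD] at hx hy
    have e : Wide.cm x y = x * y * (y * x)⁻¹ := by simp only [Wide.cm]; group
    rw [e]
    rcases h.Qs_comm hx hy with h1 | h1
    · rw [h1, mul_inv_cancel]; exact one_mem _
    · rw [h1, mul_inv_cancel_right]; exact mem_zpowers _
  R_cent := fun x hx hxy => by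
    rw [h.QF_eq_of_V hD] at hx
    rcases h.Zs_eq_of_V hD hx (fun y hy => hxy y (h.QsQF i hy)) with h1 | h1
    · rw [h1]; exact one_mem _
    · rw [h1]; exact mem_zpowers _
  z_mem := ⟨h.zV i, h.z_mem_Q i⟩
  E_le := fun e he => h.QsQF i (h.VQs i e he.1 he.2)
  E_card := h.card_E hij
  E_comm := fun x hx y hy => h.Vab x hx.1 y hy.1
  s_mem := hs
  s_norm := fun e he => ⟨h.conj_V (h.QP i hs) he.1,
    (mem_normalizer_iff.1 (h.nQ i (h.QC i hs)) e).1 he.2⟩
  s_move := by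
    by_contra hcon
    push Not at hcon
    apply hsF
    refine h.QQF i s hs fun v hv hvQ => ?_
    have h1 := hcon v ⟨hv, hvQ⟩
    have e : s * v = Wide.cm s v * (v * s) := by simp only [Wide.cm]; group
    have h2 : Wide.cm s v = 1 ∨ Wide.cm s v = z i := by
      obtain ⟨k, hk⟩ := mem_zpowers_iff.1 h1
      have h3 : z i ^ (2 : ℤ) = 1 := by rw [zpow_two, h.sq]
      rcases Int.even_or_odd' k with ⟨m, hm | hm⟩
      · left
        rw [← hk, hm, zpow_mul, h3, one_zpow]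
      · right
        rw [← hk, hm, zpow_add, zpow_mul, h3, one_zpow, one_mul, zpow_one]
    rcases h2 with h2 | h2
    · left; rw [e, h2, one_mul]
    · right; rw [e, h2]
  T_le := (h.Tt_T j).trans (h.TC i)
  T_cent := fun t ht e he => h.TV t (h.Tt_T j ht) e he.1
  T_comm := by
    intro t ht x hx hxe
    rw [h.QF_eq_of_V hD] at hx
    have hxT : x ∈ T := h.T_of_comm hx fun v hv hvQ => hxe v ⟨hv, hvQ⟩
    have hxi : x ∈ h.Tt i := h.mem_Tt.2 ⟨hxT, h.QsQ i hx⟩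
    have htT := h.Tt_T j ht
    have h1 : Wide.cm t x ∈ h.Tt i := by
      have e : Wide.cm t x = (t * x * t⁻¹) * x⁻¹ := rfl
      rw [e]
      exact mul_mem ((mem_normalizer_iff.1 (h.Tt_norm i htT) x).1 hxi) (inv_mem hxi)
    have h2 : Wide.cm t x ∈ h.Tt j := by
      have e : Wide.cm t x = t * (x * t⁻¹ * x⁻¹) := by simp only [Wide.cm]; group
      rw [e]
      exact mul_mem ht ((mem_normalizer_iff.1 (h.Tt_norm j hxT) t⁻¹).1 (inv_mem ht))
    exact ⟨hD (h.inter_Dl hij h1 h2), (h.mem_Tt.1 h1).2⟩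
  T_card := by
    obtain ⟨k, hjk⟩ : ∃ k, opp j k := ⟨i, h.symm hij⟩
    rw [h.QF_eq_of_V hD i]
    exact (h.card_Qs_eq i j ⟨j, hij⟩).trans (h.card_Qs_le (h.symm hij) (h.QF_eq_of_V hD j))
  T_inf := by
    refine le_trans (Subgroup.card_le_of_le ?_) (h.card_EE hij)
    intro x hx
    obtain ⟨hx1, hx2⟩ := mem_inf.1 hx
    have hxi : x ∈ h.Tt i := h.mem_Tt.2 ⟨h.Tt_T j hx1, hx2⟩
    exact ⟨⟨hD (h.inter_Dl hij hxi hx1), hx2⟩, (h.mem_Tt.1 hx1).2⟩
  v_mem := h.VC i (h.zV j)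
  v_sq := h.sq j
  v_not := (h.opp_iff i j).1 hij

end

end Conf

namespace Base

variable [Finite G] {S : Sylow 2 G} {P V T : Subgroup G} {z : ι → G} {opp : ι → ι → Prop}
  {C Q QF Qs : ι → Subgroup G} {i₀ : ι}

/-- **The case `Δ = V` of D0ag.** -/
theorem caseV (h : Base S P V T z opp C Q QF Qs i₀) (hD : h.toConf.Dl ≤ V) :
    NO1.Sympl (z i₀) ∨ (Nat.card (S : Subgroup G) = 128 ∧ T = V) := by
  by_cases hQ : Q i₀ ≤ QF i₀
  · exact Or.inl (h.sympl (fun x hx => h.toConf.B_eq_of_V hD hx) (h.toConf.QF_eq_of_V hD i₀) hQ)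
  right
  obtain ⟨s, hs, hsF⟩ := SetLike.not_le_iff_exists.1 hQ
  obtain ⟨j, k, hij, -, -⟩ := h.tri i₀
  have hW := h.toConf.wide hD hij hs hsF
  have h1 := hW.card_R
  have h2 := hW.card_C
  have h3 := card_two (h.QFQ i₀) ⟨s, hs, hsF⟩ fun a ha b hb ha' hb' => h.QF2 i₀ a ha b hb ha' hb'
  rw [h1] at h3
  rw [h3] at h2
  -- `|S| = 128`
  have h5 := card_mul_relIndex h.S_le_C
  have h6 : ¬ 2 ∣ (S : Subgroup G).relIndex (C i₀) :=
    MinSimple.Basic.not_dvd_relIndex S h.S_le_C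
  have : Fact (Nat.Prime 2) := ⟨Nat.prime_two⟩
  obtain ⟨n, hn⟩ := IsPGroup.iff_card.1 S.isPGroup'
  have h7 : Nat.card (S : Subgroup G) = 128 := by
    rw [hn] at h5 ⊢
    have h8 : 2 ^ n ∣ 2 ^ 7 := by
      have h9 : 2 ^ n ∣ 2 ^ 7 * 3 := by
        rw [show 2 ^ 7 * 3 = 6 * (2 * 32) by norm_num, ← h2, ← h5]
        exact dvd_mul_right _ _
      exact (Nat.Coprime.pow_left n (by norm_num : Nat.Coprime 2 3)).dvd_of_dvd_mul_right h9
    have h10 : 2 ^ 7 ∣ 2 ^ n := by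
      have h9 : 2 ^ 7 ∣ 2 ^ n * (S : Subgroup G).relIndex (C i₀) := by
        rw [h5, h2]
        exact ⟨3, by norm_num⟩
      exact (Nat.Coprime.pow_left 7 ((Nat.prime_two.coprime_iff_not_dvd).2 h6)).dvd_of_dvd_mul_right h9
    exact Nat.dvd_antisymm h8 h10
  refine ⟨h7, ?_⟩
  have h8 := card_mul_relIndex h.T_le
  rw [h7, h.index] at h8
  symm
  refine Subgroup.eq_of_le_of_card_ge h.VT ?_
  rw [h.cardV]
  omega

end Base

end Cfsg.Agent.Omega.NOne.AG

end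

section


/-!
# THEOREM D0ag (bb #15001): the leaves `EndPlus2`, `EndNat4` of N1

`PlusIdx`  : type (γ) has `|V / E| = 2` (#14731, helper690);
`PlusBase` : the configuration `Base` in type (γ) (helper537, helper654);
`PlusRank` : `|S| = 128`, `C_S(V) = V` is impossible in type (γ) (helper319);
`NatBase`  : the configuration `Base` in type (α) with `Δ ≤ V` (helper537, helper67, and (4)-(7): a labelling
(`Δ > V`) is impossible; helper313, 649, 652, 950, 516);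
`NatRank`  : `|S| = 128`, `C_S(V) = V` is impossible in type (α) (helper319).
-/

set_option autoImplicit false

namespace Cfsg.Agent.Omega.NOne.AG.End

open Subgroup Cfsg Cfsg.Agent.ZN Cfsg.Agent.Omega.MinPar Cfsg.Agent.Omega.Frame
open Cfsg.Agent.Omega.NO1 (Cfg Plus2 Nat4 Sympl EE)

universe u

/-- The configuration `Base` with base point `t`. -/
def HasBase {G : Type u} [Group G] [Finite G] (S : Sylow 2 G) (P : Subgroup G) (t : G) : Prop :=
  ∃ (ι : Type u) (z : ι → G) (opp : ι → ι → Prop) (C Q QF Qs : ι → Subgroup G) (i₀ : ι), z i₀ = t ∧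
    Base S P (zl (S : Subgroup G) P) ((S : Subgroup G) ⊓ centralizer (zl (S : Subgroup G) P : Set G))
      z opp C Q QF Qs i₀

/-- `Base` from `Pt` (see `Base.of`). -/
theorem hasBase_of {G : Type u} [Group G] [Finite G] {S : Sylow 2 G} {P : Subgroup G} (h : Cfg S P)
    {z : G} (hz : zc (S : Subgroup G) = zpowers z) {C Q QF Qs : Subgroup G}
    (hp : Pt P (zl (S : Subgroup G) P)
      ((S : Subgroup G) ⊓ centralizer (zl (S : Subgroup G) P : Set G)) z C Q QF Qs)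
    (hSC : (S : Subgroup G) ≤ C) (hE : (EE (S : Subgroup G) P).relIndex (zl (S : Subgroup G) P) = 2)
    (hstab : ∀ m ∈ P, m * z = z * m →
      ∃ s ∈ (S : Subgroup G), ∃ c ∈ P, (∀ v ∈ zl (S : Subgroup G) P, c * v = v * c) ∧ m = s * c)
    (hind : ((S : Subgroup G) ⊓ centralizer (zl (S : Subgroup G) P : Set G)).relIndex
      (S : Subgroup G) = 8) : HasBase S P z :=
  ⟨Pts P z, fun i => i.val, hp.opp, tr P z C, tr P z Q, tr P z QF, tr P z Qs, Pts.base P z, rfl,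
    Base.of h hz rfl hp hSC hE hstab hind⟩

/-- Type (γ): `|V / E| = 2`. -/
def PlusIdx : Prop :=
  ∀ (G : Type u) [Group G] [Finite G] (S : Sylow 2 G) (P : Subgroup G), Cfg S P →
    ∀ z : Fin 3 → Fin 3 → G, Plus2 (S : Subgroup G) P z →
      (EE (S : Subgroup G) P).relIndex (zl (S : Subgroup G) P) = 2

/-- Type (γ): the configuration. -/
def PlusBase : Prop :=
  ∀ (G : Type u) [Group G] [Finite G] (S : Sylow 2 G) (P : Subgroup G), Cfg S P →
    ∀ z : Fin 3 → Fin 3 → G, Plus2 (S : Subgroup G) P z →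
      (EE (S : Subgroup G) P).relIndex (zl (S : Subgroup G) P) = 2 → HasBase S P (z 0 0)

/-- Type (γ): `|S| = 128`, `C_S(V) = V` is impossible. -/
def PlusRank : Prop :=
  ∀ (G : Type u) [Group G] [Finite G] (S : Sylow 2 G) (P : Subgroup G), Cfg S P →
    ∀ z : Fin 3 → Fin 3 → G, Plus2 (S : Subgroup G) P z → Nat.card (S : Subgroup G) = 128 →
      (S : Subgroup G) ⊓ centralizer (zl (S : Subgroup G) P : Set G) = zl (S : Subgroup G) P → False

/-- **`EndPlus2`** from its parts. -/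
theorem endPlus2_of (h1 : PlusIdx.{u}) (h2 : PlusBase.{u}) (h3 : PlusRank.{u}) : NO1.EndPlus2.{u} := by
  intro G _ _ S P h z hz
  obtain ⟨ι, ζ, opp, C, Q, QF, Qs, i₀, e, hB⟩ := h2 G S P h z hz (h1 G S P h z hz)
  rcases hB.caseV (hB.Dl_le_of_plus2 hz) with h4 | ⟨h4, h5⟩
  · rwa [e] at h4
  · exact (h3 G S P h z hz h4 h5).elim

/-- The configuration `Base` with `Δ ≤ V`. -/
def HasBaseV {G : Type u} [Group G] [Finite G] (S : Sylow 2 G) (P : Subgroup G) : Prop :=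
  ∃ (ι : Type u) (z : ι → G) (opp : ι → ι → Prop) (C Q QF Qs : ι → Subgroup G) (i₀ : ι)
    (hB : Base S P (zl (S : Subgroup G) P)
      ((S : Subgroup G) ⊓ centralizer (zl (S : Subgroup G) P : Set G)) z opp C Q QF Qs i₀),
    hB.toConf.Dl ≤ zl (S : Subgroup G) P

/-- Type (α): the configuration, `Δ ≤ V`. -/
def NatBase : Prop :=
  ∀ (G : Type u) [Group G] [Finite G] (S : Sylow 2 G) (P : Subgroup G), Cfg S P →
    Nat4 (S : Subgroup G) P → HasBaseV S P

/-- Type (α): `|S| = 128`, `C_S(V) = V` is impossible. -/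
def NatRank : Prop :=
  ∀ (G : Type u) [Group G] [Finite G] (S : Sylow 2 G) (P : Subgroup G), Cfg S P →
    Nat4 (S : Subgroup G) P → Nat.card (S : Subgroup G) = 128 →
      (S : Subgroup G) ⊓ centralizer (zl (S : Subgroup G) P : Set G) = zl (S : Subgroup G) P → False

/-- **`EndNat4`** from its parts. -/
theorem endNat4_of (h1 : NatBase.{u}) (h2 : NatRank.{u}) : NO1.EndNat4.{u} := by
  intro G _ _ S P h hN
  obtain ⟨ι, ζ, opp, C, Q, QF, Qs, i₀, hB, hD⟩ := h1 G S P h hN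
  rcases hB.caseV hD with h4 | ⟨h4, h5⟩
  · exact ⟨_, h4⟩
  · exact (h2 G S P h hN h4 h5).elim

end Cfsg.Agent.Omega.NOne.AG.End

end

section


/-!
# THEOREM D0ag (bb #15001): the frame (0) (helper537)

`Facts P V E z`: what is used of the pair `(P/C_P(V), V)`, `E = z^⊥`.
`exists_pt`: the configuration `Pt` at the point `z`.
-/

set_option autoImplicit false

namespace Cfsg.Agent.Omega.NOne.AG

open Subgroup Cfsg Cfsg.Agent.ZN
open Cfsg.Agent.MinSimple.VModule (o2_isPGroup)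
open Cfsg.Agent.Omega.NOne.NearFF (Near Fin V1 c)
open Cfsg.Agent.Omega.NOne.Frame (X Fr comm_of_le_centralizer)
open scoped Pointwise

universe u

variable {G : Type u} [Group G]

/-- Facts on the pair `(P/C_P(V), V)`, `E = z^⊥` (a hyperplane of `V`). -/
structure Facts (P V E : Subgroup G) (z : G) : Prop where
  faith : ∀ x ∈ P, (∀ e ∈ E, x * e = e * x) → ∀ v ∈ V, x * v = v * x
  symm : ∀ m ∈ P, m * z * m⁻¹ ∉ E → m⁻¹ * z * m ∉ E
  trans : ∀ m ∈ P, m * z * m⁻¹ ∉ E → ∀ A : Subgroup G, A ≤ P →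
    (∀ x ∈ P, (∀ e ∈ E, x * e = e * x ∨ x * e = z * (e * x)) →
      ∃ a ∈ A, ∀ v ∈ V, a * v * a⁻¹ = x * v * x⁻¹) →
    ∀ n ∈ P, ∃ x ∈ A ⊔ A.map (MulAut.conj m).toMonoidHom, x * z * x⁻¹ = n * z * n⁻¹
  tri : ∃ m ∈ P, ∃ n ∈ P, m * z * m⁻¹ ∉ E ∧ n * z * n⁻¹ ∉ E ∧ (m⁻¹ * n) * z * (m⁻¹ * n)⁻¹ ∉ E

theorem conj_eq_of {x y : G} (h : x * y = y * x) : x * y * x⁻¹ = y := by rw [h]; group

theorem comm_of_conj {x y : G} (h : x * y * x⁻¹ = y) : x * y = y * x := by
  calc x * y = x * y * x⁻¹ * x := by group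
    _ = y * x := by rw [h]

/-- The elements of `Q` centralising `E/⟨z⟩`. -/
def QFz (Q E : Subgroup G) (z : G) (hz : ∀ x ∈ Q, x * z = z * x) (hzz : z * z = 1) : Subgroup G where
  carrier := {x | x ∈ Q ∧ ∀ e ∈ E, x * e = e * x ∨ x * e = z * (e * x)}
  one_mem' := ⟨one_mem _, fun e _ => Or.inl (by simp)⟩
  mul_mem' := by
    rintro x y ⟨hx, hx'⟩ ⟨hy, hy'⟩
    refine ⟨mul_mem hx hy, fun e he => ?_⟩
    rcases hy' e he with h1 | h1 <;> rcases hx' e he with h2 | h2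
    · left
      calc x * y * e = x * (y * e) := by group
        _ = (x * e) * y := by rw [h1]; group
        _ = e * (x * y) := by rw [h2]; group
    · right
      calc x * y * e = x * (y * e) := by group
        _ = (x * e) * y := by rw [h1]; group
        _ = z * (e * (x * y)) := by rw [h2]; group
    · right
      calc x * y * e = x * (y * e) := by group
        _ = (x * z) * e * y := by rw [h1]; group
        _ = z * (x * e) * y := by rw [hz x hx]; group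
        _ = z * (e * (x * y)) := by rw [h2]; group
    · left
      calc x * y * e = x * (y * e) := by group
        _ = (x * z) * e * y := by rw [h1]; group
        _ = z * (x * e) * y := by rw [hz x hx]; group
        _ = (z * z) * (e * (x * y)) := by rw [h2]; group
        _ = e * (x * y) := by rw [hzz, one_mul]
  inv_mem' := by
    rintro x ⟨hx, hx'⟩
    refine ⟨inv_mem hx, fun e he => ?_⟩
    have hzi : x⁻¹ * z = z * x⁻¹ := by
      have h := hz x hx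
      calc x⁻¹ * z = x⁻¹ * (z * x) * x⁻¹ := by group
        _ = z * x⁻¹ := by rw [← h]; group
    rcases hx' e he with h1 | h1
    · left
      calc x⁻¹ * e = x⁻¹ * (e * x) * x⁻¹ := by group
        _ = e * x⁻¹ := by rw [← h1]; group
    · right
      have h2 : e * x = z * (x * e) := by
        rw [h1, ← mul_assoc, hzz, one_mul]
      calc x⁻¹ * e = x⁻¹ * (e * x) * x⁻¹ := by group
        _ = (x⁻¹ * z) * x * e * x⁻¹ := by rw [h2]; group
        _ = z * (e * x⁻¹) := by rw [hzi]; group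

/-- A subgroup with at least 5 elements of a group of order 8 is everything. -/
theorem eq_of_five {E H : Subgroup G} (hHE : H ≤ E) (h8 : Nat.card E = 8) (h5 : 4 < Nat.card H) :
    H = E := by
  have : Finite E := Nat.finite_of_card_ne_zero (by omega)
  have h1 : Nat.card H ∣ 8 := by rw [← h8]; exact card_dvd_of_le hHE
  have h2 : Nat.card H = 8 := by
    have h3 : Nat.card H ≤ 8 := Nat.le_of_dvd (by norm_num) h1
    interval_cases h4 : Nat.card H <;> omega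
  exact eq_of_le_of_card_ge hHE (by omega)

theorem card_le_two [Finite G] {F F₁ : Subgroup G} (hF : F₁ ≤ F)
    (h : ∀ a ∈ F, ∀ b ∈ F, a ∉ F₁ → b ∉ F₁ → a * b ∈ F₁) : Nat.card F ≤ 2 * Nat.card F₁ := by
  by_cases hle : F ≤ F₁
  · have : F = F₁ := le_antisymm hle hF
    rw [this]; omega
  obtain ⟨a, ha, ha'⟩ := SetLike.not_le_iff_exists.1 hle
  have hsub : (F : Set G) ⊆ (F₁ : Set G) ∪ (fun x => a⁻¹ * x) '' (F₁ : Set G) := by
    intro b hb
    by_cases hb' : b ∈ F₁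
    · exact Or.inl hb'
    · exact Or.inr ⟨a * b, h a ha b hb ha' hb', by simp⟩
  have h1 := Set.ncard_le_ncard hsub (Set.toFinite _)
  have h2 := Set.ncard_union_le (F₁ : Set G) ((fun x => a⁻¹ * x) '' (F₁ : Set G))
  have h3 := Set.ncard_image_le (f := fun x => a⁻¹ * x) (Set.toFinite (F₁ : Set G))
  have e1 : Nat.card F = (F : Set G).ncard := Nat.card_coe_set_eq (F : Set G)
  have e2 : Nat.card F₁ = (F₁ : Set G).ncard := Nat.card_coe_set_eq (F₁ : Set G)
  omega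

section near

variable [Finite G] {P V E D F : Subgroup G} {v z : G}

theorem card_eq_sub (h : Near V E D F v) : Nat.card F = Nat.card E := by
  have h1 := relIndex_mul_relIndex ⊥ D F bot_le h.DF
  have h2 := relIndex_mul_relIndex ⊥ D E bot_le h.DE
  simp only [relIndex_bot_left] at h1 h2
  rw [← h1, ← h2, h.card]

/-- `D = ⟨z⟩` -/
theorem D_two (h : Near V E D F v) (h8 : Nat.card E = 8) (hD : D ≠ E) (hz : z ∈ D) (hz1 : z ≠ 1)
    (hFP : F ≤ P) (faith : ∀ x ∈ P, (∀ e ∈ E, x * e = e * x) → ∀ v ∈ V, x * v = v * x) :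
    ∀ d ∈ D, d = 1 ∨ d = z := by
  have hd1 : Nat.card D ∣ 8 := by rw [← h8]; exact card_dvd_of_le h.DE
  have hd8 : Nat.card D ≠ 8 := fun e => hD (eq_of_le_of_card_ge h.DE (by omega))
  have hle : Nat.card D ≤ 8 := Nat.le_of_dvd (by norm_num) hd1
  -- a `w ∈ F - D`
  obtain ⟨w, hwF, hwD⟩ : ∃ w ∈ F, w ∉ D := by
    by_contra hcon
    push Not at hcon
    have h1 : D = F := le_antisymm h.DF hcon
    apply hD
    have h2 := card_eq_sub h
    rw [← h1] at h2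
    exact eq_of_le_of_card_ge h.DE (by omega)
  have hww : w⁻¹ = w := h.inv_F hwF
  set H := E ⊓ centralizer ({w} : Set G) with hH
  have hDH : D ≤ H := fun d hd => mem_inf.2 ⟨h.DE hd, mem_centralizer_singleton_iff.2 (h.Dcent hd hwF)⟩
  have hHD : Nat.card D = 4 → H ≤ D := by
    intro h4 x hx
    by_contra hxD
    have h5 : 4 < Nat.card H := by
      have h6 : D < H := lt_of_le_of_ne hDH (fun e => hxD (e ▸ hx))
      have h7 : Nat.card D < Nat.card H := by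
        by_contra hlt
        exact h6.ne (eq_of_le_of_card_ge hDH (by omega))
      omega
    have h6 := eq_of_five inf_le_left h8 h5
    apply hwD
    rw [← h.F_inf_cent]
    refine mem_inf.2 ⟨hwF, mem_centralizer_iff.2 fun y hy => ?_⟩
    refine (faith w (hFP hwF) (fun e he => ?_) y hy).symm
    rw [← h6] at he
    exact (mem_centralizer_singleton_iff.1 (mem_inf.1 he).2).symm
  have h4 : Nat.card D ≠ 4 := by
    intro h4
    have hcE := h.c_mem h.vV hwF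
    have hcc : c v w * w = w * c v w := by
      have e1 : (c v w)⁻¹ = c v w := h.inv_V (h.EV hcE)
      have e2 : w * c v w * w⁻¹ = (c v w)⁻¹ := by
        rw [c]
        have e3 : (v * w * v⁻¹ * w⁻¹)⁻¹ = w * v * w⁻¹ * v⁻¹ := by group
        rw [e3, hww]
        have e4 : w * w = 1 := by
          nth_rewrite 1 [← hww]
          exact inv_mul_cancel w
        calc w * (v * w * v⁻¹ * w) * w = w * v * w * v⁻¹ * (w * w) := by group
          _ = w * v * w * v⁻¹ := by rw [e4, mul_one]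
      rw [e1] at e2
      exact (comm_of_conj e2).symm
    exact hwD (h.inj w hwF (hHD h4 (mem_inf.2 ⟨hcE, mem_centralizer_singleton_iff.2 hcc⟩)))
  -- `|D| ≤ 2`
  intro d hd
  by_contra hcon
  push Not at hcon
  have h3 : 3 ≤ Nat.card D := by
    classical
    have hsub : (({1, z, d} : Finset G) : Set G) ⊆ (D : Set G) := by
      intro x hx
      simp only [Finset.coe_insert, Finset.coe_singleton, Set.mem_insert_iff,
        Set.mem_singleton_iff] at hx
      rcases hx with rfl | rfl | rfl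
      · exact one_mem _
      · exact hz
      · exact hd
    have hc := Set.ncard_le_ncard hsub (Set.toFinite _)
    rw [Set.ncard_coe_finset, Finset.card_insert_of_notMem (by simp [hz1.symm, hcon.1.symm]),
      Finset.card_insert_of_notMem (by simp [hcon.2.symm]), Finset.card_singleton] at hc
    rw [← SetLike.coe_sort_coe, Nat.card_coe_set_eq]
    exact hc
  interval_cases h9 : Nat.card D <;> omega

/-- every `x ∈ P` centralising `E/⟨z⟩` acts on `V` like an element of `F` -/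
theorem exists_agree (h : Near V E D F v) (h8 : Nat.card E = 8) (hz : z ∈ D) (hz1 : z ≠ 1)
    (hD : ∀ d ∈ D, d = 1 ∨ d = z) (hFP : F ≤ P)
    (faith : ∀ x ∈ P, (∀ e ∈ E, x * e = e * x) → ∀ v ∈ V, x * v = v * x) {x : G} (hx : x ∈ P)
    (hxz : x * z = z * x) (hxE : ∀ e ∈ E, x * e = e * x ∨ x * e = z * (e * x)) :
    ∃ f ∈ F, ∀ v ∈ V, (x * f⁻¹) * v = v * (x * f⁻¹) := by
  have hzz : z * z = 1 := by
    have := h.Vsq z (h.DV hz)
    rwa [pow_two] at this
  have hzi : z⁻¹ = z := inv_eq_of_mul_eq_one_left hzz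
  have hzE : z ∈ E := h.DE hz
  have hF8 : Nat.card F = 8 := by rw [card_eq_sub h, h8]
  -- `e₁`, `e₂`
  have ex : ∀ A : Finset G, A.card ≤ 4 → ∃ e ∈ E, e ∉ A := by
    intro A hA
    by_contra hcon
    push Not at hcon
    have h1 := Set.ncard_le_ncard (show (E : Set G) ⊆ (A : Set G) from hcon) (Set.toFinite _)
    rw [Set.ncard_coe_finset, ← Nat.card_coe_set_eq, SetLike.coe_sort_coe, h8] at h1
    omega
  classical
  obtain ⟨e₁, he₁, hn₁⟩ := ex {1, z} (by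
    refine (Finset.card_insert_le _ _).trans ?_
    simp)
  obtain ⟨e₂, he₂, hn₂⟩ := ex {1, z, e₁, e₁ * z} (by
    refine (Finset.card_insert_le _ _).trans ?_
    have := Finset.card_insert_le z ({e₁, e₁ * z} : Finset G)
    have := Finset.card_insert_le e₁ ({e₁ * z} : Finset G)
    simp only [Finset.card_singleton] at *
    omega)
  simp only [Finset.mem_insert, Finset.mem_singleton, not_or] at hn₁ hn₂
  obtain ⟨n1, n2⟩ := hn₁
  obtain ⟨m1, m2, m3, m4⟩ := hn₂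
  -- an element of `P` commuting with `z`, `e₁`, `e₂` centralises `V`
  have three : ∀ y ∈ P, y * z = z * y → y * e₁ = e₁ * y → y * e₂ = e₂ * y →
      ∀ w ∈ V, y * w = w * y := by
    intro y hy hyz hy1 hy2
    refine faith y hy fun e he => ?_
    have h5 : 4 < Nat.card ↥(E ⊓ centralizer ({y} : Set G)) := by
      have hsub : (({1, z, e₁, e₂, e₁ * z} : Finset G) : Set G) ⊆
          ((E ⊓ centralizer ({y} : Set G) : Subgroup G) : Set G) := by
        intro x hx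
        simp only [Finset.coe_insert, Finset.coe_singleton, Set.mem_insert_iff,
          Set.mem_singleton_iff] at hx
        have mz : z ∈ E ⊓ centralizer ({y} : Set G) :=
          mem_inf.2 ⟨hzE, mem_centralizer_singleton_iff.2 hyz.symm⟩
        have m1 : e₁ ∈ E ⊓ centralizer ({y} : Set G) :=
          mem_inf.2 ⟨he₁, mem_centralizer_singleton_iff.2 hy1.symm⟩
        rcases hx with rfl | rfl | rfl | rfl | rfl
        · exact one_mem _
        · exact mz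
        · exact m1
        · exact mem_inf.2 ⟨he₂, mem_centralizer_singleton_iff.2 hy2.symm⟩
        · exact mul_mem m1 mz
      have hc := Set.ncard_le_ncard hsub (Set.toFinite _)
      have k1 : e₁ * z ≠ 1 := fun e => n2 (by rw [eq_inv_of_mul_eq_one_left e, hzi])
      have k2 : e₁ * z ≠ z := fun e => n1 (mul_eq_right.1 e)
      have k3 : e₁ * z ≠ e₁ := fun e => hz1 (mul_eq_left.1 e)
      rw [Set.ncard_coe_finset, Finset.card_insert_of_notMem (by
          simp [hz1.symm, Ne.symm n1, Ne.symm m1, Ne.symm k1]),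
        Finset.card_insert_of_notMem (by simp [Ne.symm n2, Ne.symm m2, Ne.symm k2]),
        Finset.card_insert_of_notMem (by simp [Ne.symm m3, Ne.symm k3]),
        Finset.card_insert_of_notMem (by simp [m4]), Finset.card_singleton] at hc
      rw [← SetLike.coe_sort_coe, Nat.card_coe_set_eq]
      omega
    have h6 := eq_of_five inf_le_left h8 h5
    rw [← h6] at he
    exact (mem_centralizer_singleton_iff.1 (mem_inf.1 he).2).symm
  -- `[e, f] ∈ {1, z}`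
  have cEF : ∀ e ∈ E, ∀ f ∈ F, f * e = e * f ∨ f * e = z * (e * f) := by
    intro e he f hf
    rcases hD _ (h.ED e he f hf) with h1 | h1
    · left
      calc f * e = (e * f * e⁻¹ * f⁻¹)⁻¹ * (e * f) := by group
        _ = e * f := by rw [h1]; group
    · right
      calc f * e = (e * f * e⁻¹ * f⁻¹)⁻¹ * (e * f) := by group
        _ = z * (e * f) := by rw [h1, hzi]
  have Fz : ∀ f ∈ F, f * z = z * f := fun f hf => (h.Dcent hz hf).symm
  -- the elements of `F` not commuting with `e`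
  have two : ∀ e ∈ E, ∀ a ∈ F, ∀ b ∈ F, a * e = z * (e * a) → b * e = z * (e * b) →
      a * b * e = e * (a * b) := by
    intro e _ a ha b _ h1 h2
    calc a * b * e = a * (b * e) := by group
      _ = (a * z) * e * b := by rw [h2]; group
      _ = z * (a * e) * b := by rw [Fz a ha]; group
      _ = (z * z) * (e * (a * b)) := by rw [h1]; group
      _ = e * (a * b) := by rw [hzz, one_mul]
  have hF1 : ∀ e ∈ E, 4 ≤ Nat.card ↥(F ⊓ centralizer ({e} : Set G)) := by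
    intro e he
    have h1 := card_le_two (F := F) (F₁ := F ⊓ centralizer ({e} : Set G)) inf_le_left (by
      intro a ha b hb ha' hb'
      refine mem_inf.2 ⟨mul_mem ha hb, mem_centralizer_singleton_iff.2 (two e he a ha b hb ?_ ?_)⟩
      · rcases cEF e he a ha with h1 | h1
        · exact absurd (mem_inf.2 ⟨ha, mem_centralizer_singleton_iff.2 h1⟩) ha'
        · exact h1
      · rcases cEF e he b hb with h1 | h1
        · exact absurd (mem_inf.2 ⟨hb, mem_centralizer_singleton_iff.2 h1⟩) hb'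
        · exact h1)
    omega
  have hDc : Nat.card D ≤ 2 := by
    have hsub : (D : Set G) ⊆ (({1, z} : Finset G) : Set G) := by
      intro d hd
      simpa using hD d hd
    have h1 := Set.ncard_le_ncard hsub (Set.toFinite _)
    rw [Set.ncard_coe_finset, ← Nat.card_coe_set_eq, SetLike.coe_sort_coe] at h1
    exact h1.trans Finset.card_le_two
  -- `f` commuting with `a` but not with `b`
  have sep : ∀ a ∈ E, ∀ b ∈ E, (∀ y ∈ P, y * z = z * y → y * a = a * y → y * b = b * y →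
      ∀ w ∈ V, y * w = w * y) → ∃ f ∈ F, f * a = a * f ∧ f * b = z * (b * f) := by
    intro a ha b hb hab
    by_contra hcon
    push Not at hcon
    have hle : F ⊓ centralizer ({a} : Set G) ≤ D := by
      intro f hf
      obtain ⟨hf1, hf2⟩ := mem_inf.1 hf
      have hf3 := mem_centralizer_singleton_iff.1 hf2
      rw [← h.F_inf_cent]
      refine mem_inf.2 ⟨hf1, mem_centralizer_iff.2 fun w hw => ?_⟩
      have hf4 : f * b = b * f := by
        rcases cEF b hb f hf1 with h1 | h1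
        · exact h1
        · exact absurd h1 (hcon f hf1 hf3)
      exact (hab f (hFP hf1) (Fz f hf1) hf3 hf4 w hw).symm
    have h1 := hF1 a ha
    have h2 : Nat.card ↥(F ⊓ centralizer ({a} : Set G)) ≤ Nat.card D := by
      exact Nat.card_le_card_of_injective _ (inclusion_injective hle)
    omega
  obtain ⟨f₁, hf₁, f11, f12⟩ := sep e₁ he₁ e₂ he₂ three
  obtain ⟨f₂, hf₂, f22, f21⟩ := sep e₂ he₂ e₁ he₁ (fun y hy hyz h1 h2 => three y hy hyz h2 h1)
  -- conclusion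
  have fin : ∀ f ∈ F, x * f⁻¹ * e₁ = e₁ * (x * f⁻¹) → x * f⁻¹ * e₂ = e₂ * (x * f⁻¹) →
      ∃ f ∈ F, ∀ v ∈ V, (x * f⁻¹) * v = v * (x * f⁻¹) := by
    intro f hf h1 h2
    refine ⟨f, hf, three _ (mul_mem hx (inv_mem (hFP hf))) ?_ h1 h2⟩
    have h3 := Fz f⁻¹ (inv_mem hf)
    calc x * f⁻¹ * z = x * (f⁻¹ * z) := by group
      _ = (x * z) * f⁻¹ := by rw [h3]; group
      _ = z * (x * f⁻¹) := by rw [hxz]; group
  -- `x` and `f` agree on `e`
  have ag : ∀ e ∈ E, ∀ f ∈ F, ((x * e = e * x ∧ f * e = e * f) ∨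
      (x * e = z * (e * x) ∧ f * e = z * (e * f))) → x * f⁻¹ * e = e * (x * f⁻¹) := by
    intro e _ f hf h1
    rcases h1 with ⟨h1, h2⟩ | ⟨h1, h2⟩
    · have h3 : f⁻¹ * e = e * f⁻¹ := by
        calc f⁻¹ * e = f⁻¹ * (e * f) * f⁻¹ := by group
          _ = e * f⁻¹ := by rw [← h2]; group
      calc x * f⁻¹ * e = x * (f⁻¹ * e) := by group
        _ = (x * e) * f⁻¹ := by rw [h3]; group
        _ = e * (x * f⁻¹) := by rw [h1]; group
    · have h3 : f⁻¹ * e = z * (e * f⁻¹) := by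
        have h4 : e * f = z * (f * e) := by rw [h2, ← mul_assoc, hzz, one_mul]
        have h5 : f⁻¹ * z = z * f⁻¹ := Fz f⁻¹ (inv_mem hf)
        calc f⁻¹ * e = f⁻¹ * (e * f) * f⁻¹ := by group
          _ = (f⁻¹ * z) * f * e * f⁻¹ := by rw [h4]; group
          _ = z * (e * f⁻¹) := by rw [h5]; group
      calc x * f⁻¹ * e = x * (f⁻¹ * e) := by group
        _ = (x * z) * e * f⁻¹ := by rw [h3]; group
        _ = z * (x * e) * f⁻¹ := by rw [hxz]; group
        _ = (z * z) * (e * (x * f⁻¹)) := by rw [h1]; group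
        _ = e * (x * f⁻¹) := by rw [hzz, one_mul]
  have pr : ∀ e ∈ E, ∀ a ∈ F, ∀ b ∈ F, a * e = e * a → b * e = z * (e * b) →
      a * b * e = z * (e * (a * b)) := by
    intro e _ a ha b _ h1 h2
    calc a * b * e = a * (b * e) := by group
      _ = (a * z) * e * b := by rw [h2]; group
      _ = z * (a * e) * b := by rw [Fz a ha]; group
      _ = z * (e * (a * b)) := by rw [h1]; group
  have pr' : ∀ e ∈ E, ∀ a ∈ F, ∀ b ∈ F, a * e = z * (e * a) → b * e = e * b →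
      a * b * e = z * (e * (a * b)) := by
    intro e _ a _ b _ h1 h2
    calc a * b * e = a * (b * e) := by group
      _ = (a * e) * b := by rw [h2]; group
      _ = z * (e * (a * b)) := by rw [h1]; group
  rcases hxE e₁ he₁ with x1 | x1 <;> rcases hxE e₂ he₂ with x2 | x2
  · exact fin 1 (one_mem _) (ag e₁ he₁ 1 (one_mem _) (Or.inl ⟨x1, by simp⟩))
      (ag e₂ he₂ 1 (one_mem _) (Or.inl ⟨x2, by simp⟩))
  · exact fin f₁ hf₁ (ag e₁ he₁ f₁ hf₁ (Or.inl ⟨x1, f11⟩)) (ag e₂ he₂ f₁ hf₁ (Or.inr ⟨x2, f12⟩))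
  · exact fin f₂ hf₂ (ag e₁ he₁ f₂ hf₂ (Or.inr ⟨x1, f21⟩)) (ag e₂ he₂ f₂ hf₂ (Or.inl ⟨x2, f22⟩))
  · exact fin (f₁ * f₂) (mul_mem hf₁ hf₂)
      (ag e₁ he₁ _ (mul_mem hf₁ hf₂) (Or.inr ⟨x1, pr e₁ he₁ f₁ hf₁ f₂ hf₂ f11 f21⟩))
      (ag e₂ he₂ _ (mul_mem hf₁ hf₂) (Or.inr ⟨x2, pr' e₂ he₂ f₁ hf₁ f₂ hf₂ f12 f22⟩))

end near

/-- An involution of the centre of `S` in every nontrivial `S`-invariant subgroup of `S`. -/
theorem exists_central [Finite G] {S N : Subgroup G} (hS : IsPGroup 2 S) (hN : N ≤ S)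
    (hn : ∀ s ∈ S, ∀ x ∈ N, s * x * s⁻¹ ∈ N) (hne : N ≠ ⊥) :
    ∃ x ∈ N, x ≠ 1 ∧ x * x = 1 ∧ ∀ s ∈ S, x * s = s * x := by
  have : Fact (Nat.Prime 2) := ⟨Nat.prime_two⟩
  have : Group.IsNilpotent S := hS.isNilpotent
  have hNn : (N.subgroupOf S).Normal := ⟨fun y hy t => by
    rw [mem_subgroupOf] at hy ⊢
    exact hn t t.2 y hy⟩
  have hNb : N.subgroupOf S ≠ ⊥ := by
    intro h1
    apply hne
    rw [eq_bot_iff]
    intro y hy
    have h2 : (⟨y, hN hy⟩ : S) ∈ N.subgroupOf S := mem_subgroupOf.2 hy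
    rw [h1, mem_bot] at h2
    exact mem_bot.2 (congrArg Subtype.val h2)
  have h1 := Cfsg.Agent.Lib.NormalAbelian.normal_inf_center_ne_bot (N.subgroupOf S) hNb
  obtain ⟨⟨x, hxT⟩, hx, hx1⟩ : ∃ x : S, x ∈ N.subgroupOf S ⊓ center S ∧ x ≠ 1 := by
    by_contra hcon
    push Not at hcon
    exact h1 (eq_bot_iff.2 fun x hx => mem_bot.2 (hcon x hx))
  have hx1' : x ≠ 1 := fun h => hx1 (Subtype.ext h)
  obtain ⟨hxY, hxZ⟩ := mem_inf.1 hx
  rw [mem_subgroupOf] at hxY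
  have hxc : ∀ s ∈ S, x * s = s * x := by
    intro s hs
    have := mem_center_iff.1 hxZ ⟨s, hs⟩
    exact (congrArg Subtype.val this).symm
  obtain ⟨k, hk⟩ := (IsPGroup.iff_orderOf.1 hS) ⟨x, hxT⟩
  have hk' : orderOf x = 2 ^ k := by
    rw [← hk, ← orderOf_submonoid]
  have hk0 : k ≠ 0 := by
    rintro rfl
    rw [pow_zero, orderOf_eq_one_iff] at hk'
    exact hx1' hk'
  obtain ⟨k, rfl⟩ := Nat.exists_eq_succ_of_ne_zero hk0
  refine ⟨x ^ 2 ^ k, pow_mem hxY _, ?_, ?_, fun s hs => (show Commute x s from hxc s hs).pow_left _⟩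
  · intro h5
    have h6 := orderOf_dvd_of_pow_eq_one h5
    rw [hk', Nat.succ_eq_add_one, Nat.pow_dvd_pow_iff_le_right (by norm_num)] at h6
    omega
  · rw [← pow_add, ← two_mul, ← pow_succ', ← Nat.succ_eq_add_one, ← hk']
    exact pow_orderOf_eq_one x

/-- A nontrivial fixed point modulo `Z`. -/
theorem exists_central_mod [Finite G] {S N Z : Subgroup G} (hS : IsPGroup 2 S) (hN : N ≤ S)
    (hn : ∀ s ∈ S, ∀ x ∈ N, s * x * s⁻¹ ∈ N) (hz : ∀ s ∈ S, ∀ x ∈ Z, s * x * s⁻¹ ∈ Z)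
    (hne : ¬ N ≤ Z) : ∃ x ∈ N, x ∉ Z ∧ ∀ s ∈ S, s * x * s⁻¹ * x⁻¹ ∈ Z := by
  have : Fact (Nat.Prime 2) := ⟨Nat.prime_two⟩
  have hNn : (N.subgroupOf S).Normal := ⟨fun y hy t => by
    rw [mem_subgroupOf] at hy ⊢
    exact hn t t.2 y hy⟩
  have hZn : (Z.subgroupOf S).Normal := ⟨fun y hy t => by
    rw [mem_subgroupOf] at hy ⊢
    exact hz t t.2 y hy⟩
  have : Group.IsNilpotent (S ⧸ Z.subgroupOf S) :=
    (hS.to_quotient (Z.subgroupOf S)).isNilpotent
  have hMn : ((N.subgroupOf S).map (QuotientGroup.mk' (Z.subgroupOf S))).Normal :=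
    hNn.map _ (QuotientGroup.mk'_surjective _)
  have hMb : (N.subgroupOf S).map (QuotientGroup.mk' (Z.subgroupOf S)) ≠ ⊥ := by
    intro h1
    apply hne
    intro y hy
    have h2 : QuotientGroup.mk' (Z.subgroupOf S) (⟨y, hN hy⟩ : S) ∈
        (N.subgroupOf S).map (QuotientGroup.mk' (Z.subgroupOf S)) :=
      mem_map_of_mem _ (mem_subgroupOf.2 hy)
    rw [h1, mem_bot, QuotientGroup.mk'_apply, QuotientGroup.eq_one_iff, mem_subgroupOf] at h2
    exact h2
  have h1 := Cfsg.Agent.Lib.NormalAbelian.normal_inf_center_ne_bot _ hMb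
  obtain ⟨q, hq, hq1⟩ : ∃ q : S ⧸ Z.subgroupOf S,
      q ∈ (N.subgroupOf S).map (QuotientGroup.mk' (Z.subgroupOf S)) ⊓ center _ ∧ q ≠ 1 := by
    by_contra hcon
    push Not at hcon
    exact h1 (eq_bot_iff.2 fun x hx => mem_bot.2 (hcon x hx))
  obtain ⟨hq2, hq3⟩ := mem_inf.1 hq
  obtain ⟨⟨x, hxS⟩, hx, rfl⟩ := hq2
  rw [SetLike.mem_coe, mem_subgroupOf] at hx
  refine ⟨x, hx, fun hxZ => hq1 ?_, fun s hs => ?_⟩
  · rw [QuotientGroup.mk'_apply, QuotientGroup.eq_one_iff, mem_subgroupOf]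
    exact hxZ
  · have h2 := mem_center_iff.1 hq3 (QuotientGroup.mk' (Z.subgroupOf S) ⟨s, hs⟩)
    have h3 : QuotientGroup.mk' (Z.subgroupOf S)
        ((⟨s, hs⟩ : S) * ⟨x, hxS⟩ * (⟨s, hs⟩ : S)⁻¹ * (⟨x, hxS⟩ : S)⁻¹) = 1 := by
      rw [map_mul, map_mul, map_mul, map_inv, map_inv, h2]
      group
    rw [QuotientGroup.mk'_apply, QuotientGroup.eq_one_iff, mem_subgroupOf] at h3
    exact h3

theorem mul_mem_of_card [Finite G] {A B : Subgroup G} (hAB : A ≤ B)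
    (h : Nat.card B = 2 * Nat.card A) {a b : G} (ha : a ∈ B) (hb : b ∈ B) (ha' : a ∉ A)
    (hb' : b ∉ A) : a * b ∈ A := by
  have h1 : (A.subgroupOf B).index = 2 := by
    have h2 := relIndex_mul_relIndex ⊥ A B bot_le hAB
    simp only [relIndex_bot_left] at h2
    have h3 : 0 < Nat.card A := Nat.card_pos
    have h4 : Nat.card A * A.relIndex B = Nat.card A * 2 := by rw [h2, h, mul_comm]
    exact Nat.eq_of_mul_eq_mul_left h3 h4
  have h5 := (mul_mem_iff_of_index_two h1 (a := ⟨a, ha⟩) (b := ⟨b, hb⟩)).2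
    (by simp [mem_subgroupOf, ha', hb'])
  exact mem_subgroupOf.1 h5

/-- Two elements of a 2-group acting nontrivially on the four-group `E/Z` have the same
action. -/
theorem two_mod [Finite G] {Q E Z : Subgroup G} (hQ : IsPGroup 2 Q) (hEQ : E ≤ Q)
    (hE : Nat.card E = 8) (hZE : Z ≤ E) (hZ : Nat.card Z = 2)
    (hEc : ∀ a ∈ E, ∀ b ∈ E, a * b = b * a)
    (hn : ∀ x ∈ Q, ∀ e ∈ E, x * e * x⁻¹ ∈ E) (hZn : ∀ x ∈ Q, ∀ e ∈ Z, x * e * x⁻¹ ∈ Z) {x y : G}
    (hx : x ∈ Q) (hy : y ∈ Q) (hx' : ¬ ∀ e ∈ E, x * e * x⁻¹ * e⁻¹ ∈ Z)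
    (hy' : ¬ ∀ e ∈ E, y * e * y⁻¹ * e⁻¹ ∈ Z) :
    ∀ e ∈ E, (x * y) * e * (x * y)⁻¹ * e⁻¹ ∈ Z := by
  have mulE : ∀ x ∈ Q, ∀ a ∈ E, ∀ b ∈ E,
      x * (a * b) * x⁻¹ * (a * b)⁻¹ = (x * a * x⁻¹ * a⁻¹) * (x * b * x⁻¹ * b⁻¹) := by
    intro x hx a ha b hb
    have h1 : x * b * x⁻¹ * b⁻¹ ∈ E := mul_mem (hn x hx b hb) (inv_mem hb)
    have h2 := hEc _ h1 a⁻¹ (inv_mem ha)
    calc x * (a * b) * x⁻¹ * (a * b)⁻¹ = (x * a * x⁻¹) * ((x * b * x⁻¹ * b⁻¹) * a⁻¹) := by group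
      _ = _ := by rw [h2]; group
  let H : Subgroup G :=
    { carrier := {e | e ∈ E ∧ ∀ x ∈ Q, x * e * x⁻¹ * e⁻¹ ∈ Z}
      one_mem' := ⟨one_mem _, fun x _ => by simp⟩
      mul_mem' := by
        rintro a b ⟨ha, ha'⟩ ⟨hb, hb'⟩
        refine ⟨mul_mem ha hb, fun x hx => ?_⟩
        rw [mulE x hx a ha b hb]
        exact mul_mem (ha' x hx) (hb' x hx)
      inv_mem' := by
        rintro a ⟨ha, ha'⟩
        refine ⟨inv_mem ha, fun x hx => ?_⟩
        have h1 := mulE x hx a ha a⁻¹ (inv_mem ha)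
        have h2 : x * (a * a⁻¹) * x⁻¹ * (a * a⁻¹)⁻¹ = 1 := by group
        rw [h2] at h1
        have h3 : x * a⁻¹ * x⁻¹ * a⁻¹⁻¹ = (x * a * x⁻¹ * a⁻¹)⁻¹ := eq_inv_of_mul_eq_one_right h1.symm
        rw [h3]
        exact inv_mem (ha' x hx) }
  have memH : ∀ {e}, e ∈ H ↔ e ∈ E ∧ ∀ x ∈ Q, x * e * x⁻¹ * e⁻¹ ∈ Z := Iff.rfl
  have hHE : H ≤ E := fun e he => (memH.1 he).1
  have hZH : Z ≤ H := fun e he => memH.2 ⟨hZE he, fun x hx => mul_mem (hZn x hx e he) (inv_mem he)⟩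
  have hEZ : ¬ E ≤ Z := by
    intro h1
    have h2 := card_dvd_of_le h1
    rw [hE, hZ] at h2
    omega
  obtain ⟨e₁, he₁, hn₁, hc₁⟩ := exists_central_mod hQ hEQ hn hZn hEZ
  have he₁H : e₁ ∈ H := memH.2 ⟨he₁, hc₁⟩
  have hHneE : H ≠ E := fun h => hx' fun e he => (memH.1 (h ▸ he : e ∈ H)).2 x hx
  have hcard : Nat.card H = 4 := by
    have h1 : Nat.card H ∣ 8 := by rw [← hE]; exact card_dvd_of_le hHE
    have h2 : 2 ∣ Nat.card H := by rw [← hZ]; exact card_dvd_of_le hZH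
    have h3 : Nat.card H ≤ 8 := Nat.le_of_dvd (by norm_num) h1
    have h4 : Nat.card H ≠ 8 := fun h => hHneE (eq_of_le_of_card_ge hHE (by omega))
    have h5 : Nat.card H ≠ 2 := by
      intro h
      have h6 : Z = H := eq_of_le_of_card_ge hZH (by omega)
      exact hn₁ (h6 ▸ he₁H)
    have h6 : 0 < Nat.card H := Nat.card_pos
    generalize Nat.card H = k at *
    have h7 : k = 1 ∨ k = 2 ∨ k = 3 ∨ k = 4 ∨ k = 5 ∨ k = 6 ∨ k = 7 ∨ k = 8 := by omega
    rcases h7 with rfl | rfl | rfl | rfl | rfl | rfl | rfl | rfl <;> omega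
  -- `H` is `Q`-invariant
  have hHn : ∀ x ∈ Q, ∀ e ∈ H, x * e * x⁻¹ ∈ H := by
    intro x hx e he
    have h1 : x * e * x⁻¹ = (x * e * x⁻¹ * e⁻¹) * e := by group
    rw [h1]
    exact mul_mem (hZH ((memH.1 he).2 x hx)) he
  have hHn' : ∀ x ∈ Q, ∀ e ∈ E, e ∉ H → x * e * x⁻¹ ∉ H := by
    intro x hx e _ he' h1
    apply he'
    have h2 := hHn x⁻¹ (inv_mem hx) _ h1
    have h3 : x⁻¹ * (x * e * x⁻¹) * x⁻¹⁻¹ = e := by group
    rwa [h3] at h2
  have hEH : ∀ x ∈ Q, ∀ e ∈ E, e ∉ H → x * e * x⁻¹ * e⁻¹ ∈ H := fun x hx e he he' =>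
    mul_mem_of_card hHE (by omega) (hn x hx e he) (inv_mem he) (hHn' x hx e he he')
      (fun h => he' (inv_mem_iff.1 h))
  have key : ∀ x ∈ Q, (¬ ∀ e ∈ E, x * e * x⁻¹ * e⁻¹ ∈ Z) → ∀ e ∈ E, e ∉ H →
      x * e * x⁻¹ * e⁻¹ ∉ Z := by
    intro x hx hx' e he he' h1
    apply hx'
    intro a ha
    by_cases haH : a ∈ H
    · exact (memH.1 haH).2 x hx
    · have h2 : a * e⁻¹ ∈ H := mul_mem_of_card hHE (by omega) ha (inv_mem he) haH
        (fun h => he' (inv_mem_iff.1 h))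
      have h3 : a = (a * e⁻¹) * e := by group
      rw [h3, mulE x hx _ (hHE h2) e he]
      exact mul_mem ((memH.1 h2).2 x hx) h1
  intro e he
  have h1 : (x * y) * e * (x * y)⁻¹ * e⁻¹ =
      (x * (y * e * y⁻¹ * e⁻¹) * x⁻¹ * (y * e * y⁻¹ * e⁻¹)⁻¹) *
        ((y * e * y⁻¹ * e⁻¹) * (x * e * x⁻¹ * e⁻¹)) := by
    have h2 := mulE x hx (y * e * y⁻¹ * e⁻¹) (mul_mem (hn y hy e he) (inv_mem he)) e he
    calc (x * y) * e * (x * y)⁻¹ * e⁻¹ =
        (x * (y * e * y⁻¹ * e⁻¹ * e) * x⁻¹ * (y * e * y⁻¹ * e⁻¹ * e)⁻¹) * (y * e * y⁻¹ * e⁻¹) := by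
          group
      _ = _ := by
        rw [h2]
        have h3 := hEc (x * e * x⁻¹ * e⁻¹) (mul_mem (hn x hx e he) (inv_mem he))
          (y * e * y⁻¹ * e⁻¹) (mul_mem (hn y hy e he) (inv_mem he))
        rw [mul_assoc, h3]
  rw [h1]
  by_cases heH : e ∈ H
  · have h2 := (memH.1 heH).2 y hy
    have h3 := (memH.1 heH).2 x hx
    exact mul_mem (mul_mem (hZn x hx _ h2) (inv_mem h2)) (mul_mem h2 h3)
  · have h2 := hEH y hy e he heH
    have h3 := hEH x hx e he heH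
    exact mul_mem ((memH.1 h2).2 x hx) (mul_mem_of_card hZH (by omega) h2 h3
      (key y hy hy' e he heH) (key x hx hx' e he heH))

/-- `⟨E^C⟩` -/
def QsOf (C E : Subgroup G) : Subgroup G := closure {y | ∃ c ∈ C, ∃ e ∈ E, y = c * e * c⁻¹}

theorem QsOf_norm {C E : Subgroup G} : C ≤ normalizer (QsOf C E : Set G) := by
  have key : ∀ c ∈ C, ∀ x ∈ QsOf C E, c * x * c⁻¹ ∈ QsOf C E := by
    intro c hc x hx
    unfold QsOf at hx ⊢
    induction hx using closure_induction with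
    | mem y hy =>
      obtain ⟨d, hd, e, he, rfl⟩ := hy
      exact subset_closure ⟨c * d, mul_mem hc hd, e, he, by group⟩
    | one => simp
    | mul a b _ _ ha hb =>
      have e : c * (a * b) * c⁻¹ = (c * a * c⁻¹) * (c * b * c⁻¹) := by group
      rw [e]; exact mul_mem ha hb
    | inv a _ ha =>
      have e : c * a⁻¹ * c⁻¹ = (c * a * c⁻¹)⁻¹ := by group
      rw [e]; exact inv_mem ha
  intro c hc
  rw [mem_normalizer_iff]
  intro x
  refine ⟨key c hc x, fun hx => ?_⟩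
  have h6 := key c⁻¹ (inv_mem hc) _ hx
  have e : c⁻¹ * (c * x * c⁻¹) * c⁻¹⁻¹ = x := by group
  rwa [e] at h6

theorem QsOf_le {C E Q : Subgroup G} (hE : E ≤ Q) (hQ : C ≤ normalizer (Q : Set G)) :
    QsOf C E ≤ Q := by
  unfold QsOf
  rw [closure_le]
  rintro y ⟨c, hc, e, he, rfl⟩
  exact (mem_normalizer_iff.1 (hQ hc) e).1 (hE he)

theorem mem_QsOf {C E : Subgroup G} {c e : G} (hc : c ∈ C) (he : e ∈ E) : c * e * c⁻¹ ∈ QsOf C E :=
  subset_closure ⟨c, hc, e, he, rfl⟩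

theorem le_QsOf (C E : Subgroup G) : E ≤ QsOf C E := fun e he =>
  subset_closure ⟨1, one_mem _, e, he, by group⟩

/-- `O₂(C) ≤ S` for `S ≤ C`. -/
theorem o2_le_S [Finite G] (S : Sylow 2 G) {C : Subgroup G} (hSC : (S : Subgroup G) ≤ C) :
    o2 C ≤ (S : Subgroup G) := by
  have h1 : IsPGroup 2 ((S : Subgroup G) ⊔ o2 C : Subgroup G) :=
    IsPGroup.to_sup_of_normal_right' S.isPGroup' (o2_isPGroup _) (hSC.trans (le_normalizer_o2 C))
  exact le_sup_right.trans (S.is_maximal' h1 le_sup_left).le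

/-- **The frame (0)** with the minimality of `C`. -/
theorem exists_pt_min [Finite G] (S : Sylow 2 G) {P V : Subgroup G} {z : G}
    (hSP : (S : Subgroup G) ≤ P) (hPV : P ≤ normalizer (V : Set G)) (hVS : V ≤ (S : Subgroup G))
    (Vab : ∀ v ∈ V, ∀ w ∈ V, v * w = w * v) (Vsq : ∀ v ∈ V, v * v = 1) (cardV : Nat.card V = 16)
    (hz1 : z ≠ 1) (hzV : z ∈ V) (hzS : ∀ s ∈ (S : Subgroup G), s * z = z * s)
    (hZ : ∀ x ∈ (S : Subgroup G), (∀ s ∈ (S : Subgroup G), x * s = s * x) → x * x = 1 →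
      x = 1 ∨ x = z)
    (char2 : ∀ c, c * z = z * c → (∀ x ∈ o2 (centralizer ({z} : Set G)), c * x = x * c) →
      c ∈ o2 (centralizer ({z} : Set G)))
    (nT : P ≤ normalizer (((S : Subgroup G) ⊓ centralizer (V : Set G) : Subgroup G) : Set G))
    (card8 : Nat.card ↥(V ⊓ o2 (centralizer ({z} : Set G))) = 8)
    (hf : Facts P V (V ⊓ o2 (centralizer ({z} : Set G))) z) :
    ∃ C QF Qs : Subgroup G, Pt P V ((S : Subgroup G) ⊓ centralizer (V : Set G)) z C (o2 C) QF Qs ∧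
      C ≤ centralizer ({z} : Set G) ∧ (S : Subgroup G) ≤ C ∧ o2 C ≤ (S : Subgroup G) ∧
      o2 (centralizer ({z} : Set G)) ≤ o2 C ∧ Qs ≤ o2 (centralizer ({z} : Set G)) ∧
      V ⊓ o2 C = V ⊓ o2 (centralizer ({z} : Set G)) ∧
      ∀ Y : Subgroup G, P ⊓ centralizer ({z} : Set G) ≤ Y → Y ≤ C → ¬ V ≤ o2 Y → C ≤ Y := by
  classical
  set CG := centralizer ({z} : Set G) with hCG
  set E := V ⊓ o2 CG with hE
  have memCG : ∀ {c : G}, c ∈ CG ↔ c * z = z * c := by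
    intro c
    rw [hCG, mem_centralizer_singleton_iff]
  have hzz : z * z = 1 := Vsq z hzV
  have hSC : (S : Subgroup G) ≤ CG := fun s hs => memCG.2 (hzS s hs)
  -- the minimal `C₁`
  let 𝒮 : Set (Subgroup G) := {Y | P ⊓ CG ≤ Y ∧ Y ≤ CG ∧ ¬ V ≤ o2 Y}
  have hne : 𝒮.Nonempty := by
    refine ⟨CG, inf_le_right, le_rfl, fun h => ?_⟩
    have h1 : E = V := inf_eq_left.2 h
    rw [h1] at card8
    omega
  obtain ⟨C, ⟨hPC, hCC, hVQ⟩, hmin⟩ := WellFounded.has_min (wellFounded_lt (α := Subgroup G)) 𝒮 hne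
  have hSC1 : (S : Subgroup G) ≤ C := (le_inf hSP hSC).trans hPC
  have hQS : o2 C ≤ (S : Subgroup G) := o2_le_S S hSC1
  have hQC : o2 CG ≤ C := (o2_le_S S hSC).trans hSC1
  have hQQ : o2 CG ≤ o2 C :=
    le_o2 hQC (o2_isPGroup CG) (hCC.trans (le_normalizer_o2 CG))
  have hVC : V ≤ C := hVS.trans hSC1
  have hzQ : z ∈ o2 CG := by
    have h1 : zpowers z ≤ o2 CG := by
      refine le_o2 ?_ ?_ ?_
      · rw [zpowers_le]; exact memCG.2 rfl
      · exact S.isPGroup'.to_le (by rw [zpowers_le]; exact hVS hzV)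
      · rw [hCG]
        intro c hc
        rw [mem_centralizer_singleton_iff] at hc
        rw [mem_normalizer_iff]
        have hcn : ∀ n : ℤ, c * z ^ n * c⁻¹ = z ^ n := by
          intro n
          have h2 : Commute c z := hc
          rw [(h2.zpow_right n).eq]; group
        intro x
        constructor
        · rintro ⟨n, rfl⟩
          exact ⟨n, (hcn n).symm⟩
        · rintro ⟨n, hn⟩
          refine ⟨n, ?_⟩
          have h3 : c⁻¹ * (c * x * c⁻¹) * c = c⁻¹ * (c * z ^ n * c⁻¹) * c := by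
            rw [hcn]
            exact congrArg (fun y => c⁻¹ * y * c) hn.symm
          have h4 : x = z ^ n := by
            calc x = c⁻¹ * (c * x * c⁻¹) * c := by group
              _ = c⁻¹ * (c * z ^ n * c⁻¹) * c := h3
              _ = z ^ n := by group
          exact h4.symm
    exact h1 (mem_zpowers z)
  have Cz : ∀ c ∈ C, c * z = z * c := fun c hc => memCG.1 (hCC hc)
  have nQC : C ≤ normalizer (o2 C : Set G) := le_normalizer_o2 C
  -- `V ∩ Q₁ = E`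
  have hEV : E ≤ V := inf_le_left
  have hVE : V ⊓ o2 C = E := by
    have h1 : E ≤ V ⊓ o2 C := inf_le_inf_left _ hQQ
    have h2 : Nat.card ↥(V ⊓ o2 C) ∣ 16 := by rw [← cardV]; exact card_dvd_of_le inf_le_left
    have h3 : 8 ∣ Nat.card ↥(V ⊓ o2 C) := by rw [← card8]; exact card_dvd_of_le h1
    have h4 : Nat.card ↥(V ⊓ o2 C) ≠ 16 := by
      intro h4
      apply hVQ
      have h5 : V ⊓ o2 C = V := eq_of_le_of_card_ge inf_le_left (by omega)
      exact inf_eq_left.1 h5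
    have h5 : Nat.card ↥(V ⊓ o2 C) ≤ 16 := Nat.le_of_dvd (by norm_num) h2
    have h6 : Nat.card ↥(V ⊓ o2 C) = 8 := by
      obtain ⟨k, hk⟩ := h3
      have hk2 : k = 0 ∨ k = 1 ∨ k = 2 := by omega
      rcases hk2 with rfl | rfl | rfl
      · have : 0 < Nat.card ↥(V ⊓ o2 C) := Nat.card_pos
        omega
      · omega
      · omega
    exact (eq_of_le_of_card_ge h1 (by omega)).symm
  have Vc : V ≤ centralizer (V : Set G) := fun v hv => mem_centralizer_iff.2 fun w hw => Vab w hw v hv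
  have Vsq' : ∀ w ∈ V, w ^ 2 = 1 := fun w hw => by rw [pow_two]; exact Vsq w hw
  have hQP : o2 C ≤ P := hQS.trans hSP
  obtain ⟨v, hv, hvQ⟩ : ∃ v ∈ V, v ∉ o2 C := SetLike.not_le_iff_exists.1 hVQ
  have hchar : C ⊓ centralizer (o2 C : Set G) ≤ o2 C := by
    intro c hc
    obtain ⟨h1, h2⟩ := mem_inf.1 hc
    rw [mem_centralizer_iff] at h2
    exact hQQ (char2 c (Cz c h1) fun x hx => (h2 x (hQQ hx)).symm)
  obtain ⟨g, hg, hfin, hX, -⟩ := NearFF.exists_near hchar hVC Vc Vsq' (hQP.trans hPV) hv hvQ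
  have near := hfin.near
  have cent := hfin.cent
  have hne' := hfin.ne
  have near' := hfin.near'
  rw [hVE] at near cent hne' near'
  set F := MulAut.conj g • E with hF
  set D := E ⊓ F with hD
  have gz : g * z = z * g := Cz g hg
  have hzE : z ∈ E := mem_inf.2 ⟨hzV, hzQ⟩
  have hzF : z ∈ F := by
    rw [hF, NoFF.Basic.mem_conj]
    have : g⁻¹ * z * g = z := by
      calc g⁻¹ * z * g = g⁻¹ * (z * g) := by group
        _ = z := by rw [← gz]; group
    rwa [this]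
  have hzD : z ∈ D := mem_inf.2 ⟨hzE, hzF⟩
  have hEQ : E ≤ o2 C := by rw [← hVE]; exact inf_le_right
  have hFQ : F ≤ o2 C := by
    intro x hx
    rw [hF, NoFF.Basic.mem_conj] at hx
    have h1 := (mem_normalizer_iff.1 (nQC hg) _).1 (hEQ hx)
    have e : g * (g⁻¹ * x * g) * g⁻¹ = x := by group
    rwa [e] at h1
  have hFP : F ≤ P := hFQ.trans hQP
  have hDz : ∀ d ∈ D, d = 1 ∨ d = z := D_two near card8 hne' hzD hz1 hFP hf.faith
  -- every element of `P` centralising `E/z` agrees with an element of `F`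
  have agree : ∀ x ∈ P, x * z = z * x → (∀ e ∈ E, x * e = e * x ∨ x * e = z * (e * x)) →
      ∃ f ∈ F, ∀ v ∈ V, (x * f⁻¹) * v = v * (x * f⁻¹) := fun x hx hxz hxE =>
    exists_agree near card8 hzD hz1 hDz hFP hf.faith hx hxz hxE
  have FE : ∀ f ∈ F, ∀ e ∈ E, f * e = e * f ∨ f * e = z * (e * f) := by
    intro f hf e he
    have hzi : z⁻¹ = z := inv_eq_of_mul_eq_one_left hzz
    rcases hDz _ (near.ED e he f hf) with h1 | h1
    · left
      calc f * e = (e * f * e⁻¹ * f⁻¹)⁻¹ * (e * f) := by group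
        _ = e * f := by rw [h1]; group
    · right
      calc f * e = (e * f * e⁻¹ * f⁻¹)⁻¹ * (e * f) := by group
        _ = z * (e * f) := by rw [h1, hzi]
  -- `Q_F`
  have Qz : ∀ x ∈ o2 C, x * z = z * x := fun x hx => Cz x (o2_le C hx)
  set QF := QFz (o2 C) E z Qz hzz with hQF
  have memQF : ∀ {x}, x ∈ QF ↔ x ∈ o2 C ∧ ∀ e ∈ E, x * e = e * x ∨ x * e = z * (e * x) := Iff.rfl
  have QFsub : QF ≤ o2 C := fun x hx => (memQF.1 hx).1
  have hEQF : E ≤ QF := fun e he => memQF.2 ⟨hEQ he, fun e' he' => Or.inl (Vab e (hEV he) e' (hEV he'))⟩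
  have hFQF : F ≤ QF := fun f hf => memQF.2 ⟨hFQ hf, FE f hf⟩
  -- `Q_F = (T ∩ Q) F`
  have QFT : ∀ x ∈ QF, ∃ f ∈ F, ∀ v ∈ V, (x * f⁻¹) * v = v * (x * f⁻¹) := fun x hx =>
    agree x (hQP (QFsub hx)) (Qz x (QFsub hx)) (memQF.1 hx).2
  -- normalisers
  have nE : ∀ x ∈ P ⊓ C, ∀ e ∈ E, x * e * x⁻¹ ∈ E := by
    intro x hx e he
    rw [← hVE] at he ⊢
    exact mem_inf.2 ⟨(mem_normalizer_iff.1 (hPV (mem_inf.1 hx).1) e).1 (mem_inf.1 he).1,
      (mem_normalizer_iff.1 (nQC (mem_inf.1 hx).2) e).1 (mem_inf.1 he).2⟩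
  have nF : ∀ x ∈ o2 C, ∀ f ∈ F, x * f * x⁻¹ ∈ F := by
    intro x hx f hf
    rw [hF, NoFF.Basic.mem_conj] at hf ⊢
    have h1 : g⁻¹ * x * g ∈ o2 C := by
      have := (mem_normalizer_iff.1 (nQC (inv_mem hg)) x).1 hx
      rwa [inv_inv] at this
    have h2 := nE _ (mem_inf.2 ⟨hQP h1, o2_le C h1⟩) _ hf
    have e : g⁻¹ * (x * f * x⁻¹) * g = g⁻¹ * x * g * (g⁻¹ * f * g) * (g⁻¹ * x * g)⁻¹ := by group
    rwa [e]
  -- `[Q_F, F] ≤ ⟨z⟩`
  have QFF : ∀ x ∈ QF, ∀ f ∈ F, x * f = f * x ∨ x * f = z * (f * x) := by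
    intro x hx f hf
    obtain ⟨f', hf', ht⟩ := QFT x hx
    have hcomm : f' * f = f * f' := comm_of_le_centralizer near.Fcomm hf' hf
    have htQ : x * f'⁻¹ ∈ o2 C := mul_mem (QFsub hx) (inv_mem (hFQ hf'))
    have h1 : (x * f'⁻¹) * f * (x * f'⁻¹)⁻¹ * f⁻¹ ∈ D := by
      rw [← near.F_inf_cent]
      refine mem_inf.2 ⟨mul_mem (nF _ htQ f hf) (inv_mem hf), mem_centralizer_iff.2 fun w hw => ?_⟩
      have hfw : f⁻¹ * w * f ∈ V := by
        have := (mem_normalizer_iff.1 (hPV (inv_mem (hFP hf))) w).1 hw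
        rwa [inv_inv] at this
      have e1 := ht _ hfw
      have e2 := ht w hw
      have e3 : (x * f'⁻¹)⁻¹ * w = w * (x * f'⁻¹)⁻¹ := by
        calc (x * f'⁻¹)⁻¹ * w = (x * f'⁻¹)⁻¹ * (w * (x * f'⁻¹)) * (x * f'⁻¹)⁻¹ := by group
          _ = w * (x * f'⁻¹)⁻¹ := by rw [← e2]; group
      -- `t f t⁻¹ f⁻¹` centralises `w`
      set t := x * f'⁻¹ with htdef
      symm
      calc t * f * t⁻¹ * f⁻¹ * w = t * f * (t⁻¹ * (f⁻¹ * w * f)) * f⁻¹ := by group
        _ = t * f * ((f⁻¹ * w * f) * t⁻¹) * f⁻¹ := by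
            have e4 : t⁻¹ * (f⁻¹ * w * f) = (f⁻¹ * w * f) * t⁻¹ := by
              calc t⁻¹ * (f⁻¹ * w * f) = t⁻¹ * ((f⁻¹ * w * f) * t) * t⁻¹ := by group
                _ = (f⁻¹ * w * f) * t⁻¹ := by rw [← e1]; group
            rw [e4]
        _ = (t * w) * f * t⁻¹ * f⁻¹ := by group
        _ = w * (t * f * t⁻¹ * f⁻¹) := by rw [e2]; group
    have hxf : x * f * x⁻¹ * f⁻¹ = (x * f'⁻¹) * f * (x * f'⁻¹)⁻¹ * f⁻¹ := by
      have e5 : f'⁻¹ * f * f' = f := by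
        calc f'⁻¹ * f * f' = f'⁻¹ * (f * f') := by group
          _ = f := by rw [← hcomm]; group
      calc x * f * x⁻¹ * f⁻¹ = x * (f'⁻¹ * f * f') * x⁻¹ * f⁻¹ := by rw [e5]
        _ = _ := by group
    rw [← hxf] at h1
    rcases hDz _ h1 with h2 | h2
    · left
      calc x * f = x * f * x⁻¹ * f⁻¹ * (f * x) := by group
        _ = f * x := by rw [h2, one_mul]
    · right
      calc x * f = x * f * x⁻¹ * f⁻¹ * (f * x) := by group
        _ = z * (f * x) := by rw [h2]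
  -- `g` normalises `Q_F`
  have giz : g⁻¹ * z = z * g⁻¹ := by
    calc g⁻¹ * z = g⁻¹ * (z * g) * g⁻¹ := by group
      _ = z * g⁻¹ := by rw [← gz]; group
  have gQF' : ∀ x ∈ QF, g⁻¹ * x * g ∈ QF := by
    intro x hx
    have hxQ := QFsub hx
    refine memQF.2 ⟨?_, fun e he => ?_⟩
    · have := (mem_normalizer_iff.1 (nQC (inv_mem hg)) x).1 hxQ
      rwa [inv_inv] at this
    · have hge : g * e * g⁻¹ ∈ F := by
        rw [hF, NoFF.Basic.mem_conj]
        have e1 : g⁻¹ * (g * e * g⁻¹) * g = e := by group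
        rwa [e1]
      rcases QFF x hx _ hge with h1 | h1
      · left
        calc g⁻¹ * x * g * e = g⁻¹ * (x * (g * e * g⁻¹)) * g := by group
          _ = e * (g⁻¹ * x * g) := by rw [h1]; group
      · right
        calc g⁻¹ * x * g * e = g⁻¹ * (x * (g * e * g⁻¹)) * g := by group
          _ = (g⁻¹ * z) * g * (e * (g⁻¹ * x * g)) := by rw [h1]; group
          _ = z * (e * (g⁻¹ * x * g)) := by rw [giz]; group
  have gQF : g ∈ normalizer (QF : Set G) := by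
    have h1 : QF.map (MulAut.conj g⁻¹).toMonoidHom ≤ QF := by
      rintro _ ⟨x, hx, rfl⟩
      have := gQF' x hx
      change g⁻¹ * x * g⁻¹⁻¹ ∈ QF
      rwa [inv_inv]
    have h2 : QF.map (MulAut.conj g⁻¹).toMonoidHom = QF :=
      eq_of_le_of_card_ge h1 (le_of_eq (Subgroup.card_map_of_injective (MulAut.conj g⁻¹).injective).symm)
    rw [mem_normalizer_iff]
    intro x
    constructor
    · intro hx
      have hx' : x ∈ QF.map (MulAut.conj g⁻¹).toMonoidHom := by rw [h2]; exact hx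
      obtain ⟨y, hy, hyx⟩ := hx'
      have e : g * x * g⁻¹ = y := by
        have hyx' : g⁻¹ * y * g⁻¹⁻¹ = x := hyx
        rw [← hyx']; group
      rw [e]; exact hy
    · intro hx
      have := gQF' _ hx
      have e : g⁻¹ * (g * x * g⁻¹) * g = x := by group
      rwa [e] at this
  have PQF : P ⊓ C ≤ normalizer (QF : Set G) := by
    have key : ∀ m ∈ P ⊓ C, ∀ x ∈ QF, m * x * m⁻¹ ∈ QF := by
      intro m hm x hx
      refine memQF.2 ⟨(mem_normalizer_iff.1 (nQC (mem_inf.1 hm).2) x).1 (QFsub hx), fun e he => ?_⟩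
      have he' := nE m⁻¹ (inv_mem hm) e he
      have mz := Cz m (mem_inf.1 hm).2
      rcases (memQF.1 hx).2 _ he' with h1 | h1
      · left
        calc m * x * m⁻¹ * e = m * (x * (m⁻¹ * e * m⁻¹⁻¹)) * m⁻¹ := by group
          _ = e * (m * x * m⁻¹) := by rw [h1]; group
      · right
        calc m * x * m⁻¹ * e = m * (x * (m⁻¹ * e * m⁻¹⁻¹)) * m⁻¹ := by group
          _ = (m * z) * m⁻¹ * (e * (m * x * m⁻¹)) := by rw [h1]; group
          _ = z * (e * (m * x * m⁻¹)) := by rw [mz]; group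
    intro m hm
    rw [mem_normalizer_iff]
    intro x
    refine ⟨key m hm x, fun hx => ?_⟩
    have h6 := key m⁻¹ (inv_mem hm) _ hx
    have e : m⁻¹ * (m * x * m⁻¹) * m⁻¹⁻¹ = x := by group
    rwa [e] at h6
  -- `C₁ = ⟨P ∩ C, g⟩`
  have hK : C = (P ⊓ CG) ⊔ zpowers g := by
    have hKC : (P ⊓ CG) ⊔ zpowers g ≤ C := sup_le hPC (by rw [zpowers_le]; exact hg)
    by_contra hne2
    have hlt : (P ⊓ CG) ⊔ zpowers g < C := lt_of_le_of_ne hKC (Ne.symm hne2)
    refine hmin _ ⟨le_sup_left, hKC.trans hCC, fun hVK => ?_⟩ hlt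
    apply hX
    set K := (P ⊓ CG) ⊔ zpowers g with hKdef
    have hgK : g ∈ K := mem_sup_right (mem_zpowers g)
    have h1 : V1 V (o2 C) v ≤ o2 K := (NearFF.V1_le hv).trans hVK
    refine (o2_isPGroup K).to_le (sup_le h1 ?_)
    intro x hx
    rw [NoFF.Basic.mem_conj] at hx
    have h2 := (mem_normalizer_iff.1 (le_normalizer_o2 K hgK) _).1 (h1 hx)
    have e : g * (g⁻¹ * x * g) * g⁻¹ = x := by group
    rwa [e] at h2
  have hPCC : P ⊓ CG ≤ P ⊓ C := le_inf inf_le_left hPC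
  have nQF : C ≤ normalizer (QF : Set G) := by
    rw [hK]
    exact sup_le (hPCC.trans PQF) (by rw [zpowers_le]; exact gQF)
  have hQsQF : QsOf C E ≤ QF := QsOf_le hEQF nQF
  have hFQs : F ≤ QsOf C E := by
    intro x hx
    rw [hF, NoFF.Basic.mem_conj] at hx
    have := mem_QsOf hg hx
    have e : g * (g⁻¹ * x * g) * g⁻¹ = x := by group
    rwa [e] at this
  have hEc : ∀ x ∈ V, x ∈ o2 C → x ∈ E := fun x hx hxQ => by
    rw [← hVE]; exact mem_inf.2 ⟨hx, hxQ⟩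
  -- for `x ∈ V - Q`: the near-FF data
  have V2 : ∀ v ∈ V, ∀ w ∈ V, v ∉ o2 C → w ∉ o2 C → v * w ∈ o2 C := by
    intro a ha b hb ha' hb'
    exact hEQ (mul_mem_of_card hEV (by omega) ha hb (fun h => ha' (hEQ h)) (fun h => hb' (hEQ h)))
  have nearv : ∀ w ∈ V, w ∉ o2 C → Near V E D F w := by
    intro w hw hwQ
    have h1 : v * w ∈ E := hEc _ (mul_mem hv hw) (V2 v hv w hw hvQ hwQ)
    have h2 := near.mul_right h1
    have e : v * (v * w) = w := by rw [← mul_assoc, Vsq v hv, one_mul]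
    rwa [e] at h2
  have hPVm : ∀ x ∈ P, ∀ w ∈ V, x * w * x⁻¹ ∈ V := fun x hx w hw =>
    (mem_normalizer_iff.1 (hPV hx) w).1 hw
  have Vinv : ∀ w ∈ V, w⁻¹ = w := fun w hw => inv_eq_of_mul_eq_one_left (Vsq w hw)
  have hcT : ∀ x ∈ o2 C, (∀ v ∈ V, x * v = v * x) →
      x ∈ (S : Subgroup G) ⊓ centralizer (V : Set G) := fun x hx h =>
    mem_inf.2 ⟨hQS hx, mem_centralizer_iff.2 fun v hv => (h v hv).symm⟩
  have hDE : D ≤ E := inf_le_left
  have hzi : z⁻¹ = z := Vinv z hzV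
  -- `[f, v] = [v, f]`
  have cvf : ∀ w ∈ V, ∀ f ∈ F, f * w * f⁻¹ * w⁻¹ = c w f := by
    intro w hw f hf
    have h1 : f * w * f⁻¹ * w⁻¹ ∈ V := mul_mem (hPVm f (hFP hf) w hw) (inv_mem hw)
    rw [← Vinv _ h1, c]; group
  -- `x ∈ Q_F` acts as `f ∈ F`
  have act : ∀ x ∈ QF, ∃ f ∈ F, (x * f⁻¹) ∈ (S : Subgroup G) ⊓ centralizer (V : Set G) ∧
      ∀ w ∈ V, x * w * x⁻¹ = f * w * f⁻¹ := by
    intro x hx
    obtain ⟨f, hf, h1⟩ := QFT x hx
    refine ⟨f, hf, hcT _ (mul_mem (QFsub hx) (inv_mem (hFQ hf))) h1, fun w hw => ?_⟩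
    have h2 := h1 _ (hPVm f (hFP hf) w hw)
    calc x * w * x⁻¹ = ((x * f⁻¹) * (f * w * f⁻¹)) * (x * f⁻¹)⁻¹ := by group
      _ = f * w * f⁻¹ := by rw [h2]; group
  have hTn : (S : Subgroup G) ⊓ centralizer (V : Set G) ≤ (S : Subgroup G) := inf_le_left
  have nzE : ∀ m ∈ P, m * z * m⁻¹ ∉ o2 C → m * z * m⁻¹ ∉ E := fun m _ h1 h2 => h1 (hEQ h2)
  refine ⟨C, QF, QsOf C E, ?_, hCC, hSC1, hQS, hQQ, QsOf_le inf_le_right (hCC.trans (le_normalizer_o2 CG)),
    hVE, fun Y h1 h2 h3 => ?_⟩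
  swap
  · by_contra h4
    exact hmin Y ⟨h1, h2.trans hCC, h3⟩ (lt_of_le_not_ge h2 h4)
  exact
    { ne_one := hz1
      sq := hzz
      zV := hzV
      zQ := hQQ hzQ
      Vab := Vab
      Vsq := Vsq
      cardV := cardV
      VT := le_inf hVS Vc
      TP := hTn.trans hSP
      TV := fun t ht v hv => (mem_centralizer_iff.1 (mem_inf.1 ht).2 v hv).symm
      nT := nT
      nV := hPV
      pT := S.isPGroup'.to_le hTn
      Cz := Cz
      PC := fun m hm hmz => hPC (mem_inf.2 ⟨hm, memCG.2 hmz⟩)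
      gen := by
        have h1 : V1 V (o2 C) v ≤ closure ({m | m ∈ P ∧ m * z = z * m} ∪
            {x | ∃ c ∈ C, ∃ v ∈ V, x = c * v * c⁻¹}) := fun w hw =>
          subset_closure (Or.inr ⟨1, one_mem _, w, NearFF.V1_le hv hw, by group⟩)
        have h2 : MulAut.conj g • V1 V (o2 C) v ≤ closure ({m | m ∈ P ∧ m * z = z * m} ∪
            {x | ∃ c ∈ C, ∃ v ∈ V, x = c * v * c⁻¹}) := by
          intro w hw
          rw [NoFF.Basic.mem_conj] at hw
          exact subset_closure (Or.inr ⟨g, hg, _, NearFF.V1_le hv hw, by group⟩)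
        have h3 : (P ⊓ CG) ⊔ zpowers g ≤ closure ({m | m ∈ P ∧ m * z = z * m} ∪
            {x | ∃ c ∈ C, ∃ v ∈ V, x = c * v * c⁻¹}) := by
          refine sup_le (fun m hm => subset_closure (Or.inl ⟨(mem_inf.1 hm).1,
            memCG.1 (mem_inf.1 hm).2⟩)) ?_
          rw [zpowers_le]
          exact (sup_le h1 h2) hfin.fr.gX
        exact hK.le.trans h3
      Qo2 := rfl
      char2 := fun c hc h => hchar (mem_inf.2 ⟨hc, mem_centralizer_iff.2 fun x hx => (h x hx).symm⟩)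
      QP := hQP
      nQF := nQF
      nQs := QsOf_norm
      QFQ := QFsub
      QsQF := hQsQF
      com := by
        intro x hx y hy
        have h1 : ∀ y ∈ QF, x * y = y * x ∨ x * y = z * (y * x) := by
          unfold QsOf at hx
          induction hx using closure_induction with
          | mem x hx =>
            obtain ⟨c, hc, e, he, rfl⟩ := hx
            intro y hy
            have h2 : c⁻¹ * y * c⁻¹⁻¹ ∈ QF := (mem_normalizer_iff.1 (nQF (inv_mem hc)) y).1 hy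
            have mz := Cz c hc
            rcases (memQF.1 h2).2 e he with h3 | h3
            · left
              have h4 : e * (c⁻¹ * y * c) = (c⁻¹ * y * c) * e := by
                have : c⁻¹ * y * c⁻¹⁻¹ * e = e * (c⁻¹ * y * c⁻¹⁻¹) := h3
                rw [inv_inv] at this
                exact this.symm
              calc c * e * c⁻¹ * y = c * (e * (c⁻¹ * y * c)) * c⁻¹ := by group
                _ = y * (c * e * c⁻¹) := by rw [h4]; group
            · right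
              have h4 : e * (c⁻¹ * y * c) = z * ((c⁻¹ * y * c) * e) := by
                have : c⁻¹ * y * c⁻¹⁻¹ * e = z * (e * (c⁻¹ * y * c⁻¹⁻¹)) := h3
                rw [inv_inv] at this
                rw [this, ← mul_assoc z z, hzz, one_mul]
              calc c * e * c⁻¹ * y = c * (e * (c⁻¹ * y * c)) * c⁻¹ := by group
                _ = (c * z) * c⁻¹ * (y * (c * e * c⁻¹)) := by rw [h4]; group
                _ = z * (y * (c * e * c⁻¹)) := by rw [mz]; group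
          | one => intro y _; left; simp
          | mul a b ha hb iha ihb =>
            intro y hy
            have haz : a * z = z * a := Qz a (QFsub (hQsQF ha))
            rcases ihb y hy with h2 | h2 <;> rcases iha y hy with h3 | h3
            · left
              calc a * b * y = a * (b * y) := by group
                _ = (a * y) * b := by rw [h2]; group
                _ = y * (a * b) := by rw [h3]; group
            · right
              calc a * b * y = a * (b * y) := by group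
                _ = (a * y) * b := by rw [h2]; group
                _ = z * (y * (a * b)) := by rw [h3]; group
            · right
              calc a * b * y = a * (b * y) := by group
                _ = (a * z) * y * b := by rw [h2]; group
                _ = z * (a * y) * b := by rw [haz]; group
                _ = z * (y * (a * b)) := by rw [h3]; group
            · left
              calc a * b * y = a * (b * y) := by group
                _ = (a * z) * y * b := by rw [h2]; group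
                _ = z * (a * y) * b := by rw [haz]; group
                _ = (z * z) * (y * (a * b)) := by rw [h3]; group
                _ = y * (a * b) := by rw [hzz, one_mul]
          | inv a ha iha =>
            intro y hy
            have haz : a⁻¹ * z = z * a⁻¹ := Qz a⁻¹ (inv_mem (QFsub (hQsQF ha)))
            rcases iha y hy with h2 | h2
            · left
              calc a⁻¹ * y = a⁻¹ * (y * a) * a⁻¹ := by group
                _ = y * a⁻¹ := by rw [← h2]; group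
            · right
              have h3 : y * a = z * (a * y) := by rw [h2, ← mul_assoc, hzz, one_mul]
              calc a⁻¹ * y = a⁻¹ * (y * a) * a⁻¹ := by group
                _ = (a⁻¹ * z) * a * y * a⁻¹ := by rw [h3]; group
                _ = z * (y * a⁻¹) := by rw [haz]; group
        exact h1 y hy
      QsGen := by
        unfold QsOf
        rw [closure_le]
        rintro y ⟨c, hc, e, he, rfl⟩
        exact subset_closure ⟨c, hc, e, hEV he, hEQ he, rfl⟩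
      VQs := fun v hv hvQ => le_QsOf C E (hEc v hv hvQ)
      VQ2 := V2
      VQc := by
        intro x hx w hw
        have h1 : w * x⁻¹ * w⁻¹ ∈ o2 C :=
          (mem_normalizer_iff.1 (nQC (hVC hw)) x⁻¹).1 (inv_mem hx)
        have e : x * w * x⁻¹ * w⁻¹ = x * (w * x⁻¹ * w⁻¹) := by group
        rw [e]; exact mul_mem hx h1
      cT := hcT
      faith := fun x hx h => hf.faith x hx fun e he => h e (hEV he) (hEQ he)
      fixE := by
        intro e he h
        have hF1 : ∀ f ∈ F, f * e = e * f := fun f hf => h f (hFQs hf)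
        by_cases heQ : e ∈ o2 C
        · have heE := hEc e he heQ
          -- `e ∈ E` commutes with `F`, hence with `V^g`
          have h1 : g⁻¹ * e * g ∈ o2 C := by
            have := (mem_normalizer_iff.1 (nQC (inv_mem hg)) e).1 heQ
            rwa [inv_inv] at this
          have h2 : ∀ a ∈ E, (g⁻¹ * e * g) * a = a * (g⁻¹ * e * g) := by
            intro a ha
            have h3 : g * a * g⁻¹ ∈ F := by
              rw [hF, NoFF.Basic.mem_conj]
              have e1 : g⁻¹ * (g * a * g⁻¹) * g = a := by group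
              rwa [e1]
            have h4 := hF1 _ h3
            calc g⁻¹ * e * g * a = g⁻¹ * (e * (g * a * g⁻¹)) * g := by group
              _ = a * (g⁻¹ * e * g) := by rw [← h4]; group
          have h3 := hf.faith _ (hQP h1) h2
          have h4 : e ∈ D := by
            rw [← near'.F_inf_cent]
            refine mem_inf.2 ⟨heE, mem_centralizer_iff.2 fun w hw => ?_⟩
            rw [SetLike.mem_coe, NoFF.Basic.mem_conj] at hw
            have h5 := h3 _ hw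
            calc w * e = g * ((g⁻¹ * w * g) * (g⁻¹ * e * g)) * g⁻¹ := by group
              _ = e * w := by rw [← h5]; group
          exact hDz e h4
        · exfalso
          have h1 : F ≤ D := by
            intro f hf
            refine (nearv e he heQ).inj f hf ?_
            have : e * f * e⁻¹ * f⁻¹ = 1 := by rw [← hF1 f hf]; group
            rw [this]; exact one_mem _
          apply hne'
          have h2 : D = F := le_antisymm near.DF h1
          have h3 := card_eq_sub near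
          rw [← h2] at h3
          exact eq_of_le_of_card_ge hDE (le_of_eq h3.symm)
      QFT := by
        intro x hx
        obtain ⟨f, hf, h1, -⟩ := act x hx
        exact ⟨_, h1, f, hFQs hf, by group⟩
      QQF := fun x hx h => memQF.2 ⟨hx, fun e he => h e (hEV he) (hEQ he)⟩
      QF2 := by
        intro x hx y hy hx' hy'
        have hZ2 : Nat.card (zpowers z) = 2 := by
          rw [Nat.card_zpowers]
          exact orderOf_eq_prime (by rw [pow_two]; exact hzz) hz1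
        have memZ : ∀ {w : G}, w ∈ zpowers z ↔ w = 1 ∨ w = z := by
          intro w
          constructor
          · rintro ⟨n, rfl⟩
            rcases Int.even_or_odd' n with ⟨k, rfl | rfl⟩
            · left
              change z ^ (2 * k) = 1
              rw [zpow_mul, zpow_two, hzz, one_zpow]
            · right
              change z ^ (2 * k + 1) = z
              rw [zpow_add, zpow_mul, zpow_two, hzz, one_zpow, one_mul, zpow_one]
          · rintro (rfl | rfl)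
            · exact one_mem _
            · exact mem_zpowers _
        have iffz : ∀ x e : G, x * e * x⁻¹ * e⁻¹ ∈ zpowers z ↔
            (x * e = e * x ∨ x * e = z * (e * x)) := by
          intro x e
          rw [memZ]
          constructor
          · rintro (h | h)
            · left
              calc x * e = x * e * x⁻¹ * e⁻¹ * (e * x) := by group
                _ = e * x := by rw [h, one_mul]
            · right
              calc x * e = x * e * x⁻¹ * e⁻¹ * (e * x) := by group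
                _ = z * (e * x) := by rw [h]
          · rintro (h | h)
            · left; rw [h]; group
            · right; rw [h]; group
        refine memQF.2 ⟨mul_mem hx hy, fun e he => ?_⟩
        rw [← iffz]
        refine two_mod (S.isPGroup'.to_le hQS) hEQ card8 (by rw [zpowers_le]; exact hzE) hZ2
          (fun a ha b hb => Vab a (hEV ha) b (hEV hb))
          (fun x hx e he => nE x (mem_inf.2 ⟨hQP hx, o2_le C hx⟩) e he) ?_ hx hy ?_ ?_ e he
        · intro x hx e he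
          have h1 : x * e * x⁻¹ = e := by
            rcases memZ.1 he with rfl | rfl
            · group
            · rw [Qz x hx]; group
          rw [h1]; exact he
        · exact fun h => hx' (memQF.2 ⟨hx, fun e he => (iffz x e).1 (h e he)⟩)
        · exact fun h => hy' (memQF.2 ⟨hy, fun e he => (iffz y e).1 (h e he)⟩)
      kv := by
        intro x hx w hw hwQ h
        obtain ⟨f, hf, h1, h2⟩ := act x (hQsQF hx)
        have h3 : c w f ∈ D := by
          rw [← cvf w hw f hf, ← h2 w hw]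
          rcases h with h | h
          · have : x * w * x⁻¹ * w⁻¹ = 1 := by rw [h]; group
            rw [this]; exact one_mem _
          · have : x * w * x⁻¹ * w⁻¹ = z := by rw [h]; group
            rw [this]; exact hzD
        have h4 := (nearv w hw hwQ).inj f hf h3
        have h5 : f ∈ (S : Subgroup G) ⊓ centralizer (V : Set G) :=
          (le_inf hVS Vc) (hEV (hDE h4))
        have h6 : x = (x * f⁻¹) * f := by group
        rw [h6]
        exact mul_mem h1 h5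
      ev := by
        intro e he heQ w hw hwQ
        obtain ⟨f, hf, h1⟩ := (nearv w hw hwQ).surj (hEc e he heQ)
        refine ⟨f, hFQs hf, ?_⟩
        rw [cvf w hw f hf]
        rcases hDz _ h1 with h2 | h2
        · left; exact mul_inv_eq_one.1 h2
        · right; exact mul_inv_eq_iff_eq_mul.1 h2
      symm := by
        intro m hm h1 h2
        have h3 := hf.symm m hm (nzE m hm h1)
        have h4 := hPVm m⁻¹ (inv_mem hm) z hzV
        rw [inv_inv] at h4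
        exact h3 (hEc _ h4 h2)
      trans := by
        intro m hm h1 n hn
        refine hf.trans m hm (nzE m hm h1) (QsOf C E) ((hQsQF.trans QFsub).trans hQP) ?_ n hn
        intro x hx h2
        have hxz : x * z = z * x := by
          rcases h2 z hzE with h3 | h3
          · exact h3
          · exfalso
            rw [← mul_assoc, hzz, one_mul] at h3
            exact hz1 (mul_eq_left.1 h3)
        obtain ⟨f, hfF, h3⟩ := agree x hx hxz h2
        refine ⟨f, hFQs hfF, fun w hw => ?_⟩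
        have h4 := h3 _ (hPVm f (hFP hfF) w hw)
        calc f * w * f⁻¹ = (f * w * f⁻¹) * (x * f⁻¹) * (x * f⁻¹)⁻¹ := by group
          _ = x * w * x⁻¹ := by rw [← h4]; group
      tri := by
        obtain ⟨m, hm, n, hn, h1, h2, h3⟩ := hf.tri
        have hin : ∀ k ∈ P, k * z * k⁻¹ ∉ E → k * z * k⁻¹ ∉ o2 C := fun k hk h h' =>
          h (hEc _ (hPVm k hk z hzV) h')
        exact ⟨m, hm, n, hn, hin m hm h1, hin n hn h2, hin _ (mul_mem (inv_mem hm) hn) h3⟩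
      min := by
        intro N hN hNn hN1
        obtain ⟨x, hx, hx1, hx2, hxS⟩ := exists_central S.isPGroup' (hN.trans hTn)
          (fun s hs x hx => hNn s (hSP hs) (hzS s hs) x hx) hN1
        rcases hZ x (hTn (hN hx)) hxS hx2 with h | h
        · exact absurd h hx1
        · rw [← h]; exact hx }

/-- The minimality of `C`: an element of odd order inverted by some `v ∈ V - Q`. -/
theorem gen_of_min [Finite G] {P V C : Subgroup G} {z : G}
    (hmin : ∀ Y : Subgroup G, P ⊓ centralizer ({z} : Set G) ≤ Y → Y ≤ C → ¬ V ≤ o2 Y → C ≤ Y)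
    (hPC : P ⊓ centralizer ({z} : Set G) ≤ C) :
    ∀ v ∈ V, ∀ d ∈ C, d ≠ 1 → Odd (orderOf d) → v * d * v⁻¹ = d⁻¹ →
      C ≤ closure ({m | m ∈ P ∧ m * z = z * m} ∪ {d}) := by
  intro v hv d hd hd1 hodd hvd
  set Y := closure ({m | m ∈ P ∧ m * z = z * m} ∪ {d}) with hY
  have hdY : d ∈ Y := subset_closure (Or.inr rfl)
  refine hmin Y ?_ ?_ ?_
  · intro m hm
    obtain ⟨h1, h2⟩ := mem_inf.1 hm
    exact subset_closure (Or.inl ⟨h1, mem_centralizer_singleton_iff.1 h2⟩)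
  · rw [hY, closure_le]
    rintro m (⟨h1, h2⟩ | h1)
    · exact hPC (mem_inf.2 ⟨h1, mem_centralizer_singleton_iff.2 h2⟩)
    · rw [Set.mem_singleton_iff] at h1
      rw [h1]; exact hd
  · intro h1
    have h2 : v ∈ o2 Y := h1 hv
    have h3 : d * v⁻¹ * d⁻¹ ∈ o2 Y :=
      (mem_normalizer_iff.1 (le_normalizer_o2 Y hdY) v⁻¹).1 (inv_mem h2)
    have h4 : d⁻¹ * d⁻¹ ∈ o2 Y := by
      have e : d⁻¹ * d⁻¹ = v * (d * v⁻¹ * d⁻¹) := by
        nth_rewrite 1 [← hvd]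
        group
      rw [e]; exact mul_mem h2 h3
    have h5 : d ^ 2 ∈ o2 Y := by
      have := inv_mem h4
      rwa [mul_inv_rev, inv_inv, ← pow_two] at this
    obtain ⟨k, hk⟩ := (IsPGroup.iff_orderOf.1 (o2_isPGroup Y)) ⟨d ^ 2, h5⟩
    have hk' : orderOf (d ^ 2) = 2 ^ k := by
      rw [← hk, ← orderOf_submonoid]
    have h6 : orderOf (d ^ 2) = orderOf d := by
      have h7 : Nat.Coprime (orderOf d) 2 := Nat.coprime_two_right.2 hodd
      exact h7.orderOf_pow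
    rw [h6] at hk'
    rcases Nat.eq_zero_or_pos k with h7 | h7
    · subst h7
      rw [pow_zero, orderOf_eq_one_iff] at hk'
      exact hd1 hk'
    · rw [hk'] at hodd
      have : Even (2 ^ k) := (Nat.even_pow.2 ⟨even_two, by omega⟩)
      exact (Nat.not_odd_iff_even.2 this) hodd

/-- **The frame (0)**: the configuration `Pt` at the point `z`. -/
theorem exists_pt [Finite G] (S : Sylow 2 G) {P V : Subgroup G} {z : G}
    (hSP : (S : Subgroup G) ≤ P) (hPV : P ≤ normalizer (V : Set G)) (hVS : V ≤ (S : Subgroup G))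
    (Vab : ∀ v ∈ V, ∀ w ∈ V, v * w = w * v) (Vsq : ∀ v ∈ V, v * v = 1) (cardV : Nat.card V = 16)
    (hz1 : z ≠ 1) (hzV : z ∈ V) (hzS : ∀ s ∈ (S : Subgroup G), s * z = z * s)
    (hZ : ∀ x ∈ (S : Subgroup G), (∀ s ∈ (S : Subgroup G), x * s = s * x) → x * x = 1 →
      x = 1 ∨ x = z)
    (char2 : ∀ c, c * z = z * c → (∀ x ∈ o2 (centralizer ({z} : Set G)), c * x = x * c) →
      c ∈ o2 (centralizer ({z} : Set G)))
    (nT : P ≤ normalizer (((S : Subgroup G) ⊓ centralizer (V : Set G) : Subgroup G) : Set G))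
    (card8 : Nat.card ↥(V ⊓ o2 (centralizer ({z} : Set G))) = 8)
    (hf : Facts P V (V ⊓ o2 (centralizer ({z} : Set G))) z) :
    ∃ C QF Qs : Subgroup G, Pt P V ((S : Subgroup G) ⊓ centralizer (V : Set G)) z C (o2 C) QF Qs ∧
      C ≤ centralizer ({z} : Set G) ∧ (S : Subgroup G) ≤ C ∧ o2 C ≤ (S : Subgroup G) ∧
      o2 (centralizer ({z} : Set G)) ≤ o2 C ∧ Qs ≤ o2 (centralizer ({z} : Set G)) ∧
      V ⊓ o2 C = V ⊓ o2 (centralizer ({z} : Set G)) := by
  obtain ⟨C, QF, Qs, h1, h2, h3, h4, h5, h6, h7, -⟩ :=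
    exists_pt_min S hSP hPV hVS Vab Vsq cardV hz1 hzV hzS hZ char2 nT card8 hf
  exact ⟨C, QF, Qs, h1, h2, h3, h4, h5, h6, h7⟩

/-- **The frame (0)** with `hgen`. -/
theorem exists_pt_gen [Finite G] (S : Sylow 2 G) {P V : Subgroup G} {z : G}
    (hSP : (S : Subgroup G) ≤ P) (hPV : P ≤ normalizer (V : Set G)) (hVS : V ≤ (S : Subgroup G))
    (Vab : ∀ v ∈ V, ∀ w ∈ V, v * w = w * v) (Vsq : ∀ v ∈ V, v * v = 1) (cardV : Nat.card V = 16)
    (hz1 : z ≠ 1) (hzV : z ∈ V) (hzS : ∀ s ∈ (S : Subgroup G), s * z = z * s)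
    (hZ : ∀ x ∈ (S : Subgroup G), (∀ s ∈ (S : Subgroup G), x * s = s * x) → x * x = 1 →
      x = 1 ∨ x = z)
    (char2 : ∀ c, c * z = z * c → (∀ x ∈ o2 (centralizer ({z} : Set G)), c * x = x * c) →
      c ∈ o2 (centralizer ({z} : Set G)))
    (nT : P ≤ normalizer (((S : Subgroup G) ⊓ centralizer (V : Set G) : Subgroup G) : Set G))
    (card8 : Nat.card ↥(V ⊓ o2 (centralizer ({z} : Set G))) = 8)
    (hf : Facts P V (V ⊓ o2 (centralizer ({z} : Set G))) z) :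
    ∃ C QF Qs : Subgroup G, Pt P V ((S : Subgroup G) ⊓ centralizer (V : Set G)) z C (o2 C) QF Qs ∧
      C ≤ centralizer ({z} : Set G) ∧ (S : Subgroup G) ≤ C ∧ o2 C ≤ (S : Subgroup G) ∧
      o2 (centralizer ({z} : Set G)) ≤ o2 C ∧ Qs ≤ o2 (centralizer ({z} : Set G)) ∧
      V ⊓ o2 C = V ⊓ o2 (centralizer ({z} : Set G)) ∧
      ∀ v ∈ V, ∀ d ∈ C, d ≠ 1 → Odd (orderOf d) → v * d * v⁻¹ = d⁻¹ →
        C ≤ closure ({m | m ∈ P ∧ m * z = z * m} ∪ {d}) := by
  obtain ⟨C, QF, Qs, h1, h2, h3, h4, h5, h6, h7, h8⟩ :=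
    exists_pt_min S hSP hPV hVS Vab Vsq cardV hz1 hzV hzS hZ char2 nT card8 hf
  exact ⟨C, QF, Qs, h1, h2, h3, h4, h5, h6, h7, gen_of_min h8 fun m hm =>
    h1.PC m (mem_inf.1 hm).1 (mem_centralizer_singleton_iff.1 (mem_inf.1 hm).2)⟩

end Cfsg.Agent.Omega.NOne.AG

end

section


/-!
# THEOREM D0ag (bb #15001): the frame (0) from `NO1.Cfg` (helper537)

`exists_base`: `Cfg S P`, `Z = ⟨z⟩`, `|V| = 16`, `|V/E| = 2`, `Facts`, `hstab`, `hind` give `Base` at the point `z`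
(and `hgen`, the minimality of `C`).
-/

set_option autoImplicit false

namespace Cfsg.Agent.Omega.NOne.AG

open Subgroup Cfsg Cfsg.Agent.ZN Cfsg.Agent.Omega.MinPar Cfsg.Agent.Omega.Frame
open Cfsg.Agent.Omega.NoFF.LinesPlug (CC)
open Cfsg.Agent.Omega.NO1 (Cfg EE)

universe u

variable {G : Type u} [Group G]

/-- **The frame in `Cfg`.** -/
theorem exists_base [Finite G] {S : Sylow 2 G} {P : Subgroup G} (h : Cfg S P) {z : G}
    (hz : zc (S : Subgroup G) = zpowers z) (hz1 : z ≠ 1)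
    (hV : Nat.card (zl (S : Subgroup G) P) = 16)
    (hE : (EE (S : Subgroup G) P).relIndex (zl (S : Subgroup G) P) = 2)
    (hf : Facts P (zl (S : Subgroup G) P)
      (zl (S : Subgroup G) P ⊓ o2 (centralizer ({z} : Set G))) z)
    (hstab : ∀ m ∈ P, m * z = z * m →
      ∃ s ∈ (S : Subgroup G), ∃ c ∈ P, (∀ v ∈ zl (S : Subgroup G) P, c * v = v * c) ∧ m = s * c)
    (hind : ((S : Subgroup G) ⊓ centralizer (zl (S : Subgroup G) P : Set G)).relIndex
      (S : Subgroup G) = 8) :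
    ∃ (C QF Qs : Subgroup G) (hp : Pt P (zl (S : Subgroup G) P)
        ((S : Subgroup G) ⊓ centralizer (zl (S : Subgroup G) P : Set G)) z C (o2 C) QF Qs),
      (∀ v ∈ zl (S : Subgroup G) P, ∀ d ∈ C, d ≠ 1 → Odd (orderOf d) → v * d * v⁻¹ = d⁻¹ →
        C ≤ closure ({m | m ∈ P ∧ m * z = z * m} ∪ {d})) ∧
      Base S P (zl (S : Subgroup G) P)
        ((S : Subgroup G) ⊓ centralizer (zl (S : Subgroup G) P : Set G))
        (fun i : Pts P z => i.val) hp.opp (tr P z C) (tr P z (o2 C)) (tr P z QF) (tr P z Qs)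
        (Pts.base P z) := by
  have hCC : CC (S : Subgroup G) = centralizer ({z} : Set G) := NO1.CC_eq_of_zpowers hz
  have hzZ : z ∈ zc (S : Subgroup G) := by rw [hz]; exact mem_zpowers z
  have hzS := (mem_zc.1 hzZ).2.1
  have hzz : z * z = 1 := by
    have := (mem_zc.1 hzZ).2.2
    rwa [pow_two] at this
  have hzV := h.Z_le_V hzZ
  have Vsq : ∀ v ∈ zl (S : Subgroup G) P, v * v = 1 := fun v hv => by
    have := h.V_sq v hv
    rwa [pow_two] at this
  have hZ : ∀ x ∈ (S : Subgroup G), (∀ s ∈ (S : Subgroup G), x * s = s * x) → x * x = 1 →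
      x = 1 ∨ x = z := by
    intro x hx hxs hxx
    have h1 : x ∈ zc (S : Subgroup G) :=
      mem_zc.2 ⟨hx, fun s hs => (hxs s hs).symm, by rw [pow_two]; exact hxx⟩
    rw [hz, mem_zpowers_iff] at h1
    obtain ⟨k, rfl⟩ := h1
    have h2 : z ^ (2 : ℤ) = 1 := by rw [zpow_two]; exact hzz
    rcases Int.even_or_odd' k with ⟨m, rfl | rfl⟩
    · left
      rw [zpow_mul, h2, one_zpow]
    · right
      rw [zpow_add, zpow_mul, h2, one_zpow, one_mul, zpow_one]
  have hchar : ∀ c, c * z = z * c → (∀ x ∈ o2 (centralizer ({z} : Set G)), c * x = x * c) →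
      c ∈ o2 (centralizer ({z} : Set G)) := by
    intro c hc hx
    have h1 := h.char2C
    rw [hCC] at h1
    exact h1 (mem_inf.2 ⟨mem_centralizer_singleton_iff.2 hc,
      mem_centralizer_iff.2 fun x hxo => (hx x hxo).symm⟩)
  have nT : P ≤ normalizer (((S : Subgroup G) ⊓
      centralizer (zl (S : Subgroup G) P : Set G) : Subgroup G) : Set G) := by
    rw [h.S_inf_centralizer]
    exact le_normalizer_o2 P
  have h8 : Nat.card ↥(zl (S : Subgroup G) P ⊓ o2 (centralizer ({z} : Set G))) = 8 := by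
    have h1 := relIndex_mul_relIndex ⊥ (EE (S : Subgroup G) P) (zl (S : Subgroup G) P) bot_le
      inf_le_left
    simp only [relIndex_bot_left] at h1
    rw [hE, hV] at h1
    have h2 : Nat.card (EE (S : Subgroup G) P) = 8 := by omega
    rwa [EE, hCC] at h2
  obtain ⟨C, QF, Qs, hp, -, h3, -, -, -, -, h7⟩ := exists_pt_gen S h.S_le (Cfg.P_norm_V S P) h.V_le_S
    (fun v hv w hw => mem_centralizer_iff.1 (h.V_comm hw) v hv) Vsq hV hz1 hzV
    (fun s hs => hzS s hs) hZ hchar nT h8 hf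
  exact ⟨C, QF, Qs, hp, h7, Base.of h hz rfl hp h3 hE hstab hind⟩

end Cfsg.Agent.Omega.NOne.AG

end

end
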