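import Cfsg.Agent.Mrg.Omega.NOne.DZero
import Cfsg.Agent.Mrg.Omega.NOne.AG.Tools
import Cfsg.Agent.Mrg.Omega.SQ1.Choice
import Cfsg.Agent.Mrg.Omega.NO1.Types
import Cfsg.Agent.Mrg.Omega.NOne.AG.Sympl

-- merged: Cfsg.Agent.Mrg.Omega.NOne.DPlusPts
section

section


/-!
# NO-1, THEOREM D0+ (#12107, #12381): the instance (helper537)

`G` of characteristic 2 type, `S` a Sylow 2-subgroup with `Ω₁ Z(S) = ⟨z (0, 0)⟩`, `S ≤ M ≤ N(V)`,
`V = N₁ ⊗ N₂` of order 16 with the nine singular vectors `z (a, b) = a ⊗ b` permuted by `M`, `M`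
inducing at least `S₃ × S₃` (`V = O₄⁺(2)`-module).  If `V ≰ O₂(C(z (0, 0)))` and `O₂(C(z (0, 0)))`
induces exactly `U U' = ⟨t_a⟩ × ⟨t_b⟩` on `V`, then `O₂(C(z (0, 0)))` is extraspecial:
`Large (o2 (centralizer {z (0, 0)})) (z (0, 0))`.

The preamble is helper746's shortcut (S1) of #13123: `V` would stabilise `Q > Q* > Z(Q*) > 1`.
-/

set_option autoImplicit false

namespace Cfsg.Agent.Omega.NOne.DPlusPts

open Subgroup Cfsg Cfsg.Agent.ZN
open Cfsg.Agent.MinSimple.VModule (o2_isPGroup)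
open Cfsg.Agent.Omega.NOne.QuadPts (conj_comm comm_conj)
open Cfsg.Agent.Omega.NOne.DZeroPts (CC QQ mem_CC CC_eq QQ_conj conj_mem_iff mem_CC_conj mem_QQ_conj
  QQ_le QQ_norm z_mem_QQ)
open Cfsg.Agent.Omega.NOne.DPlus
open scoped Pointwise

universe u

variable {G : Type u} [Group G]

theorem inv_comm {c x : G} (hc : c * x = x * c) : c⁻¹ * x = x * c⁻¹ := by
  rw [inv_mul_eq_iff_eq_mul, ← mul_assoc, hc, mul_assoc, mul_inv_cancel, mul_one]

/-- The stabiliser of a chain `O₂(C(x)) ≥ R ≥ Z ≥ 1` lies in `O₂(C(x))`. -/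
theorem chain3 [Finite G] {x : G} {R Z : Subgroup G}
    (char2 : ∀ g, g * x = x * g → (∀ y ∈ QQ x, g * y = y * g) → g ∈ QQ x)
    (hR : R ≤ QQ x) (hZR : Z ≤ R)
    (nR : ∀ c, c * x = x * c → ∀ y ∈ R, c * y * c⁻¹ ∈ R)
    (nZ : ∀ c, c * x = x * c → ∀ y ∈ Z, c * y * c⁻¹ ∈ Z)
    {v : G} (hv : v * x = x * v) (h1 : ∀ q ∈ QQ x, v * q * v⁻¹ * q⁻¹ ∈ R)
    (h2 : ∀ u ∈ R, v * u * v⁻¹ * u⁻¹ ∈ Z) (h3 : ∀ w ∈ Z, v * w = w * v) : v ∈ QQ x := by
  let B : Subgroup G :=
    { carrier := {g | g ∈ CC x ∧ (∀ q ∈ QQ x, g * q * g⁻¹ * q⁻¹ ∈ R) ∧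
        (∀ u ∈ R, g * u * g⁻¹ * u⁻¹ ∈ Z) ∧ ∀ w ∈ Z, g * w = w * g}
      one_mem' := ⟨one_mem _, fun u _ => by simp, fun q _ => by simp, fun w _ => by simp⟩
      mul_mem' := by
        rintro a b ⟨ha0, ha1, ha2, ha3⟩ ⟨hb0, hb1, hb2, hb3⟩
        refine ⟨mul_mem ha0 hb0, fun q hq => ?_, fun u hu => ?_, fun w hw => ?_⟩
        · have e : a * b * q * (a * b)⁻¹ * q⁻¹ =
              (a * (b * q * b⁻¹ * q⁻¹) * a⁻¹) * (a * q * a⁻¹ * q⁻¹) := by group
          rw [e]
          exact mul_mem (nR a (mem_CC.1 ha0) _ (hb1 q hq)) (ha1 q hq)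
        · have e : a * b * u * (a * b)⁻¹ * u⁻¹ =
              (a * (b * u * b⁻¹ * u⁻¹) * a⁻¹) * (a * u * a⁻¹ * u⁻¹) := by group
          rw [e]
          exact mul_mem (nZ a (mem_CC.1 ha0) _ (hb2 u hu)) (ha2 u hu)
        · calc a * b * w = a * (b * w) := by group
            _ = (a * w) * b := by rw [hb3 w hw]; group
            _ = w * (a * b) := by rw [ha3 w hw]; group
      inv_mem' := by
        rintro a ⟨ha0, ha1, ha2, ha3⟩
        have hai := inv_comm (mem_CC.1 ha0)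
        refine ⟨inv_mem ha0, fun q hq => ?_, fun u hu => ?_, fun w hw => inv_comm (ha3 w hw)⟩
        · have e : a⁻¹ * q * a⁻¹⁻¹ * q⁻¹ = a⁻¹ * (a * q * a⁻¹ * q⁻¹)⁻¹ * a⁻¹⁻¹ := by group
          rw [e]
          exact nR _ hai _ (inv_mem (ha1 q hq))
        · have e : a⁻¹ * u * a⁻¹⁻¹ * u⁻¹ = a⁻¹ * (a * u * a⁻¹ * u⁻¹)⁻¹ * a⁻¹⁻¹ := by group
          rw [e]
          exact nZ _ hai _ (inv_mem (ha2 u hu)) }
  have pR : IsPGroup 2 R := (o2_isPGroup (CC x)).to_le hR
  have pZ : IsPGroup 2 Z := pR.to_le hZR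
  have hB : B ≤ QQ x := by
    refine le_o2 (fun g hg => hg.1) ?_ ?_
    · rintro ⟨g, hg⟩
      obtain ⟨hg0, hg1, hg2, hg3⟩ := hg
      obtain ⟨k, hk⟩ := LemmaT.exists_pow_comm pZ hg3 hg2
      have hgB : g ^ 2 ^ k ∈ B := pow_mem (show g ∈ B from ⟨hg0, hg1, hg2, hg3⟩) _
      obtain ⟨l, hl⟩ := LemmaT.exists_pow_comm pR hk hgB.2.1
      have h5 : (g ^ 2 ^ k) ^ 2 ^ l ∈ QQ x :=
        char2 _ (mem_CC.1 (pow_mem hgB.1 _)) hl
      obtain ⟨n, hn⟩ := LemmaT.exists_pow_eq_one (o2_isPGroup (CC x))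
      refine ⟨k + l + n, Subtype.ext ?_⟩
      change g ^ 2 ^ (k + l + n) = 1
      rw [pow_add, pow_add, pow_mul, pow_mul]
      exact hn _ h5
    · have key : ∀ c ∈ CC x, ∀ g ∈ B, c * g * c⁻¹ ∈ B := by
        rintro c hc g ⟨hg0, hg1, hg2, hg3⟩
        have hc' := mem_CC.1 hc
        have hci := inv_comm hc'
        refine ⟨mul_mem (mul_mem hc hg0) (inv_mem hc), fun q hq => ?_, fun u hu => ?_,
          fun w hw => ?_⟩
        · have h6 := nR c hc' _ (hg1 _ (QQ_norm hci hq))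
          have e : c * g * c⁻¹ * q * (c * g * c⁻¹)⁻¹ * q⁻¹ =
              c * (g * (c⁻¹ * q * c⁻¹⁻¹) * g⁻¹ * (c⁻¹ * q * c⁻¹⁻¹)⁻¹) * c⁻¹ := by group
          rw [e]; exact h6
        · have h6 := nZ c hc' _ (hg2 _ (nR _ hci u hu))
          have e : c * g * c⁻¹ * u * (c * g * c⁻¹)⁻¹ * u⁻¹ =
              c * (g * (c⁻¹ * u * c⁻¹⁻¹) * g⁻¹ * (c⁻¹ * u * c⁻¹⁻¹)⁻¹) * c⁻¹ := by group
          rw [e]; exact h6
        · have h6 := hg3 _ (nZ _ hci w hw)
          calc c * g * c⁻¹ * w = c * (g * (c⁻¹ * w * c⁻¹⁻¹)) * c⁻¹ := by group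
            _ = c * ((c⁻¹ * w * c⁻¹⁻¹) * g) * c⁻¹ := by rw [h6]
            _ = w * (c * g * c⁻¹) := by group
      intro c hc
      rw [mem_normalizer_iff]
      intro g
      refine ⟨key c hc g, fun hg => ?_⟩
      have h6 := key c⁻¹ (inv_mem hc) _ hg
      have e : c⁻¹ * (c * g * c⁻¹) * c⁻¹⁻¹ = g := by group
      rwa [e] at h6
  exact hB ⟨mem_CC.2 hv, h1, h2, h3⟩

/-- `m` acts on the grid as `(x, y) ↦ (f x, g y)`. -/
def Act (z : Fin 3 × Fin 3 → G) (m : G) (f g : Fin 3 → Fin 3) : Prop :=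
  ∀ x y, m * z (x, y) * m⁻¹ = z (f x, g y)

theorem Act.mul {z : Fin 3 × Fin 3 → G} {m n : G} {f g f' g' : Fin 3 → Fin 3} (h : Act z m f g)
    (h' : Act z n f' g') : Act z (m * n) (fun x => f (f' x)) (fun y => g (g' y)) := by
  intro x y
  calc m * n * z (x, y) * (m * n)⁻¹ = m * (n * z (x, y) * n⁻¹) * m⁻¹ := by group
    _ = _ := by rw [h', h]

theorem Act.inv {z : Fin 3 × Fin 3 → G} {m : G} {σ τ : Equiv.Perm (Fin 3)} (h : Act z m σ τ) :
    Act z m⁻¹ (fun x => σ.symm x) (fun y => τ.symm y) := by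
  intro x y
  have h1 := h (σ.symm x) (τ.symm y)
  rw [σ.apply_symm_apply, τ.apply_symm_apply] at h1
  rw [← h1]; group

theorem perm_t : ∀ σ : Equiv.Perm (Fin 3), ∀ a x, σ (t a (σ.symm x)) = t (σ a) x := by decide

theorem ex_perm : ∀ a b : Fin 3, ∃ σ : Equiv.Perm (Fin 3), σ a = b := by decide

/-- The nine singular vectors of an `O₄⁺(2)`-module with `M` inducing at least `S₃ × S₃`. -/
structure Pts (M V : Subgroup G) (z : Fin 3 × Fin 3 → G) : Prop where
  mem : ∀ i, z i ∈ V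
  gen : V ≤ closure (Set.range z)
  grid : Grid z
  perm : ∀ m ∈ M, ∀ i, ∃ j, m * z i * m⁻¹ = z j
  big : ∀ σ τ : Equiv.Perm (Fin 3), ∃ m ∈ M, Act z m σ τ

theorem Pts.eqOp {M V : Subgroup G} {z : Fin 3 × Fin 3 → G} (h : Pts M V z) {m : G} (hm : m ∈ M)
    {i j i' j' : Fin 3 × Fin 3} (hij : op i j) (hi : m * z i * m⁻¹ = z i')
    (hj : m * z j * m⁻¹ = z j') : op i' j' :=
  h.grid.eqOp (h.perm m⁻¹ (inv_mem hm)) hij hi hj

/-- `V` is abelian -/
theorem Pts.abel {M V : Subgroup G} {z : Fin 3 × Fin 3 → G} (h : Pts M V z) {v w : G} (hv : v ∈ V)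
    (hw : w ∈ V) : v * w = w * v := by
  have h1 : ∀ v ∈ closure (Set.range z), ∀ i, v * z i = z i * v := by
    intro v hv i
    induction hv using closure_induction with
    | mem x hx => obtain ⟨j, rfl⟩ := hx; exact h.grid.comm j i
    | one => simp
    | mul a b _ _ ha hb =>
      calc a * b * z i = a * (b * z i) := by group
        _ = (a * z i) * b := by rw [hb]; group
        _ = z i * (a * b) := by rw [ha]; group
    | inv a _ ha => exact inv_comm ha
  have hw' := h.gen hw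
  have hv' := h.gen hv
  clear hv hw
  induction hw' using closure_induction with
  | mem x hx => obtain ⟨j, rfl⟩ := hx; exact h1 v hv' j
  | one => simp
  | mul a b _ _ ha hb =>
    calc v * (a * b) = (v * a) * b := by group
      _ = a * (v * b) := by rw [ha]; group
      _ = a * b * v := by rw [hb]; group
  | inv a _ ha => exact (inv_comm ha.symm).symm

/-- `⟨(z i)^⊥ ^ C(z i)⟩` -/
def QS (z : Fin 3 × Fin 3 → G) (i : Fin 3 × Fin 3) : Subgroup G :=
  closure {y | ∃ c ∈ CC (z i), ∃ j, ¬ op i j ∧ y = c * z j * c⁻¹}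

theorem mem_QS {z : Fin 3 × Fin 3 → G} {i j : Fin 3 × Fin 3} (hij : ¬ op i j) : z j ∈ QS z i :=
  subset_closure ⟨1, one_mem _, j, hij, by group⟩

theorem QS_norm {z : Fin 3 × Fin 3 → G} {i : Fin 3 × Fin 3} {c x : G} (hc : c * z i = z i * c)
    (hy : x ∈ QS z i) : c * x * c⁻¹ ∈ QS z i := by
  unfold QS at hy ⊢
  induction hy using closure_induction with
  | mem y hy =>
    obtain ⟨d, hd, j, hj, rfl⟩ := hy
    exact subset_closure ⟨c * d, mul_mem (mem_CC.2 hc) hd, j, hj, by group⟩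
  | one => simp
  | mul a b _ _ ha hb =>
    have e : c * (a * b) * c⁻¹ = (c * a * c⁻¹) * (c * b * c⁻¹) := by group
    rw [e]; exact mul_mem ha hb
  | inv a _ ha =>
    have e : c * a⁻¹ * c⁻¹ = (c * a * c⁻¹)⁻¹ := by group
    rw [e]; exact inv_mem ha

theorem QS_conj {M V : Subgroup G} {z : Fin 3 × Fin 3 → G} (h : Pts M V z) {m : G} (hm : m ∈ M)
    {i i' : Fin 3 × Fin 3} (hi : m * z i * m⁻¹ = z i') {y : G} (hy : y ∈ QS z i) :
    m * y * m⁻¹ ∈ QS z i' := by
  unfold QS at hy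
  induction hy using closure_induction with
  | mem y hy =>
    obtain ⟨c, hc, j, hj, rfl⟩ := hy
    obtain ⟨j', hj'⟩ := h.perm m hm j
    have hi' : m⁻¹ * z i' * m⁻¹⁻¹ = z i := by rw [← hi]; group
    have hj'' : m⁻¹ * z j' * m⁻¹⁻¹ = z j := by rw [← hj']; group
    refine subset_closure ⟨m * c * m⁻¹, ?_, j', fun H => hj (h.eqOp (inv_mem hm) H hi' hj''), ?_⟩
    · rw [← hi]; exact mem_CC_conj.2 hc
    · rw [← hj']; group
  | one => simp
  | mul a b _ _ ha hb =>
    have e : m * (a * b) * m⁻¹ = (m * a * m⁻¹) * (m * b * m⁻¹) := by group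
    rw [e]; exact mul_mem ha hb
  | inv a _ ha =>
    have e : m * a⁻¹ * m⁻¹ = (m * a * m⁻¹)⁻¹ := by group
    rw [e]; exact inv_mem ha

/-- local data at the point `z i` -/
structure Loc (M V : Subgroup G) (z : Fin 3 × Fin 3 → G) (T : Subgroup G) (i : Fin 3 × Fin 3) :
    Prop where
  TM : T ≤ M
  pg : IsPGroup 2 T
  cz : ∀ t ∈ T, t * z i = z i * t
  QT : QQ (z i) ≤ T
  Z : ∀ x ∈ T, (∀ s ∈ T, x * s = s * x) → x * x = 1 → x = 1 ∨ x = z i
  char2 : ∀ g, g * z i = z i * g → (∀ x ∈ QQ (z i), g * x = x * g) → g ∈ QQ (z i)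
  VQ : ¬ V ≤ QQ (z i)
  act : ∀ q ∈ QQ (z i), Act z q id id ∨ Act z q id (t i.2) ∨ Act z q (t i.1) id ∨
    Act z q (t i.1) (t i.2)
  ar : ∃ q ∈ QQ (z i), Act z q id (t i.2)
  ac : ∃ q ∈ QQ (z i), Act z q (t i.1) id

/-- transport of the local data -/
theorem Loc.conj {M V : Subgroup G} {z : Fin 3 × Fin 3 → G} {T : Subgroup G} {i : Fin 3 × Fin 3}
    (h : Loc M V z T i) (hMV : M ≤ normalizer (V : Set G)) {m : G} (hm : m ∈ M)
    {σ τ : Equiv.Perm (Fin 3)} (hz : Act z m σ τ) :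
    Loc M V z (MulAut.conj m • T) (σ i.1, τ i.2) := by
  have hij : m * z i * m⁻¹ = z (σ i.1, τ i.2) := hz i.1 i.2
  have hVm : ∀ {v}, v ∈ V ↔ m * v * m⁻¹ ∈ V := fun {v} => mem_normalizer_iff.1 (hMV hm) v
  have back : ∀ y : G, ∃ x, y = m * x * m⁻¹ := fun y => ⟨m⁻¹ * y * m, by group⟩
  have hcomm : ∀ {a b : G}, m * a * m⁻¹ * (m * b * m⁻¹) = m * b * m⁻¹ * (m * a * m⁻¹) ↔
      a * b = b * a := by
    intro a b
    have e1 : m * a * m⁻¹ * (m * b * m⁻¹) = m * (a * b) * m⁻¹ := by group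
    have e2 : m * b * m⁻¹ * (m * a * m⁻¹) = m * (b * a) * m⁻¹ := by group
    rw [e1, e2]
    exact ⟨fun h => mul_left_cancel (mul_right_cancel h), fun h => by rw [h]⟩
  have hQ : QQ (z (σ i.1, τ i.2)) = MulAut.conj m • QQ (z i) := by rw [← hij, QQ_conj]
  -- transport of actions
  have hact : ∀ {q : G} {f g f' g' : Fin 3 → Fin 3}, Act z q f g →
      (∀ x, σ (f (σ.symm x)) = f' x) → (∀ y, τ (g (τ.symm y)) = g' y) →
      Act z (m * q * m⁻¹) f' g' := by
    intro q f g f' g' hq hf hg x y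
    have h1 := ((hz.mul hq).mul hz.inv) x y
    simp only [hf, hg] at h1
    exact h1
  have id1 : ∀ x, σ (id (σ.symm x)) = id x := fun x => σ.apply_symm_apply x
  have id2 : ∀ x, τ (id (τ.symm x)) = id x := fun x => τ.apply_symm_apply x
  refine ⟨?_, ?_, ?_, ?_, ?_, ?_, ?_, ?_, ?_, ?_⟩
  · intro y hy
    obtain ⟨x, rfl⟩ := back y
    exact mul_mem (mul_mem hm (h.TM (conj_mem_iff.1 hy))) (inv_mem hm)
  · exact h.pg.map _
  · intro y hy
    obtain ⟨x, rfl⟩ := back y
    rw [← hij]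
    exact hcomm.2 (h.cz x (conj_mem_iff.1 hy))
  · intro y hy
    obtain ⟨x, rfl⟩ := back y
    rw [hQ, conj_mem_iff] at hy
    exact conj_mem_iff.2 (h.QT hy)
  · intro y hy hys hy2
    obtain ⟨x, rfl⟩ := back y
    have h1 : x * x = 1 := by
      calc x * x = m⁻¹ * (m * x * m⁻¹ * (m * x * m⁻¹)) * m := by group
        _ = 1 := by rw [hy2]; group
    rcases h.Z x (conj_mem_iff.1 hy) (fun s hs => hcomm.1 (hys _ (conj_mem_iff.2 hs))) h1 with
      rfl | rfl
    · left; group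
    · right; exact hij
  · intro y hy hys
    obtain ⟨x, rfl⟩ := back y
    rw [← hij] at hy
    rw [hQ, conj_mem_iff]
    refine h.char2 x (hcomm.1 hy) fun w hw => hcomm.1 (hys _ ?_)
    rw [hQ, conj_mem_iff]; exact hw
  · intro hV
    apply h.VQ
    intro v hv
    have h1 := hV (hVm.1 hv)
    rwa [hQ, conj_mem_iff] at h1
  · intro y hy
    obtain ⟨x, rfl⟩ := back y
    rw [hQ, conj_mem_iff] at hy
    rcases h.act x hy with h1 | h1 | h1 | h1
    · exact Or.inl (hact h1 id1 id2)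
    · exact Or.inr (Or.inl (hact h1 id1 (perm_t τ i.2)))
    · exact Or.inr (Or.inr (Or.inl (hact h1 (perm_t σ i.1) id2)))
    · exact Or.inr (Or.inr (Or.inr (hact h1 (perm_t σ i.1) (perm_t τ i.2))))
  · obtain ⟨q, hq, h1⟩ := h.ar
    exact ⟨m * q * m⁻¹, by rw [hQ]; exact conj_mem_iff.2 hq, hact h1 id1 (perm_t τ i.2)⟩
  · obtain ⟨q, hq, h1⟩ := h.ac
    exact ⟨m * q * m⁻¹, by rw [hQ]; exact conj_mem_iff.2 hq, hact h1 (perm_t σ i.1) id2⟩

section Facts

variable {M V : Subgroup G} {z : Fin 3 × Fin 3 → G}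

/-- `z j z j' ∈ O₂(C(z i))` if `z j' = q z j q⁻¹`, `q ∈ O₂(C(z i))` -/
theorem comm_mem (h : Pts M V z) {i j j' : Fin 3 × Fin 3} {q : G} (hq : q ∈ QQ (z i))
    (hj : q * z j * q⁻¹ = z j') : z j * z j' ∈ QQ (z i) := by
  have h1 : z j * q * (z j)⁻¹ ∈ QQ (z i) := QQ_norm (h.grid.comm j i) hq
  have e : z j * z j' = z j * q * (z j)⁻¹ * q⁻¹ := by
    rw [← hj, h.grid.zinv]; group
  rw [e]
  exact mul_mem h1 (inv_mem hq)

/-- the points perpendicular to `z i` are in `O₂(C(z i))` -/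
theorem E_mem (h : Pts M V z) {T : Subgroup G} {i : Fin 3 × Fin 3} (hl : Loc M V z T i)
    {j : Fin 3 × Fin 3} (hij : ¬ op i j) : z j ∈ QQ (z i) := by
  obtain ⟨a, b⟩ := i
  obtain ⟨c, d⟩ := j
  obtain ⟨q, hq, hq1⟩ := hl.ar
  obtain ⟨r, hr, hr1⟩ := hl.ac
  simp only at hq1 hr1
  by_cases hac : a = c
  · subst hac
    obtain ⟨a', ha⟩ := ex_ne a
    -- `z (a, d) = z (a', d) z (t a a', d)`
    have h1 := comm_mem h hr (hr1 a' d)
    have h2 : z (a', d) * z (t a a', d) = z (a, d) := by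
      rw [h.grid.col d a' (t a a') (Ne.symm (t_ne a a' ha)), t_symm a a', t_t]
    rw [id, h2] at h1
    exact h1
  · by_cases hbd : b = d
    · subst hbd
      obtain ⟨b', hb⟩ := ex_ne b
      have h1 := comm_mem h hq (hq1 c b')
      have h2 : z (c, b') * z (c, t b b') = z (c, b) := by
        rw [h.grid.row c b' (t b b') (Ne.symm (t_ne b b' hb)), t_symm b b', t_t]
      rw [id, h2] at h1
      exact h1
    · exact absurd ⟨hac, hbd⟩ hij

theorem QS_le (h : Pts M V z) {T : Subgroup G} {i : Fin 3 × Fin 3} (hl : Loc M V z T i) :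
    QS z i ≤ QQ (z i) := by
  unfold QS
  rw [closure_le]
  rintro y ⟨c, hc, j, hj, rfl⟩
  exact QQ_norm (mem_CC.1 hc) (E_mem h hl hj)

/-- `[O₂(C(z i)), z j] ≤ ⟨z i⟩` for `z j ⊥ z i` -/
theorem comm_E (h : Pts M V z) {T : Subgroup G} {i : Fin 3 × Fin 3} (hl : Loc M V z T i) {q : G}
    (hq : q ∈ QQ (z i)) {j : Fin 3 × Fin 3} (hij : ¬ op i j) :
    q * z j * q⁻¹ = z j ∨ q * z j * q⁻¹ = z i * z j := by
  obtain ⟨a, b⟩ := i
  obtain ⟨c, d⟩ := j
  have hr : ∀ y, z (a, t b y) = z (a, y) ∨ z (a, t b y) = z (a, b) * z (a, y) := by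
    intro y
    by_cases hy : b = y
    · subst hy; left; rw [t_self]
    · right; rw [h.grid.row a b y hy]
  have hc : ∀ x, z (t a x, b) = z (x, b) ∨ z (t a x, b) = z (a, b) * z (x, b) := by
    intro x
    by_cases hx : a = x
    · subst hx; left; rw [t_self]
    · right; rw [h.grid.col b a x hx]
  by_cases hac : a = c
  · subst hac
    rcases hl.act q hq with h1 | h1 | h1 | h1
    · left; exact h1 a d
    · rw [h1 a d]; exact hr d
    · left; rw [h1 a d]; simp only [id, t_self]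
    · rw [h1 a d]; simp only [t_self]; exact hr d
  · by_cases hbd : b = d
    · subst hbd
      rcases hl.act q hq with h1 | h1 | h1 | h1
      · left; exact h1 c b
      · left; rw [h1 c b]; simp only [id, t_self]
      · rw [h1 c b]; exact hc c
      · rw [h1 c b]; simp only [t_self]; exact hc c
    · exact absurd ⟨hac, hbd⟩ hij

/-- `[QS, O₂(C(z i))] ≤ ⟨z i⟩` -/
theorem comm_QS (h : Pts M V z) {T : Subgroup G} {i : Fin 3 × Fin 3} (hl : Loc M V z T i) {x : G}
    (hx : x ∈ QS z i) : ∀ y ∈ QQ (z i), x * y * x⁻¹ = y ∨ x * y * x⁻¹ = z i * y := by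
  have hzz := h.grid.sq i
  have hQz : ∀ y ∈ QQ (z i), y * z i = z i * y := fun y hy => hl.cz y (hl.QT hy)
  unfold QS at hx
  induction hx using closure_induction with
  | mem x hx =>
    obtain ⟨c, hc, j, hj, rfl⟩ := hx
    intro y hy
    have hc' := mem_CC.1 hc
    have hci := inv_comm hc'
    have hy' := QQ_norm hci hy
    have h1 := comm_E h hl hy' hj
    have h2 : z j * (c⁻¹ * y * c⁻¹⁻¹) * (z j)⁻¹ = c⁻¹ * y * c⁻¹⁻¹ ∨
        z j * (c⁻¹ * y * c⁻¹⁻¹) * (z j)⁻¹ = z i * (c⁻¹ * y * c⁻¹⁻¹) := by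
      rcases h1 with h1 | h1
      · left; exact comm_conj (conj_comm h1).symm
      · right
        have h3 : (c⁻¹ * y * c⁻¹⁻¹) * z j = z i * z j * (c⁻¹ * y * c⁻¹⁻¹) := by
          rw [← h1]; group
        have h4 : z j * (c⁻¹ * y * c⁻¹⁻¹) = z i * ((c⁻¹ * y * c⁻¹⁻¹) * z j) := by
          rw [h3]
          calc z j * (c⁻¹ * y * c⁻¹⁻¹) = 1 * (z j * (c⁻¹ * y * c⁻¹⁻¹)) := by rw [one_mul]
            _ = z i * z i * (z j * (c⁻¹ * y * c⁻¹⁻¹)) := by rw [hzz]
            _ = z i * (z i * z j * (c⁻¹ * y * c⁻¹⁻¹)) := by group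
        rw [h4]; group
    have e1 : c * z j * c⁻¹ * y * (c * z j * c⁻¹)⁻¹ =
        c * (z j * (c⁻¹ * y * c⁻¹⁻¹) * (z j)⁻¹) * c⁻¹ := by
      group
    rw [e1]
    rcases h2 with h2 | h2
    · left; rw [h2]; group
    · right
      rw [h2]
      calc c * (z i * (c⁻¹ * y * c⁻¹⁻¹)) * c⁻¹ = (c * z i) * (c⁻¹ * y) := by group
        _ = z i * y := by rw [hc']; group
  | one => intro y _; left; group
  | mul a b ha0 hb0 ha hb =>
    intro y hy
    have ha1 : a ∈ QQ (z i) := QS_le h hl ha0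
    have e : a * b * y * (a * b)⁻¹ = a * (b * y * b⁻¹) * a⁻¹ := by group
    rw [e]
    rcases hb y hy with h1 | h1
    · rw [h1]; exact ha y hy
    · rw [h1]
      have e2 : a * (z i * y) * a⁻¹ = z i * (a * y * a⁻¹) := by
        calc a * (z i * y) * a⁻¹ = (a * z i) * y * a⁻¹ := by group
          _ = z i * (a * y * a⁻¹) := by rw [hQz a ha1]; group
      rw [e2]
      rcases ha y hy with h2 | h2
      · right; rw [h2]
      · left; rw [h2, ← mul_assoc, hzz, one_mul]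
  | inv a ha0 ha =>
    intro y hy
    have ha1 : a ∈ QQ (z i) := QS_le h hl ha0
    rcases ha y hy with h1 | h1
    · left
      calc a⁻¹ * y * a⁻¹⁻¹ = a⁻¹ * (a * y * a⁻¹) * a := by rw [h1]; group
        _ = y := by group
    · right
      have h2 : a * (z i * y) * a⁻¹ = y := by
        calc a * (z i * y) * a⁻¹ = (a * z i) * y * a⁻¹ := by group
          _ = z i * (a * y * a⁻¹) := by rw [hQz a ha1]; group
          _ = y := by rw [h1, ← mul_assoc, hzz, one_mul]
      calc a⁻¹ * y * a⁻¹⁻¹ = a⁻¹ * (a * (z i * y) * a⁻¹) * a := by rw [h2]; group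
        _ = z i * y := by group

/-- `[O₂(C(z i)), z k] ≤ (z i)^⊥` -/
theorem comm_pt (h : Pts M V z) {T : Subgroup G} {i : Fin 3 × Fin 3} (hl : Loc M V z T i) {q : G}
    (hq : q ∈ QQ (z i)) (k : Fin 3 × Fin 3) : z k * q * (z k)⁻¹ * q⁻¹ ∈ QS z i := by
  obtain ⟨a, b⟩ := i
  obtain ⟨c, d⟩ := k
  have e : z (c, d) * q * (z (c, d))⁻¹ * q⁻¹ = z (c, d) * (q * z (c, d) * q⁻¹) := by
    rw [h.grid.zinv]; group
  rw [e]
  have hr : ∀ x y, z (x, y) * z (x, t b y) ∈ QS z (a, b) := by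
    intro x y
    by_cases hy : b = y
    · subst hy; rw [t_self, h.grid.sq]; exact one_mem _
    · have : z (x, y) * z (x, t b y) = z (x, b) := by
        rw [h.grid.row x y (t b y) (Ne.symm (t_ne b y hy)), t_symm b y, t_t]
      rw [this]
      exact mem_QS fun H => H.2 rfl
  have hc : ∀ x y, z (x, y) * z (t a x, y) ∈ QS z (a, b) := by
    intro x y
    by_cases hx : a = x
    · subst hx; rw [t_self, h.grid.sq]; exact one_mem _
    · have : z (x, y) * z (t a x, y) = z (a, y) := by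
        rw [h.grid.col y x (t a x) (Ne.symm (t_ne a x hx)), t_symm a x, t_t]
      rw [this]
      exact mem_QS fun H => H.1 rfl
  rcases hl.act q hq with h1 | h1 | h1 | h1
  · rw [h1 c d]; simp only [id, h.grid.sq]; exact one_mem _
  · rw [h1 c d]; exact hr c d
  · rw [h1 c d]; exact hc c d
  · rw [h1 c d]
    have e2 : z (c, d) * z (t a c, t b d) =
        (z (c, d) * z (c, t b d)) * (z (c, t b d) * z (t a c, t b d)) := by
      calc z (c, d) * z (t a c, t b d) =
          z (c, d) * 1 * z (t a c, t b d) := by group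
        _ = z (c, d) * (z (c, t b d) * z (c, t b d)) * z (t a c, t b d) := by rw [h.grid.sq]
        _ = _ := by group
    simp only
    rw [e2]
    exact mul_mem (hr c d) (hc c (t b d))

/-- `QS` induces all of `U U'`. -/
theorem exists_types [Finite G] (h : Pts M V z) {T : Subgroup G} {i : Fin 3 × Fin 3}
    (hl : Loc M V z T i) : (∃ u ∈ QS z i, Act z u id (t i.2)) ∧ ∃ u ∈ QS z i, Act z u (t i.1) id := by
  by_contra hcon
  apply hl.VQ
  have hQS := QS_le h hl
  -- types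
  have t1 : ∀ u ∈ QS z i, ∀ v ∈ QS z i, Act z u id (t i.2) → ¬ Act z v (t i.1) id :=
    fun u hu v hv h1 h2 => hcon ⟨⟨u, hu, h1⟩, ⟨v, hv, h2⟩⟩
  have t2 : ∀ u ∈ QS z i, ∀ v ∈ QS z i, Act z u id (t i.2) → ¬ Act z v (t i.1) (t i.2) := by
    intro u hu v hv h1 h2
    refine hcon ⟨⟨u, hu, h1⟩, ⟨u * v, mul_mem hu hv, ?_⟩⟩
    intro x y
    have h3 := (h1.mul h2) x y
    simpa [t_t] using h3
  have t3 : ∀ u ∈ QS z i, ∀ v ∈ QS z i, Act z u (t i.1) id → ¬ Act z v (t i.1) (t i.2) := by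
    intro u hu v hv h1 h2
    refine hcon ⟨⟨u * v, mul_mem hu hv, ?_⟩, ⟨u, hu, h1⟩⟩
    intro x y
    have h3 := (h1.mul h2) x y
    simpa [t_t] using h3
  -- the commutators `[z k, u]` are centralised by `QS`
  have hcz : ∀ u ∈ QS z i, ∀ v ∈ QS z i, ∀ x y,
      v * (z (x, y) * (u * z (x, y) * u⁻¹)) = z (x, y) * (u * z (x, y) * u⁻¹) * v := by
    intro u hu v hv x y
    -- if `v` has the same type as `u`
    have same : ∀ f g : Fin 3 → Fin 3, (∀ x, f (f x) = x) → (∀ x, g (g x) = x) → Act z u f g →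
        Act z v f g → v * (z (x, y) * (u * z (x, y) * u⁻¹)) =
          z (x, y) * (u * z (x, y) * u⁻¹) * v := by
      intro f g hf hg h1 h2
      apply conj_comm
      rw [h1 x y]
      calc v * (z (x, y) * z (f x, g y)) * v⁻¹ =
          (v * z (x, y) * v⁻¹) * (v * z (f x, g y) * v⁻¹) := by group
        _ = z (f x, g y) * z (x, y) := by rw [h2, h2, hf, hg]
        _ = z (x, y) * z (f x, g y) := h.grid.comm _ _
    have triv : Act z v id id → v * (z (x, y) * (u * z (x, y) * u⁻¹)) =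
        z (x, y) * (u * z (x, y) * u⁻¹) * v := by
      intro h2
      obtain ⟨k, hk⟩ := h.perm u (hl.TM (hl.QT (hQS hu))) (x, y)
      apply conj_comm
      rw [hk]
      calc v * (z (x, y) * z k) * v⁻¹ = (v * z (x, y) * v⁻¹) * (v * z k * v⁻¹) := by group
        _ = z (x, y) * z k := by rw [h2 x y, h2 k.1 k.2]; rfl
    have triv' : Act z u id id → v * (z (x, y) * (u * z (x, y) * u⁻¹)) =
        z (x, y) * (u * z (x, y) * u⁻¹) * v := by
      intro h1
      rw [h1 x y]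
      simp only [id, h.grid.sq, mul_one, one_mul]
    rcases hl.act u (hQS hu) with h1 | h1 | h1 | h1
    · exact triv' h1
    all_goals
      rcases hl.act v (hQS hv) with h2 | h2 | h2 | h2
      · exact triv h2
      all_goals
        first
        | exact same _ _ (fun _ => rfl) (t_t _) h1 h2
        | exact same _ _ (t_t _) (fun _ => rfl) h1 h2
        | exact same _ _ (t_t _) (t_t _) h1 h2
        | exact absurd h2 (t1 u hu v hv h1)
        | exact absurd h1 (t1 v hv u hu h2)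
        | exact absurd h2 (t2 u hu v hv h1)
        | exact absurd h1 (t2 v hv u hu h2)
        | exact absurd h2 (t3 u hu v hv h1)
        | exact absurd h1 (t3 v hv u hu h2)
  -- the elements of `Z(QS)` centralise all points
  have hZ : ∀ w ∈ QS z i ⊓ centralizer (QS z i : Set G), ∀ k, w * z k = z k * w := by
    intro w hw k
    obtain ⟨hw1, hw2⟩ := mem_inf.1 hw
    rw [mem_centralizer_iff] at hw2
    obtain ⟨a, b⟩ := i
    obtain ⟨a', ha⟩ := ex_ne a
    obtain ⟨b', hb⟩ := ex_ne b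
    have e1 := hw2 _ (mem_QS (z := z) (i := (a, b)) (j := (a, b')) fun H => H.1 rfl)
    have e2 := hw2 _ (mem_QS (z := z) (i := (a, b)) (j := (a', b)) fun H => H.2 rfl)
    have f1 : w * z (a, b') * w⁻¹ = z (a, b') := comm_conj e1.symm
    have f2 : w * z (a', b) * w⁻¹ = z (a', b) := comm_conj e2.symm
    rcases hl.act w (hQS hw1) with h1 | h1 | h1 | h1
    · have h3 := h1 k.1 k.2
      exact conj_comm h3
    · exfalso
      rw [h1 a b'] at f1
      exact t_ne b b' hb (congrArg Prod.snd (h.grid.inj f1))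
    · exfalso
      rw [h1 a' b] at f2
      exact t_ne a a' ha (congrArg Prod.fst (h.grid.inj f2))
    · exfalso
      rw [h1 a b'] at f1
      exact t_ne b b' hb (congrArg Prod.snd (h.grid.inj f1))
  have hall : ∀ k, z k ∈ QQ (z i) := by
    intro k
    refine chain3 (R := QS z i) (Z := QS z i ⊓ centralizer (QS z i : Set G)) hl.char2 hQS inf_le_left
      (fun c hc y hy => QS_norm hc hy) ?_ (h.grid.comm k i) (fun q hq => comm_pt h hl hq k) ?_
      (fun w hw => (hZ w hw k).symm)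
    · intro c hc y hy
      obtain ⟨hy1, hy2⟩ := mem_inf.1 hy
      rw [mem_centralizer_iff] at hy2
      refine mem_inf.2 ⟨QS_norm hc hy1, ?_⟩
      rw [mem_centralizer_iff]
      intro u hu
      have h6 := hy2 _ (QS_norm (inv_comm hc) hu)
      calc u * (c * y * c⁻¹) = c * ((c⁻¹ * u * c⁻¹⁻¹) * y) * c⁻¹ := by group
        _ = c * (y * (c⁻¹ * u * c⁻¹⁻¹)) * c⁻¹ := by rw [h6]
        _ = c * y * c⁻¹ * u := by group
    · intro u hu
      refine mem_inf.2 ⟨?_, ?_⟩
      · exact mul_mem (QS_norm (h.grid.comm k i) hu) (inv_mem hu)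
      · rw [mem_centralizer_iff]
        intro v hv
        have e : z k * u * (z k)⁻¹ * u⁻¹ = z k * (u * z k * u⁻¹) := by
          rw [h.grid.zinv]; group
        rw [e]
        exact hcz u hu v hv k.1 k.2
  refine h.gen.trans ?_
  rw [closure_le]
  rintro _ ⟨k, rfl⟩
  exact hall k

/-- `min` -/
theorem min_mem [Finite G] {T : Subgroup G} {i : Fin 3 × Fin 3} (hl : Loc M V z T i)
    {Y : Subgroup G} (hY : Y ≤ QQ (z i))
    (hn : ∀ m ∈ M, m * z i = z i * m → ∀ y ∈ Y, m * y * m⁻¹ ∈ Y) (hne : Y ≠ ⊥) : z i ∈ Y := by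
  have hYT : Y ≤ T := hY.trans hl.QT
  have : Fact (Nat.Prime 2) := ⟨Nat.prime_two⟩
  have : Group.IsNilpotent T := hl.pg.isNilpotent
  have hN : (Y.subgroupOf T).Normal := ⟨fun y hy t => by
    rw [mem_subgroupOf] at hy ⊢
    exact hn t (hl.TM t.2) (hl.cz t t.2) y hy⟩
  have hNb : Y.subgroupOf T ≠ ⊥ := by
    intro h1
    apply hne
    rw [eq_bot_iff]
    intro y hy
    have h2 : (⟨y, hYT hy⟩ : T) ∈ Y.subgroupOf T := mem_subgroupOf.2 hy
    rw [h1, mem_bot] at h2
    exact mem_bot.2 (congrArg Subtype.val h2)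
  have h1 := Cfsg.Agent.Lib.NormalAbelian.normal_inf_center_ne_bot (Y.subgroupOf T) hNb
  obtain ⟨⟨x, hxT⟩, hx, hx1⟩ : ∃ x : T, x ∈ Y.subgroupOf T ⊓ center T ∧ x ≠ 1 := by
    by_contra hcon
    push Not at hcon
    exact h1 (eq_bot_iff.2 fun x hx => mem_bot.2 (hcon x hx))
  have hx1' : x ≠ 1 := fun h => hx1 (Subtype.ext h)
  obtain ⟨hxY, hxZ⟩ := mem_inf.1 hx
  rw [mem_subgroupOf] at hxY
  have hxc : ∀ s ∈ T, x * s = s * x := by
    intro s hs
    have := mem_center_iff.1 hxZ ⟨s, hs⟩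
    exact (congrArg Subtype.val this).symm
  -- an involution in `⟨x⟩`
  obtain ⟨k, hk⟩ := (IsPGroup.iff_orderOf.1 hl.pg) ⟨x, hxT⟩
  have hk' : orderOf x = 2 ^ k := by
    rw [← hk, ← orderOf_submonoid]
  have hk0 : k ≠ 0 := by
    rintro rfl
    rw [pow_zero, orderOf_eq_one_iff] at hk'
    exact hx1' hk'
  obtain ⟨k, rfl⟩ := Nat.exists_eq_succ_of_ne_zero hk0
  have hy2 : x ^ 2 ^ k * x ^ 2 ^ k = 1 := by
    rw [← pow_add, ← two_mul, ← pow_succ', ← Nat.succ_eq_add_one, ← hk']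
    exact pow_orderOf_eq_one x
  have hy1 : x ^ 2 ^ k ≠ 1 := by
    intro h5
    have h6 := orderOf_dvd_of_pow_eq_one h5
    rw [hk', Nat.succ_eq_add_one, Nat.pow_dvd_pow_iff_le_right (by norm_num)] at h6
    omega
  rcases hl.Z (x ^ 2 ^ k) (pow_mem hxT _) (fun s hs => (show Commute x s from hxc s hs).pow_left _) hy2
    with h5 | h5
  · exact absurd h5 hy1
  · rw [← h5]; exact pow_mem hxY _

/-- The configuration `DP`. -/
theorem dp_of_loc [Finite G] (h : Pts M V z) (hMV : M ≤ normalizer (V : Set G)) {T₀ : Subgroup G}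
    {i₀ : Fin 3 × Fin 3} (h0 : Loc M V z T₀ i₀) : DP M z (fun i => QQ (z i)) (fun i => QS z i) := by
  have hloc : ∀ i, ∃ T, Loc M V z T i := by
    intro i
    obtain ⟨σ, hσ⟩ := ex_perm i₀.1 i.1
    obtain ⟨τ, hτ⟩ := ex_perm i₀.2 i.2
    obtain ⟨m, hm, hmz⟩ := h.big σ τ
    have h1 := h0.conj hMV hm hmz
    rw [hσ, hτ] at h1
    exact ⟨_, h1⟩
  choose T hT using hloc
  exact
    { inj := h.grid.inj
      ne_one := h.grid.ne_one
      sq := h.grid.sq
      comm := h.grid.comm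
      row := h.grid.row
      col := h.grid.col
      QM := fun i => (hT i).QT.trans (hT i).TM
      perm := h.perm
      eqQ := fun m _ i j hij x hx => by
        have h1 := (mem_QQ_conj (g := m)).2 hx
        rwa [hij] at h1
      eqQs := fun m hm i j hij x hx => QS_conj h hm hij hx
      nQ := fun i c hc x hx => QQ_norm hc hx
      nQs := fun i c hc x hx => QS_norm hc hx
      le := fun i => QS_le h (hT i)
      zmem := fun i => mem_QS fun H => H.1 rfl
      Qz := fun i x hx => (hT i).cz x ((hT i).QT hx)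
      comQ := fun i x hx y hy => by
        rcases comm_QS h (hT i) hx y hy with h1 | h1
        · exact Or.inl (conj_comm h1)
        · right
          calc x * y = x * y * x⁻¹ * x := by group
            _ = z i * (y * x) := by rw [h1]; group
      pair := fun i j hij => mem_QS hij
      sr := fun a b => (exists_types h (hT (a, b))).1
      sc := fun a b => (exists_types h (hT (a, b))).2
      min := fun i Y hY hn hne => min_mem (hT i) hY hn hne }

end Facts

/-- The local data at `z i` -/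
theorem loc_of [Finite G] (hG : IsCharacteristicTwoType G) (S : Sylow 2 G) {M V : Subgroup G}
    {z : Fin 3 × Fin 3 → G} {i : Fin 3 × Fin 3} (h : Pts M V z) (hSM : (S : Subgroup G) ≤ M)
    (hVS : V ≤ (S : Subgroup G)) (hzS : ∀ s ∈ (S : Subgroup G), s * z i = z i * s)
    (hZ : ∀ x ∈ (S : Subgroup G), (∀ s ∈ (S : Subgroup G), x * s = s * x) → x * x = 1 →
      x = 1 ∨ x = z i)
    (hVQ : ¬ V ≤ o2 (centralizer ({z i} : Set G)))
    (act : ∀ q ∈ o2 (centralizer ({z i} : Set G)), Act z q id id ∨ Act z q id (t i.2) ∨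
      Act z q (t i.1) id ∨ Act z q (t i.1) (t i.2))
    (ar : ∃ q ∈ o2 (centralizer ({z i} : Set G)), Act z q id (t i.2))
    (ac : ∃ q ∈ o2 (centralizer ({z i} : Set G)), Act z q (t i.1) id) :
    Loc M V z (S : Subgroup G) i := by
  have e : QQ (z i) = o2 (centralizer ({z i} : Set G)) := by rw [QQ, CC_eq]
  have hSF : (S : Subgroup G) ≤ CC (z i) := fun s hs => mem_CC.2 (hzS s hs)
  have hSF' : (S : Subgroup G) ≤ normalizer ((zpowers (z i) : Subgroup G) : Set G) :=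
    hSF.trans (LemmaT.centralizer_le_normalizer' _)
  have hF : IsPGroup 2 (zpowers (z i)) := by
    refine S.isPGroup'.to_le ?_
    rw [zpowers_le]
    exact hVS (h.mem i)
  have hF1 : (zpowers (z i) : Subgroup G) ≠ ⊥ := by
    rw [Ne, zpowers_eq_bot]; exact h.grid.ne_one i
  refine ⟨hSM, S.isPGroup', hzS, LemmaT.o2_centralizer_le S hSF', hZ, ?_, ?_, ?_, ?_, ?_⟩
  · intro g hg hgx
    refine LemmaT.char2_centralizer hG hF hF1 (mem_inf.2 ⟨mem_CC.2 hg, ?_⟩)
    rw [mem_centralizer_iff]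
    exact fun x hx => (hgx x hx).symm
  · rwa [e]
  · rwa [e]
  · rwa [e]
  · rwa [e]

open Cfsg.Agent.Co2Type.Quad in
/-- **THEOREM D0+.** -/
theorem large [Finite G] (hG : IsCharacteristicTwoType G) (S : Sylow 2 G) {M V : Subgroup G}
    {z : Fin 3 × Fin 3 → G} {i : Fin 3 × Fin 3} (h : Pts M V z) (hMV : M ≤ normalizer (V : Set G))
    (hSM : (S : Subgroup G) ≤ M)
    (hVS : V ≤ (S : Subgroup G)) (hzS : ∀ s ∈ (S : Subgroup G), s * z i = z i * s)
    (hZ : ∀ x ∈ (S : Subgroup G), (∀ s ∈ (S : Subgroup G), x * s = s * x) → x * x = 1 →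
      x = 1 ∨ x = z i)
    (hVQ : ¬ V ≤ o2 (centralizer ({z i} : Set G)))
    (act : ∀ q ∈ o2 (centralizer ({z i} : Set G)), Act z q id id ∨ Act z q id (t i.2) ∨
      Act z q (t i.1) id ∨ Act z q (t i.1) (t i.2))
    (ar : ∃ q ∈ o2 (centralizer ({z i} : Set G)), Act z q id (t i.2))
    (ac : ∃ q ∈ o2 (centralizer ({z i} : Set G)), Act z q (t i.1) id) :
    Large (o2 (centralizer ({z i} : Set G))) (z i) := by
  have h0 := loc_of hG S h hSM hVS hzS hZ hVQ act ar ac
  have h2 := (dp_of_loc h hMV h0).large i h0.char2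
  have e : QQ (z i) = o2 (centralizer ({z i} : Set G)) := by rw [QQ, CC_eq]
  rwa [e] at h2

end Cfsg.Agent.Omega.NOne.DPlusPts

end

section


/-!
# NO-1, `V = O₄⁺(2)`: coordinates (helper537)

`V = N₁ ⊗ N₂` as the group of bit vectors `Bool⁴`: `phi z : Bool⁴ → G`, `z p = phi z (vec p)`.  The
elements of `M` fixing `z (0, 0)` act as one of the eight elements `act8 b i j` of `D₈`.
-/

set_option autoImplicit false

namespace Cfsg.Agent.Omega.NOne.PlusVec

open Subgroup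
open Cfsg.Agent.Omega.NOne.QuadPts (conj_comm comm_conj)
open Cfsg.Agent.Omega.NOne.DPlus
open Cfsg.Agent.Omega.NOne.DPlusPts

universe u

variable {G : Type u} [Group G]

/-- bit vectors -/
abbrev B4 : Type := Bool × Bool × Bool × Bool

/-- sum of bit vectors -/
def add (v w : B4) : B4 := (v.1 ^^ w.1, v.2.1 ^^ w.2.1, v.2.2.1 ^^ w.2.2.1, v.2.2.2 ^^ w.2.2.2)

/-- the zero vector -/
def o : B4 := (false, false, false, false)

/-- the vector `z (0, 0)` -/
def z0 : B4 := (true, false, false, false)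

/-- the nonsingular vector `e₀` -/
def e0 : B4 := (false, true, true, false)

/-- the nonsingular vector `e₀ z` -/
def e1 : B4 := (true, true, true, false)

/-- the vector `a ⊗ b` -/
def vec : Fin 3 × Fin 3 → B4
  | (0, 0) => (true, false, false, false)
  | (0, 1) => (false, true, false, false)
  | (0, 2) => (true, true, false, false)
  | (1, 0) => (false, false, true, false)
  | (1, 1) => (false, false, false, true)
  | (1, 2) => (false, false, true, true)
  | (2, 0) => (true, false, true, false)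
  | (2, 1) => (false, true, false, true)
  | (2, 2) => (true, true, true, true)

/-- a power with exponent a bit -/
def pw (x : G) (b : Bool) : G := if b then x else 1

theorem pw_xor {x : G} (hx : x * x = 1) (a b : Bool) : pw x (a ^^ b) = pw x a * pw x b := by
  cases a <;> cases b <;> simp [pw, hx]

theorem pw_comm {x y : G} (h : x * y = y * x) (a b : Bool) : pw x a * pw y b = pw y b * pw x a := by
  cases a <;> cases b <;> simp [pw, h]

theorem conj_pw (g x : G) (a : Bool) : g * pw x a * g⁻¹ = pw (g * x * g⁻¹) a := by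
  cases a <;> simp [pw]

/-- the vector with coordinates `v` -/
def phi (z : Fin 3 × Fin 3 → G) (v : B4) : G :=
  pw (z (0, 0)) v.1 * pw (z (0, 1)) v.2.1 * pw (z (1, 0)) v.2.2.1 * pw (z (1, 1)) v.2.2.2

section grid

variable {z : Fin 3 × Fin 3 → G}

theorem phi_o : phi z o = 1 := by simp [phi, o, pw]

theorem phi_add (h : Grid z) (v w : B4) : phi z (add v w) = phi z v * phi z w := by
  obtain ⟨a, b, c, d⟩ := v
  obtain ⟨a', b', c', d'⟩ := w
  simp only [phi, add]
  rw [pw_xor (h.sq _), pw_xor (h.sq _), pw_xor (h.sq _), pw_xor (h.sq _)]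
  have e1 := pw_comm (h.comm (0, 0) (0, 1)) a' b
  have e2 := pw_comm (h.comm (0, 1) (1, 0)) b' c
  have e3 := pw_comm (h.comm (0, 0) (1, 0)) a' c
  have e4 := pw_comm (h.comm (1, 0) (1, 1)) c' d
  have e5 := pw_comm (h.comm (0, 1) (1, 1)) b' d
  have e6 := pw_comm (h.comm (0, 0) (1, 1)) a' d
  generalize pw (z (0, 0)) a = A at *
  generalize pw (z (0, 0)) a' = A' at *
  generalize pw (z (0, 1)) b = B at *
  generalize pw (z (0, 1)) b' = B' at *
  generalize pw (z (1, 0)) c = C at *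
  generalize pw (z (1, 0)) c' = C' at *
  generalize pw (z (1, 1)) d = D at *
  generalize pw (z (1, 1)) d' = D' at *
  calc A * A' * (B * B') * (C * C') * (D * D') = A * (A' * B) * B' * C * C' * D * D' := by group
    _ = A * B * A' * (B' * C) * C' * D * D' := by rw [e1]; group
    _ = A * B * (A' * C) * B' * (C' * D) * D' := by rw [e2]; group
    _ = A * B * C * A' * (B' * D) * C' * D' := by rw [e3, e4]; group
    _ = A * B * C * (A' * D) * B' * C' * D' := by rw [e5]; group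
    _ = A * B * C * D * (A' * B' * C' * D') := by rw [e6]; group

theorem phi_vec (h : Grid z) (p : Fin 3 × Fin 3) : phi z (vec p) = z p := by
  have r01 : z (0, 0) * z (0, 1) = z (0, 2) := h.row 0 0 1 (by decide)
  have c01 : z (0, 0) * z (1, 0) = z (2, 0) := h.col 0 0 1 (by decide)
  have r1 : z (1, 0) * z (1, 1) = z (1, 2) := h.row 1 0 1 (by decide)
  have c1 : z (0, 1) * z (1, 1) = z (2, 1) := h.col 1 0 1 (by decide)
  have c2 : z (0, 2) * z (1, 2) = z (2, 2) := h.col 2 0 1 (by decide)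
  obtain ⟨a, b⟩ := p
  fin_cases a <;> fin_cases b
  · simp [phi, vec, pw]
  · simp [phi, vec, pw]
  · simp [phi, vec, pw, r01]
  · simp [phi, vec, pw]
  · simp [phi, vec, pw]
  · simp [phi, vec, pw, r1]
  · simp [phi, vec, pw, c01]
  · simp [phi, vec, pw, c1]
  · simp only [phi, vec, pw, if_true]
    show z (0, 0) * z (0, 1) * z (1, 0) * z (1, 1) = z (2, 2)
    rw [mul_assoc, r1, r01, c2]

theorem vec_cases : ∀ v : B4, v = o ∨ (∃ p, v = vec p) ∨ ∃ p q, op p q ∧ v = add (vec p) (vec q) := by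
  decide

theorem phi_ne (h : Grid z) {v : B4} (hv : v ≠ o) : phi z v ≠ 1 := by
  rcases vec_cases v with rfl | ⟨p, rfl⟩ | ⟨p, q, hpq, rfl⟩
  · exact absurd rfl hv
  · rw [phi_vec h]; exact h.ne_one p
  · rw [phi_add h, phi_vec h, phi_vec h]
    intro e
    have e2 := eq_inv_of_mul_eq_one_left e
    rw [h.zinv] at e2
    have e3 := h.inj e2
    rw [e3] at hpq
    exact hpq.1 rfl

theorem add_self : ∀ v : B4, add v v = o := by decide
theorem add_comm' : ∀ v w : B4, add v w = add w v := by decide +kernel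
theorem add_eq_o : ∀ v w : B4, add v w = o → v = w := by decide +kernel

theorem phi_inj (h : Grid z) {v w : B4} (e : phi z v = phi z w) : v = w := by
  by_contra hne
  refine phi_ne h (v := add v w) (fun e' => hne (add_eq_o v w e')) ?_
  rw [phi_add h, e, ← phi_add h, add_self, phi_o]

theorem phi_sq (h : Grid z) (v : B4) : phi z v * phi z v = 1 := by
  rw [← phi_add h, add_self, phi_o]

theorem phi_inv (h : Grid z) (v : B4) : (phi z v)⁻¹ = phi z v :=
  inv_eq_of_mul_eq_one_left (phi_sq h v)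

theorem phi_comm (h : Grid z) (v w : B4) : phi z v * phi z w = phi z w * phi z v := by
  rw [← phi_add h, ← phi_add h, add_comm']

/-- every element of `V` is a `phi z v` -/
theorem exists_phi {M V : Subgroup G} (h : Pts M V z) {x : G} (hx : x ∈ V) : ∃ v, x = phi z v := by
  have hx' := h.gen hx
  clear hx
  induction hx' using closure_induction with
  | mem x hx =>
    obtain ⟨p, rfl⟩ := hx
    exact ⟨vec p, (phi_vec h.grid p).symm⟩
  | one => exact ⟨o, phi_o.symm⟩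
  | mul a b _ _ ha hb =>
    obtain ⟨v, rfl⟩ := ha
    obtain ⟨w, rfl⟩ := hb
    exact ⟨add v w, (phi_add h.grid v w).symm⟩
  | inv a _ ha =>
    obtain ⟨v, rfl⟩ := ha
    exact ⟨v, phi_inv h.grid v⟩

theorem phi_mem {M V : Subgroup G} (h : Pts M V z) (v : B4) : phi z v ∈ V := by
  have hp : ∀ p b, pw (z p) b ∈ V := by
    intro p b
    cases b
    · exact one_mem _
    · exact h.mem p
  exact mul_mem (mul_mem (mul_mem (hp _ _) (hp _ _)) (hp _ _)) (hp _ _)

/-- the linear map given by the images of the basis vectors -/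
def lin (π : Fin 3 × Fin 3 → Fin 3 × Fin 3) (v : B4) : B4 :=
  add (add (add (if v.1 then vec (π (0, 0)) else o) (if v.2.1 then vec (π (0, 1)) else o))
    (if v.2.2.1 then vec (π (1, 0)) else o)) (if v.2.2.2 then vec (π (1, 1)) else o)

/-- `m` acts on the points by `π` -/
def Has (z : Fin 3 × Fin 3 → G) (m : G) (π : Fin 3 × Fin 3 → Fin 3 × Fin 3) : Prop :=
  ∀ p, m * z p * m⁻¹ = z (π p)

theorem Has.mul {m n : G} {π ρ : Fin 3 × Fin 3 → Fin 3 × Fin 3} (h : Has z m π) (h' : Has z n ρ) :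
    Has z (m * n) (fun p => π (ρ p)) := by
  intro p
  calc m * n * z p * (m * n)⁻¹ = m * (n * z p * n⁻¹) * m⁻¹ := by group
    _ = _ := by rw [h', h]

theorem Has.conj_phi (hz : Grid z) {m : G} {π : Fin 3 × Fin 3 → Fin 3 × Fin 3} (h : Has z m π) (v : B4) :
    m * phi z v * m⁻¹ = phi z (lin π v) := by
  have key : ∀ p (b : Bool), m * pw (z p) b * m⁻¹ = phi z (if b then vec (π p) else o) := by
    intro p b
    rw [conj_pw, h]
    cases b
    · simp [pw, phi_o]
    · simp [pw, phi_vec hz]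
  rw [lin, phi_add hz, phi_add hz, phi_add hz, ← key, ← key, ← key, ← key, PlusVec.phi]
  group

theorem Has.unique (hz : Grid z) {m : G} {π ρ : Fin 3 × Fin 3 → Fin 3 × Fin 3} (h : Has z m π)
    (h' : Has z m ρ) : π = ρ := by
  funext p
  apply hz.inj
  rw [← h, ← h']

end grid

/-- the eight elements of `D₈` -/
def act8 (b i j : Bool) (p : Fin 3 × Fin 3) : Fin 3 × Fin 3 :=
  (if i then t 0 (if b then p.2 else p.1) else (if b then p.2 else p.1),
    if j then t 0 (if b then p.1 else p.2) else (if b then p.1 else p.2))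

theorem act8_inj : ∀ b i j b' i' j' : Bool, (∀ p, act8 b i j p = act8 b' i' j' p) →
    b = b' ∧ i = i' ∧ j = j' := by decide +kernel

theorem act8_mul : ∀ b i j b' i' j' : Bool, ∀ p, act8 b i j (act8 b' i' j' p) =
    act8 (b ^^ b') (i ^^ (if b then j' else i')) (j ^^ (if b then i' else j')) p := by
  decide +kernel

theorem act8_id : ∀ p, act8 false false false p = p := by decide

theorem act8_fix : ∀ b i j, act8 b i j (0, 0) = (0, 0) := by decide

theorem perm_cases : ∀ σ : Equiv.Perm (Fin 3), σ 0 = 0 → (∀ x, σ x = x) ∨ ∀ x, σ x = t 0 x := by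
  decide

end Cfsg.Agent.Omega.NOne.PlusVec

end

end

-- merged: Cfsg.Agent.Mrg.Omega.NOne.AG.AlphaG
section

/-!
# D0ag, type (α): the labels of the points, from the natural `SL₂(4)`-module

`Nt`: `V` is a natural `SL₂(4)`-module of `P`, `z` is the only nontrivial element of `V` centralised by
`S ≤ P`, and some hyperplane `E` of `V` is invariant under `C_P(z)`.  Then there are labels `Alp P V Z`.
-/

set_option autoImplicit false
set_option linter.unusedSectionVars false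

namespace Cfsg.Agent.Omega.NOne.AG.Tab

open Cfsg.Agent.Lib.SL2Mat Cfsg.Agent.Omega.NatPair
open Subgroup Cfsg Cfsg.Agent.ZN Cfsg.Agent.Omega.SQ1.FFOne

universe u

variable {F : Type*} [Field F] {w : F}

/-- `det (x, y)` -/
def dt (x y : Fin 2 → F) : F := x 0 * y 1 - x 1 * y 0

theorem dt_ap (A : Matrix.SpecialLinearGroup (Fin 2) F) (x y : Fin 2 → F) :
    dt (ap A x) (ap A y) = dt x y := by
  have hd := det_eq A
  simp only [dt, ap_zero', ap_one']
  linear_combination (x 0 * y 1 - x 1 * y 0) * hd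

/-- the matrix maps -/
def mt (p q r t : F) (x : Fin 2 → F) : Fin 2 → F := ![p * x 0 + q * x 1, r * x 0 + t * x 1]

theorem dt_mt (p q r t : F) (x y : Fin 2 → F) :
    dt (mt p q r t x) (mt p q r t y) = (p * t - q * r) * dt x y := by
  simp only [dt, mt, Matrix.cons_val_zero, Matrix.cons_val_one]
  ring

theorem mt_eq_ap {p q r t : F} (h : p * t - q * r = 1) (x : Fin 2 → F) :
    mt p q r t x = ap (mk p q r t h) x := by
  apply ext2
  · rw [ap_zero', mk_00, mk_01]; rfl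
  · rw [ap_one', mk_10, mk_11]; rfl

/-- a ring automorphism of the field with four elements is the identity or the squaring -/
theorem ringEquiv_cases (h : W4 w) (s : F ≃+* F) : (∀ c, s c = c) ∨ ∀ c, s c = c * c := by
  have h2 := h.two
  have hs := congrArg s h.sq
  rw [map_mul, map_add, map_one] at hs
  rcases h.all (s w) with e | e | e | e
  · rw [e] at hs
    simp at hs
  · rw [e] at hs
    exfalso
    have : (1 : F) = 0 := by linear_combination -hs
    exact one_ne_zero this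
  · left
    intro c
    rcases h.all c with rfl | rfl | rfl | rfl
    · simp
    · simp
    · exact e
    · rw [map_add, map_one, e]
  · right
    intro c
    rcases h.all c with rfl | rfl | rfl | rfl
    · simp
    · simp
    · rw [e, h.sq]
    · rw [map_add, map_one, e]
      linear_combination -h.sq - w * h2

variable {G : Type u} [Group G] {P V : Subgroup G} (M : NatSec F P V ⊥)

theorem exists_mt [Finite F] (h : W4 w) {g : G} (hg : g ∈ P) : ∃ p q r t : F,
    (∀ x, M.act g x = mt p q r t x) ∨ ∀ x, M.act g x = mt p q r t (fr x) := by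
  obtain ⟨s, hs⟩ := M.exists_semi hg
  refine ⟨(M.act g ![1, 0]) 0, (M.act g ![0, 1]) 0, (M.act g ![1, 0]) 1, (M.act g ![0, 1]) 1, ?_⟩
  have key : ∀ x, M.act g x = s (x 0) • M.act g ![1, 0] + s (x 1) • M.act g ![0, 1] := by
    intro x
    rw [← hs, ← hs, ← M.act_add hg]
    congr 1
    apply ext2 <;> simp
  rcases ringEquiv_cases h s with e | e
  · left
    intro x
    rw [key]
    apply ext2
    · simp only [mt, Pi.add_apply, Pi.smul_apply, smul_eq_mul, Matrix.cons_val_zero, e]; ring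
    · simp only [mt, Pi.add_apply, Pi.smul_apply, smul_eq_mul, Matrix.cons_val_one, e]
      simp only [Matrix.cons_val_fin_one]
      ring
  · right
    intro x
    rw [key]
    apply ext2
    · simp only [mt, fr, Pi.add_apply, Pi.smul_apply, smul_eq_mul, Matrix.cons_val_zero,
        Matrix.cons_val_one, e]; ring
    · simp only [mt, fr, Pi.add_apply, Pi.smul_apply, smul_eq_mul, Matrix.cons_val_zero,
        Matrix.cons_val_one, e]; ring

/-- The configuration at `z`. -/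
structure Nt (P V S E : Subgroup G) (z : G) : Prop where
  S_le : S ≤ P
  zV : z ∈ V
  z_ne : z ≠ 1
  comm : ∀ s ∈ S, s * z = z * s
  uniq : ∀ v ∈ V, (∀ s ∈ S, s * v = v * s) → v = 1 ∨ v = z
  E_le : E ≤ V
  ind : E.relIndex V = 2
  inv : ∀ m ∈ P, m * z = z * m → ∀ e ∈ E, m * e * m⁻¹ ∈ E

theorem π_inj {v v' : G} (hv : v ∈ V) (hv' : v' ∈ V) (e : M.π v = M.π v') : v = v' := by
  have := (M.eq_iff hv hv').1 e
  rw [mem_bot] at this
  exact mul_inv_eq_one.1 this

theorem π_ne {v : G} (hv : v ∈ V) (h : v ≠ 1) : M.π v ≠ 0 := by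
  intro h0
  exact h ((M.ker v hv).1 h0)

/-- linear elements have determinant one -/
theorem det_one (h : W4 w) {S E : Subgroup G} {z : G} (N : Nt P V S E z) {g : G} (hg : g ∈ P)
    {p q r t : F} (hm : ∀ x, M.act g x = mt p q r t x) : p * t - q * r = 1 := by
  have h2 := h.two
  -- the vector of `z`
  set x := M.π z with hx
  have hx0 : x ≠ 0 := π_ne M N.zV N.z_ne
  have hgx0 : M.act g x ≠ 0 := by
    intro h0
    apply hx0
    rw [← M.act_inv_act hg x, h0, M.act_zero (inv_mem hg)]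
  -- an element `m` of `C_P(z)`
  obtain ⟨A, hA⟩ := exists_ap hgx0 hx0
  obtain ⟨a, ha, haA⟩ := M.lift A
  have haA' := (M.ind_iff ha).1 haA
  have hmP : a * g ∈ P := mul_mem ha hg
  have hmact : ∀ y, M.act (a * g) y = ap A (mt p q r t y) := by
    intro y
    rw [M.act_mul ha hg, haA', hm]
  have hmx : M.act (a * g) x = x := by rw [hmact, ← hm, hA]
  have hmz : a * g * z = z * (a * g) := by
    have h1 : a * g * z * (a * g)⁻¹ = z := by
      apply π_inj M (M.Vn _ hmP z N.zV) N.zV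
      rw [← M.act_π hmP N.zV]
      exact hmx
    rwa [mul_inv_eq_iff_eq_mul] at h1
  -- the functional
  have hdt : ∀ y, dt x (M.act (a * g) y) = (p * t - q * r) * dt x y := by
    intro y
    nth_rewrite 1 [← hmx]
    rw [hmact, hmact, dt_ap, dt_mt]
  set μ := p * t - q * r with hμ
  -- `E` has index two
  have hidx : ∀ u ∈ V, ∀ v ∈ V, u ∉ E → v ∉ E → u * v ∈ E := by
    intro u hu v hv h1 h3
    have h4 : (E.subgroupOf V).index = 2 := N.ind
    have h5 := Subgroup.mul_mem_iff_of_index_two h4 (a := ⟨u, hu⟩) (b := ⟨v, hv⟩)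
    rw [mem_subgroupOf, mem_subgroupOf, mem_subgroupOf] at h5
    exact h5.2 ⟨fun h => absurd h h1, fun h => absurd h h3⟩
  have hnot : ¬ ∀ v ∈ V, v ∈ E := by
    intro hall
    have h1 : V ≤ E := hall
    have := N.ind
    rw [relIndex_eq_one.2 h1] at this
    omega
  have hw0 : w ≠ 0 := by
    intro h0
    have := h.sq
    rw [h0] at this
    simp at this
  have hw1 : w ≠ 1 := by
    intro h0
    have := h.sq
    rw [h0] at this
    simp at this
  -- `dt x` is onto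
  obtain ⟨y0, hy0⟩ : ∃ y, dt x y = 1 := by
    by_cases hx1 : x 0 = 0
    · have hx2 : x 1 ≠ 0 := fun h' => hx0 (ext2 hx1 h')
      refine ⟨![-(x 1)⁻¹, 0], ?_⟩
      simp only [dt, Matrix.cons_val_zero, Matrix.cons_val_one]
      field_simp
      ring
    · refine ⟨![0, (x 0)⁻¹], ?_⟩
      simp only [dt, Matrix.cons_val_zero, Matrix.cons_val_one]
      field_simp
      ring
  have hdta : ∀ a b, dt x (a + b) = dt x a + dt x b := by
    intro a b; simp only [dt, Pi.add_apply]; ring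
  have hdts : ∀ (c : F) a, dt x (c • a) = c * dt x a := by
    intro c a; simp only [dt, Pi.smul_apply, smul_eq_mul]; ring
  -- the vectors of `E`
  have hadd : ∀ a b, (∃ v ∈ E, M.π v = a) → (∃ v ∈ E, M.π v = b) → ∃ v ∈ E, M.π v = a + b := by
    rintro a b ⟨u, hu, rfl⟩ ⟨v, hv, rfl⟩
    exact ⟨u * v, mul_mem hu hv, M.map_mul u (N.E_le hu) v (N.E_le hv)⟩
  have hEV : ∀ v ∈ V, (∃ u ∈ E, M.π u = M.π v) → v ∈ E := by
    rintro v hv ⟨u, hu, e⟩
    rwa [← π_inj M (N.E_le hu) hv e]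
  -- (1) some element of `E` is not perpendicular to `x`
  obtain ⟨v0, hv0, hd0⟩ : ∃ v ∈ E, dt x (M.π v) ≠ 0 := by
    by_contra hcon
    push Not at hcon
    obtain ⟨u, hu, e1⟩ := M.surj y0
    obtain ⟨v, hv, e2⟩ := M.surj (w • y0)
    have h1 : u ∉ E := by
      intro h1
      have := hcon u h1
      rw [e1, hy0] at this
      exact one_ne_zero this
    have h3 : v ∉ E := by
      intro h1
      have := hcon v h1
      rw [e2, hdts, hy0, mul_one] at this
      exact hw0 this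
    have h4 := hcon _ (hidx u hu v hv h1 h3)
    rw [M.map_mul u hu v hv, e1, e2, hdta, hdts, hy0] at h4
    apply hw1
    linear_combination h4 - h2
  -- (2) the line of `x` is in `E`
  have hline : ∀ c : F, ∃ v ∈ E, M.π v = c • x := by
    intro c
    set b := c * (dt x (M.π v0))⁻¹ with hb
    obtain ⟨m, hm', hmA⟩ := M.lift (mk (1 - b * x 0 * x 1) (b * x 0 * x 0) (-(b * x 1 * x 1))
      (1 + b * x 0 * x 1) (by ring))
    have hmA' := (M.ind_iff hm').1 hmA
    have hmf : ∀ y, M.act m y = y + (b * dt x y) • x := by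
      intro y
      rw [hmA']
      apply ext2
      · rw [ap_zero', mk_00, mk_01, Pi.add_apply, Pi.smul_apply, smul_eq_mul, dt]; ring
      · rw [ap_one', mk_10, mk_11, Pi.add_apply, Pi.smul_apply, smul_eq_mul, dt]; ring
    have hmz' : m * z = z * m := by
      have h1 : m * z * m⁻¹ = z := by
        apply π_inj M (M.Vn _ hm' z N.zV) N.zV
        rw [← M.act_π hm' N.zV, ← hx, hmf]
        have : dt x x = 0 := by simp only [dt]; ring
        rw [this, mul_zero, zero_smul, add_zero]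
      rwa [mul_inv_eq_iff_eq_mul] at h1
    have h3 := N.inv m hm' hmz' v0 hv0
    refine ⟨m * v0 * m⁻¹ * v0, mul_mem h3 hv0, ?_⟩
    rw [M.map_mul _ (N.E_le h3) _ (N.E_le hv0), ← M.act_π hm' (N.E_le hv0), hmf, hb]
    have h4 : c * (dt x (M.π v0))⁻¹ * dt x (M.π v0) = c := by
      rw [mul_assoc, inv_mul_cancel₀ hd0, mul_one]
    rw [h4]
    have h5 : M.π v0 + c • x + M.π v0 = c • x + (2 : F) • M.π v0 := by
      rw [two_smul]; abel
    rw [h5, h2, zero_smul, add_zero]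
  -- (3) all values of `dt x` on `E`
  by_contra hμ1
  have hμ0 : μ ≠ 0 := by
    intro h0
    obtain ⟨v, hv, e1⟩ := M.surj y0
    have h1 := hdt (M.act (a * g)⁻¹ y0)
    rw [M.act_act_inv hmP, h0, zero_mul, hy0] at h1
    exact one_ne_zero h1
  set δ := dt x (M.π v0) with hδ
  have hv1 : a * g * v0 * (a * g)⁻¹ ∈ E := N.inv _ hmP hmz v0 hv0
  have hval : ∀ c : F, ∃ v ∈ E, dt x (M.π v) = c := by
    intro c
    have h1 : M.π (a * g * v0 * (a * g)⁻¹) = M.act (a * g) (M.π v0) := (M.act_π hmP (N.E_le hv0)).symm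
    have h3 : dt x (M.π (a * g * v0 * (a * g)⁻¹)) = μ * δ := by rw [h1, hdt]
    have h4 : dt x (M.π (a * g * v0 * (a * g)⁻¹ * v0)) = μ * δ + δ := by
      rw [M.map_mul _ (N.E_le hv1) _ (N.E_le hv0), hdta, h3]
    have h5 : dt x (M.π 1) = 0 := by rw [M.map_one]; simp [dt]
    have hcase : c * δ⁻¹ = 0 ∨ c * δ⁻¹ = 1 ∨ c * δ⁻¹ = μ ∨ c * δ⁻¹ = μ + 1 := by
      rcases h.all μ with e | e | e | e
      · exact absurd e hμ0
      · exact absurd e hμ1
      · rw [e]; exact h.all _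
      · rw [e]
        rcases h.all (c * δ⁻¹) with e' | e' | e' | e'
        · exact Or.inl e'
        · exact Or.inr (Or.inl e')
        · right; right; right; rw [e']; linear_combination -h2
        · right; right; left; exact e'
    have hc : c * δ⁻¹ * δ = c := by rw [mul_assoc, inv_mul_cancel₀ hd0, mul_one]
    rcases hcase with e | e | e | e
    · exact ⟨1, one_mem E, by rw [h5, ← hc, e, zero_mul]⟩
    · exact ⟨v0, hv0, by rw [← hδ, ← hc, e, one_mul]⟩
    · exact ⟨_, hv1, by rw [h3, ← hc, e]⟩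
    · exact ⟨_, mul_mem hv1 hv0, by rw [h4, ← hc, e]; ring⟩
  apply hnot
  intro v hv
  apply hEV v hv
  obtain ⟨u, hu, e⟩ := hval (dt x (M.π v))
  -- `π v - π u` is a multiple of `x`
  have h3 : ∃ c : F, M.π v = M.π u + c • x := by
    have h4 : dt x (M.π v - M.π u) = 0 := by
      have : dt x (M.π v - M.π u) = dt x (M.π v) - dt x (M.π u) := by
        simp only [dt, Pi.sub_apply]; ring
      rw [this, e, sub_self]
    generalize hy : M.π v - M.π u = y at h4
    have h5 : ∃ c : F, y = c • x := by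
      simp only [dt] at h4
      by_cases hx1 : x 0 = 0
      · have hx2 : x 1 ≠ 0 := fun h' => hx0 (ext2 hx1 h')
        refine ⟨y 1 * (x 1)⁻¹, ext2 ?_ ?_⟩
        · rw [Pi.smul_apply, smul_eq_mul, hx1, mul_zero]
          rw [hx1, zero_mul, zero_sub, neg_eq_zero] at h4
          exact (mul_eq_zero.1 h4).resolve_left hx2
        · rw [Pi.smul_apply, smul_eq_mul, mul_assoc, inv_mul_cancel₀ hx2, mul_one]
      · refine ⟨y 0 * (x 0)⁻¹, ext2 ?_ ?_⟩
        · rw [Pi.smul_apply, smul_eq_mul, mul_assoc, inv_mul_cancel₀ hx1, mul_one]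
        · rw [Pi.smul_apply, smul_eq_mul]
          field_simp
          linear_combination h4
    obtain ⟨c, hc⟩ := h5
    exact ⟨c, by rw [← hc, ← hy]; abel⟩
  obtain ⟨c, hc⟩ := h3
  rw [hc]
  exact hadd _ _ ⟨u, hu, rfl⟩ (hline c)

/-- the coordinates multiplied by `κ` -/
def scale (κ : F) (hκ : κ ≠ 0) : NatSec F P V ⊥ where
  π v := κ • M.π v
  map_mul v hv u hu := by rw [M.map_mul v hv u hu, smul_add]
  V0V := M.V0V
  ker v hv := by rw [smul_eq_zero_iff_right hκ, M.ker v hv]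
  surj x := by
    obtain ⟨v, hv, e⟩ := M.surj (κ⁻¹ • x)
    exact ⟨v, hv, by rw [e, smul_smul, mul_inv_cancel₀ hκ, one_smul]⟩
  Vn := M.Vn
  V0n := M.V0n
  lift A := by
    obtain ⟨m, hm, hA⟩ := M.lift A
    exact ⟨m, hm, fun v hv => by rw [hA v hv, ap_smul]⟩
  norm g hg m hm A hA := by
    have h1 : ∀ v ∈ V, M.π (m * v * m⁻¹) = ap A (M.π v) := by
      intro v hv
      have h2 := hA v hv
      rw [ap_smul] at h2
      exact smul_right_injective _ hκ h2
    obtain ⟨B, hB⟩ := M.norm g hg m hm A h1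
    exact ⟨B, fun v hv => by rw [hB v hv, ap_smul]⟩

theorem scale_act (κ : F) (hκ : κ ≠ 0) {g : G} (hg : g ∈ P) (x : Fin 2 → F) :
    (scale M κ hκ).act g x = κ • M.act g (κ⁻¹ • x) := by
  obtain ⟨v, hv, e⟩ := M.surj (κ⁻¹ • x)
  have h1 : x = (scale M κ hκ).π v := by
    show x = κ • M.π v
    rw [e, smul_smul, mul_inv_cancel₀ hκ, one_smul]
  rw [← e, M.act_π hg hv]
  nth_rewrite 1 [h1]
  rw [(scale M κ hκ).act_π hg hv]
  rfl

/-- some element of `P` is not linear -/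
theorem exists_frob [Finite F] (h : W4 w) {S E : Subgroup G} {z : G} (N : Nt P V S E z) :
    ∃ g ∈ P, ∃ p q r t : F, ∀ x, M.act g x = mt p q r t (fr x) := by
  by_contra hcon
  push Not at hcon
  have hw0 : w ≠ 0 := by
    intro h0
    have := h.sq
    rw [h0] at this
    simp at this
  have hw1 : w ≠ 1 := by
    intro h0
    have := h.sq
    rw [h0] at this
    simp at this
  obtain ⟨v, hv, e⟩ := M.surj (w • M.π z)
  have hz0 := π_ne M N.zV N.z_ne
  have h1 : ∀ s ∈ S, s * v = v * s := by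
    intro s hs
    have hsP := N.S_le hs
    obtain ⟨p, q, r, t, h2 | h2⟩ := exists_mt M h hsP
    · have h3 : M.act s (M.π z) = M.π z := by
        rw [M.act_π hsP N.zV, N.comm s hs, mul_inv_cancel_right]
      have h4 : M.act s (w • M.π z) = w • M.π z := by
        rw [h2]
        rw [h2] at h3
        have h5 : mt p q r t (w • M.π z) = w • mt p q r t (M.π z) := by
          apply ext2
          · simp only [mt, Pi.smul_apply, smul_eq_mul, Matrix.cons_val_zero]; ring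
          · simp only [mt, Pi.smul_apply, smul_eq_mul, Matrix.cons_val_one]
            simp only [Matrix.cons_val_fin_one]; ring
        rw [h5, h3]
      rw [← e, M.act_π hsP hv] at h4
      have h5 := π_inj M (M.Vn s hsP v hv) hv h4
      rwa [mul_inv_eq_iff_eq_mul] at h5
    · obtain ⟨x, hx⟩ := hcon s hsP p q r t
      exact absurd (h2 x) hx
  rcases N.uniq v hv h1 with rfl | rfl
  · rw [M.map_one] at e
    rcases smul_eq_zero.1 e.symm with e' | e'
    · exact hw0 e'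
    · exact hz0 e'
  · have h2 : (w - 1) • M.π v = 0 := by rw [sub_smul, one_smul, ← e, sub_self]
    rcases smul_eq_zero.1 h2 with e' | e'
    · exact hw1 (sub_eq_zero.1 e')
    · exact hz0 e'

theorem fr_fr (h : W4 w) (x : Fin 2 → F) : fr (fr x) = x := by
  have h4 : ∀ c : F, c * c * (c * c) = c := by
    intro c
    rcases h.all c with e | e | e | e <;> rw [e]
    · simp
    · simp
    · rw [h.sq]; linear_combination h.sq + (w + 1) * h.two
    · have h5 : (w + 1) * (w + 1) = w := by linear_combination h.sq + (w + 1) * h.two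
      rw [h5, h.sq]
  apply ext2
  · exact h4 _
  · exact h4 _

theorem fr_mt (h2 : (2 : F) = 0) (p q r t : F) (x : Fin 2 → F) :
    fr (mt p q r t x) = mt (p * p) (q * q) (r * r) (t * t) (fr x) := by
  apply ext2
  · simp only [mt, fr, Matrix.cons_val_zero, Matrix.cons_val_one]
    linear_combination (p * x 0 * q * x 1) * h2
  · simp only [mt, fr, Matrix.cons_val_zero, Matrix.cons_val_one]
    linear_combination (r * x 0 * t * x 1) * h2

theorem mt_mt (p q r t a b c d : F) (x : Fin 2 → F) : mt p q r t (mt a b c d x) =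
    mt (p * a + q * c) (p * b + q * d) (r * a + t * c) (r * b + t * d) x := by
  apply ext2
  · simp only [mt, Matrix.cons_val_zero, Matrix.cons_val_one]; ring
  · simp only [mt, Matrix.cons_val_zero, Matrix.cons_val_one]; ring

theorem ap_eq_mt (A : Matrix.SpecialLinearGroup (Fin 2) F) (x : Fin 2 → F) :
    ap A x = mt (ent A 0 0) (ent A 0 1) (ent A 1 0) (ent A 1 1) x := rfl

include M in
/-- some element acts as `A ∘ Frobenius`, in suitable coordinates -/
theorem exists_frob_one [Finite F] (h : W4 w) {S E : Subgroup G} {z : G} (N : Nt P V S E z) :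
    ∃ M' : NatSec F P V ⊥, ∃ g ∈ P, ∃ A, ∀ x, M'.act g x = ap A (fr x) := by
  have h2 := h.two
  obtain ⟨g, hg, p, q, r, t, hm⟩ := exists_frob M h N
  set ν := p * t - q * r with hν
  have hν0 : ν ≠ 0 := by
    intro h0
    have h1 : ∀ x y, dt (M.act g x) (M.act g y) = 0 := by
      intro x y
      rw [hm, hm, dt_mt, ← hν, h0, zero_mul]
    have h3 := h1 (M.act g⁻¹ ![1, 0]) (M.act g⁻¹ ![0, 1])
    rw [M.act_act_inv hg, M.act_act_inv hg] at h3
    simp [dt] at h3
  have hκκ : ν * ν * (ν * ν) = ν := by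
    have := congrFun (fr_fr h ![ν, 0]) 0
    simpa [fr] using this
  have hκ : ν * ν ≠ 0 := mul_ne_zero hν0 hν0
  refine ⟨scale M (ν * ν) hκ, g, hg, ?_⟩
  set κ := ν * ν with hκd
  have hdet : (κ⁻¹ * p) * (κ⁻¹ * t) - (κ⁻¹ * q) * (κ⁻¹ * r) = 1 := by
    have h3 : (κ⁻¹ * p) * (κ⁻¹ * t) - (κ⁻¹ * q) * (κ⁻¹ * r) = κ⁻¹ * κ⁻¹ * ν := by rw [hν]; ring
    rw [h3, ← hκκ]
    field_simp
  refine ⟨mk _ _ _ _ hdet, fun x => ?_⟩
  rw [scale_act M κ hκ hg, hm, ← mt_eq_ap hdet]
  apply ext2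
  · simp only [mt, fr, Pi.smul_apply, smul_eq_mul, Matrix.cons_val_zero, Matrix.cons_val_one]
    field_simp
  · simp only [mt, fr, Pi.smul_apply, smul_eq_mul, Matrix.cons_val_zero, Matrix.cons_val_one]
    field_simp

/-- all elements of `P` act as `A` or as `A ∘ Frobenius` -/
theorem act_cases [Finite F] (h : W4 w) {S E : Subgroup G} {z : G} (N : Nt P V S E z) {g0 : G}
    (hg0 : g0 ∈ P) {A0 : Matrix.SpecialLinearGroup (Fin 2) F} (h0 : ∀ x, M.act g0 x = ap A0 (fr x))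
    {g : G} (hg : g ∈ P) : ∃ A, (∀ x, M.act g x = ap A x) ∨ ∀ x, M.act g x = ap A (fr x) := by
  obtain ⟨p, q, r, t, h1 | h1⟩ := exists_mt M h hg
  · have hd := det_one M h N hg h1
    exact ⟨mk p q r t hd, Or.inl fun x => by rw [h1, mt_eq_ap hd]⟩
  · have hgg : g * g0 ∈ P := mul_mem hg hg0
    have h3 : ∀ x, M.act (g * g0) x = mt p q r t (mt (ent A0 0 0 * ent A0 0 0) (ent A0 0 1 * ent A0 0 1)
        (ent A0 1 0 * ent A0 1 0) (ent A0 1 1 * ent A0 1 1) x) := by
      intro x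
      rw [M.act_mul hg hg0, h0, h1, ap_eq_mt, fr_mt h.two, fr_fr h]
    have h4 := det_one M h N hgg (fun x => (h3 x).trans (mt_mt _ _ _ _ _ _ _ _ x))
    have h5 := det_eq A0
    have hd : p * t - q * r = 1 := by
      have h6 : (ent A0 0 0 * ent A0 0 0) * (ent A0 1 1 * ent A0 1 1) -
          (ent A0 0 1 * ent A0 0 1) * (ent A0 1 0 * ent A0 1 0) = 1 := by
        have h7 : ent A0 0 0 * ent A0 1 1 = 1 + ent A0 0 1 * ent A0 1 0 := by linear_combination h5
        linear_combination (ent A0 0 0 * ent A0 1 1 + 1 + ent A0 0 1 * ent A0 1 0) * h7 +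
          (ent A0 0 1 * ent A0 1 0) * h.two
      linear_combination h4 - (p * t - q * r) * h6
    exact ⟨mk p q r t hd, Or.inr fun x => by rw [h1, mt_eq_ap hd]⟩

/-- **Coordinates of `V` such that `P` acts on the points through `S₅`.** -/
structure AW (P V : Subgroup G) (W : B4 → G) : Prop where
  mul : ∀ x y, W (ad x y) = W x * W y
  inj : ∀ x y, W x = W y → x = y
  mem : ∀ x, W x ∈ V
  surj : ∀ v ∈ V, ∃ x, v = W x
  act : ∀ m ∈ P, ∃ σ : Equiv.Perm (Fin 5), ∀ a b c d, D4 a b c d →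
    m * W (tb a b c d) * m⁻¹ = W (tb (σ a) (σ b) (σ c) (σ d))
  full : ∀ σ : Equiv.Perm (Fin 5), ∃ m ∈ P, ∀ a b c d, D4 a b c d →
    m * W (tb a b c d) * m⁻¹ = W (tb (σ a) (σ b) (σ c) (σ d))

theorem AW.zero {W : B4 → G} (A : AW P V W) : W (false, false, false, false) = 1 := by
  have h1 := A.mul (false, false, false, false) (false, false, false, false)
  have h2 : ad (false, false, false, false) (false, false, false, false) =
    ((false, false, false, false) : B4) := rfl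
  rw [h2] at h1
  exact left_eq_mul.1 h1

theorem ad_self (x : B4) : ad x x = (false, false, false, false) := by
  obtain ⟨a, b, c, d⟩ := x
  simp [ad]

theorem ad_comm (x y : B4) : ad x y = ad y x := by
  simp only [ad, Bool.xor_comm]

theorem AW.sq {W : B4 → G} (A : AW P V W) (v : G) (hv : v ∈ V) : v * v = 1 := by
  obtain ⟨x, rfl⟩ := A.surj v hv
  rw [← A.mul, ad_self, A.zero]

theorem AW.comm {W : B4 → G} (A : AW P V W) (v : G) (hv : v ∈ V) (u : G) (hu : u ∈ V) : v * u = u * v := by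
  obtain ⟨x, rfl⟩ := A.surj v hv
  obtain ⟨y, rfl⟩ := A.surj u hu
  rw [← A.mul, ← A.mul, ad_comm]

theorem AW.card {W : B4 → G} (A : AW P V W) : Nat.card V = 16 := by
  have e : B4 ≃ V := Equiv.ofBijective (fun x => ⟨W x, A.mem x⟩) ⟨fun x y h => A.inj x y
    (congrArg Subtype.val h), fun v => by
      obtain ⟨x, hx⟩ := A.surj v v.2
      exact ⟨x, Subtype.ext hx.symm⟩⟩
  rw [← Nat.card_congr e, Nat.card_eq_fintype_card]
  rfl

/-- the labels -/
theorem AW.alp {W : B4 → G} (A : AW P V W) : Alp P V fun a b c d => W (tb a b c d) where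
  swap1 a b c d hd := by rw [tb_swap1 a b c d hd]
  swap2 a b c d hd := by rw [tb_swap2 a b c d hd]
  ne_one a b c d hd h := tb_ne a b c d hd (A.inj _ _ (h.trans A.zero.symm))
  mem a b c d _ := A.mem _
  sq := A.sq
  comm := A.comm
  card := A.card
  surj v hv h1 := by
    obtain ⟨x, rfl⟩ := A.surj v hv
    have hx : x ≠ (false, false, false, false) := by
      rintro rfl
      exact h1 A.zero
    obtain ⟨a, b, c, d, hd, e⟩ := tb_surj x hx
    exact ⟨a, b, c, d, hd, by rw [e]⟩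
  line4 a b c d hd := by rw [← A.mul, tb_line4 a b c d hd]
  line2 a b c d m hd := by rw [← A.mul, tb_line2 a b c d m hd]
  hyp a b c d m hd := by rw [← A.mul, tb_hyp a b c d m hd]
  act := A.act
  full := A.full

/-- conjugation by an element of `P` -/
theorem AW.conj {W : B4 → G} (A : AW P V W) (hV : P ≤ normalizer (V : Set G)) {m : G} (hm : m ∈ P) :
    AW P V fun x => m * W x * m⁻¹ where
  mul x y := by
    show m * W (ad x y) * m⁻¹ = _
    rw [A.mul]; group
  inj x y h := A.inj x y (by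
    have h1 : m * W x * m⁻¹ = m * W y * m⁻¹ := h
    exact mul_left_cancel (mul_right_cancel h1))
  mem x := (mem_normalizer_iff.1 (hV hm) _).1 (A.mem x)
  surj v hv := by
    have h1 := (mem_normalizer_iff.1 (hV (inv_mem hm)) v).1 hv
    obtain ⟨x, hx⟩ := A.surj _ h1
    exact ⟨x, by rw [← hx]; group⟩
  act g hg := by
    obtain ⟨σ, hσ⟩ := A.act (m⁻¹ * g * m) (mul_mem (mul_mem (inv_mem hm) hg) hm)
    refine ⟨σ, fun a b c d hd => ?_⟩
    rw [← hσ a b c d hd]; group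
  full σ := by
    obtain ⟨g, hg, hσ⟩ := A.full σ
    refine ⟨m * g * m⁻¹, mul_mem (mul_mem hm hg) (inv_mem hm), fun a b c d hd => ?_⟩
    rw [← hσ a b c d hd]; group

include M in
/-- **The coordinates.** -/
theorem exists_aw [Finite F] (h : W4 w) {S E : Subgroup G} {z : G} (N : Nt P V S E z) :
    ∃ W, AW P V W := by
  classical
  have h2 := h.two
  obtain ⟨M, g0, hg0, A0, h0⟩ := exists_frob_one M h N
  choose pv hpV hpπ using M.surj
  have hpinj : ∀ v ∈ V, ∀ x, M.π v = x → v = pv x := by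
    intro v hv x e
    exact π_inj M hv (hpV x) (by rw [hpπ, e])
  have hconj : ∀ g ∈ P, ∀ x y, M.act g x = y → g * pv x * g⁻¹ = pv y := by
    intro g hg x y e
    apply hpinj _ (M.Vn g hg _ (hpV x))
    rw [← M.act_π hg (hpV x), hpπ, e]
  have hmul : ∀ x y, pv x * pv y = pv (x + y) := by
    intro x y
    apply hpinj _ (mul_mem (hpV x) (hpV y))
    rw [M.map_mul _ (hpV x) _ (hpV y), hpπ, hpπ]
  have hVx : ∀ v ∈ V, v = pv (M.π v) := fun v hv => hpinj v hv _ rfl
  have hp0 : pv 0 = 1 := (hpinj 1 (one_mem V) 0 M.map_one).symm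
  have hp1 : ∀ x, x ≠ 0 → pv x ≠ 1 := by
    intro x hx e
    apply hx
    rw [← hpπ x, e, M.map_one]
  refine ⟨fun x => pv (ps w x), ?_, ?_, fun x => hpV _, ?_, ?_, ?_⟩
  · intro x y
    show pv (ps w (ad x y)) = pv (ps w x) * pv (ps w y)
    rw [hmul, ps_ad h]
  · intro x y e
    apply ps_inj h
    rw [← hpπ (ps w x), ← hpπ (ps w y)]
    exact congrArg _ e
  · intro v hv
    obtain ⟨x, hx⟩ := ps_surj h (M.π v)
    exact ⟨x, by rw [← hx]; exact hVx v hv⟩
  · intro m hm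
    obtain ⟨A, hA | hA⟩ := act_cases M h N hg0 h0 hm
    · obtain ⟨σ, hσ⟩ := exists_act h A
      exact ⟨σ, fun a b c d hd => hconj m hm _ _ (by rw [hA]; exact hσ a b c d hd)⟩
    · obtain ⟨σ, hσ⟩ := exists_act h A
      have h5 := hσ.comp (act_fr h)
      exact ⟨σ * Equiv.swap 3 4, fun a b c d hd => hconj m hm _ _ (by rw [hA]; exact h5 a b c d hd)⟩
  · -- the permutations induced by `P`
    let K : Subgroup (Equiv.Perm (Fin 5)) :=
      { carrier := {σ | ∃ m ∈ P, Act w (M.act m) σ}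
        mul_mem' := by
          rintro σ τ ⟨m, hm, hσ⟩ ⟨n, hn, hτ⟩
          refine ⟨m * n, mul_mem hm hn, ?_⟩
          have := hσ.comp hτ
          intro a b c d hd
          rw [M.act_mul hm hn]
          exact this a b c d hd
        one_mem' := ⟨1, one_mem P, fun a b c d _ => by rw [M.act_one]; rfl⟩
        inv_mem' := by
          rintro σ ⟨m, hm, hσ⟩
          refine ⟨m⁻¹, inv_mem hm, ?_⟩
          intro a b c d hd
          have h5 := hσ (σ⁻¹ a) (σ⁻¹ b) (σ⁻¹ c) (σ⁻¹ d) (D4.map hd σ⁻¹)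
          have hσi : ∀ i, σ (σ⁻¹ i) = i := fun i => by
            rw [← Equiv.Perm.mul_apply, mul_inv_cancel]; rfl
          rw [hσi, hσi, hσi, hσi] at h5
          rw [← h5, M.act_inv_act hm] }
    have hK : K = ⊤ := by
      rw [eq_top_iff, ← closure_top, closure_le]
      rintro σ hσ
      rcases hσ with rfl | hσ
      · obtain ⟨m, hm, hA⟩ := M.lift (up w * lo 1)
        refine ⟨m, hm, ?_⟩
        have h5 := (act_up_w h).comp (act_lo_one h)
        intro a b c d hd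
        rw [(M.ind_iff hm).1 hA, ap_mul]
        exact h5 a b c d hd
      · rw [Set.mem_singleton_iff] at hσ
        subst hσ
        obtain ⟨m, hm, hA⟩ := M.lift A0⁻¹
        refine ⟨m * g0, mul_mem hm hg0, ?_⟩
        intro a b c d hd
        rw [M.act_mul hm hg0, (M.ind_iff hm).1 hA, h0, ap_inv_ap]
        exact act_fr h a b c d hd
    intro σ
    have hσ : σ ∈ K := by rw [hK]; trivial
    obtain ⟨m, hm, h5⟩ := hσ
    exact ⟨m, hm, fun a b c d hd => hconj m hm _ _ (h5 a b c d hd)⟩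

theorem exists_alp [Finite F] (h : W4 w) {S E : Subgroup G} {z : G} (M : NatSec F P V ⊥)
    (N : Nt P V S E z) : ∃ Z, Alp P V Z := by
  obtain ⟨W, hW⟩ := exists_aw M h N
  exact ⟨_, hW.alp⟩

end Cfsg.Agent.Omega.NOne.AG.Tab

end

-- merged: Cfsg.Agent.Mrg.Omega.NOne.AG.Alpha
section

section


/-!
# D0ag, type (α): the labels from `Cfg` and `Nat4`

`exists_alp` : `Cfg S P`, `Nat4 S P` ⟹ `Alp P (zl S P) Z` and `zc S = ⟨Z 0 1 2 3⟩`.
-/

set_option autoImplicit false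
set_option linter.unusedSectionVars false

namespace Cfsg.Agent.Omega.NOne.AG

open Subgroup Cfsg Cfsg.Agent.ZN Cfsg.Agent.Omega.MinPar Cfsg.Agent.Omega.Frame
open Cfsg.Agent.Omega.NO1 Cfsg.Agent.Omega.SQ1.FFOne
open Cfsg.Agent.Omega.NoFF.LinesPlug (CC)
open Cfsg.Agent.Omega.FrameFF (NatOver)
open Cfsg.Agent.Omega.NOne.AG.Tab (D4.map)

universe u

variable {G : Type u} [Group G]

theorem Tab.D5.map {a b c d m : Fin 5} (h : D5 a b c d m) (σ : Equiv.Perm (Fin 5)) :
    D5 (σ a) (σ b) (σ c) (σ d) (σ m) := by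
  obtain ⟨h0, h1, h2, h3, h4⟩ := h
  exact ⟨Tab.D4.map h0 σ, σ.injective.ne h1, σ.injective.ne h2, σ.injective.ne h3, σ.injective.ne h4⟩

/-- relabelling -/
theorem Alp.relabel {P V : Subgroup G} {Z : Fin 5 → Fin 5 → Fin 5 → Fin 5 → G} (A : Alp P V Z)
    (τ : Equiv.Perm (Fin 5)) : Alp P V fun a b c d => Z (τ a) (τ b) (τ c) (τ d) where
  swap1 a b c d hd := A.swap1 _ _ _ _ (Tab.D4.map hd τ)
  swap2 a b c d hd := A.swap2 _ _ _ _ (Tab.D4.map hd τ)
  ne_one a b c d hd := A.ne_one _ _ _ _ (Tab.D4.map hd τ)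
  mem a b c d hd := A.mem _ _ _ _ (Tab.D4.map hd τ)
  sq := A.sq
  comm := A.comm
  card := A.card
  surj v hv h1 := by
    obtain ⟨a, b, c, d, hd, e⟩ := A.surj v hv h1
    refine ⟨τ.symm a, τ.symm b, τ.symm c, τ.symm d, Tab.D4.map hd τ.symm, ?_⟩
    rw [e]
    simp only [Equiv.apply_symm_apply]
  line4 a b c d hd := A.line4 _ _ _ _ (Tab.D4.map hd τ)
  line2 a b c d m hd := A.line2 _ _ _ _ _ (Tab.D5.map hd τ)
  hyp a b c d m hd := A.hyp _ _ _ _ _ (Tab.D5.map hd τ)
  act m hm := by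
    obtain ⟨σ, hσ⟩ := A.act m hm
    refine ⟨τ⁻¹ * σ * τ, fun a b c d hd => ?_⟩
    have hτ : ∀ i, τ ((τ⁻¹ * σ * τ) i) = σ (τ i) := fun i => by
      rw [← Equiv.Perm.mul_apply, ← Equiv.Perm.mul_apply]
      congr 1
      group
    rw [hσ _ _ _ _ (Tab.D4.map hd τ), hτ, hτ, hτ, hτ]
  full σ := by
    obtain ⟨m, hm, hσ⟩ := A.full (τ * σ * τ⁻¹)
    refine ⟨m, hm, fun a b c d hd => ?_⟩
    have hτ : ∀ i, (τ * σ * τ⁻¹) (τ i) = τ (σ i) := fun i => by
      rw [← Equiv.Perm.mul_apply, ← Equiv.Perm.mul_apply]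
      congr 1
      group
    rw [hσ _ _ _ _ (Tab.D4.map hd τ), hτ, hτ, hτ, hτ]

/-- a permutation mapping `0, 1, 2, 3` to `a, b, c, d` -/
theorem exists_perm {a b c d : Fin 5} (h : D4 a b c d) :
    ∃ τ : Equiv.Perm (Fin 5), τ 0 = a ∧ τ 1 = b ∧ τ 2 = c ∧ τ 3 = d := by
  have hinj : Function.Injective ![a, b, c, d, -(a + b + c + d)] := by
    revert a b c d
    decide +kernel
  exact ⟨Equiv.ofBijective _ (Finite.injective_iff_bijective.1 hinj), rfl, rfl, rfl, rfl⟩

variable [Finite G]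

/-- **`Cfg S P`, `Nat4 S P`: the coordinates.** -/
theorem exists_aw {S : Sylow 2 G} {P : Subgroup G} (h : Cfg S P) (hN : Nat4 (S : Subgroup G) P) :
    ∃ W, Tab.AW P (zl (S : Subgroup G) P) W ∧ zc (S : Subgroup G) = zpowers (W (Tab.tb 0 1 2 3)) := by
  obtain ⟨⟨F, iF, iFin, iC, hF, ⟨M0⟩⟩, hZ, hind⟩ := hN
  obtain ⟨w, hw⟩ := Tab.exists_w4 (F := F) hF
  let M : NatSec F P (zl (S : Subgroup G) P) ⊥ :=
    { π := M0.e
      map_mul := M0.mul
      V0V := bot_le
      ker := M0.ker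
      surj := M0.surj
      Vn := fun g hg v hv => (mem_normalizer_iff.1 (Cfg.P_norm_V S P hg) v).1 hv
      V0n := fun g _ v hv => by
        rw [mem_bot] at hv ⊢
        rw [hv]; group
      lift := fun A => by
        obtain ⟨g, hg, hA, -⟩ := M0.lift A
        exact ⟨g, hg, hA⟩
      norm := M0.norm }
  -- the generator of `zc S`
  have hcyc : ∃ z : G, z ≠ 1 ∧ zc (S : Subgroup G) = zpowers z := by
    have : Fact (Nat.Prime 2) := ⟨Nat.prime_two⟩
    have hc : IsCyclic (zc (S : Subgroup G)) := isCyclic_of_prime_card hZ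
    obtain ⟨⟨z, hz⟩, hg⟩ := hc.exists_generator
    have he : zc (S : Subgroup G) = zpowers z := by
      apply le_antisymm
      · intro x hx
        obtain ⟨n, hn⟩ := mem_zpowers_iff.1 (hg ⟨x, hx⟩)
        rw [mem_zpowers_iff]
        exact ⟨n, by simpa using congrArg Subtype.val hn⟩
      · rw [zpowers_le]; exact hz
    refine ⟨z, ?_, he⟩
    rintro rfl
    rw [he, zpowers_one_eq_bot, card_bot] at hZ
    omega
  obtain ⟨z, hz1, hz⟩ := hcyc
  have hzS : z ∈ zc (S : Subgroup G) := by rw [hz]; exact mem_zpowers z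
  have hzz : z * z = 1 := by
    have := MinSimple.VModule.zc_sq (S : Subgroup G) z hzS
    rwa [pow_two] at this
  have hmem : ∀ v, v ∈ zc (S : Subgroup G) ↔ v = 1 ∨ v = z := by
    intro v
    rw [hz, mem_zpowers_iff]
    constructor
    · rintro ⟨n, rfl⟩
      rcases Int.even_or_odd' n with ⟨k, rfl | rfl⟩
      · left; rw [zpow_mul, zpow_two, hzz, one_zpow]
      · right; rw [zpow_add, zpow_mul, zpow_two, hzz, one_zpow, one_mul, zpow_one]
    · rintro (rfl | rfl)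
      · exact ⟨0, zpow_zero _⟩
      · exact ⟨1, zpow_one _⟩
  have hN' : Tab.Nt P (zl (S : Subgroup G) P) (S : Subgroup G) (EE (S : Subgroup G) P) z :=
    { S_le := h.S_le
      zV := h.Z_le_V hzS
      z_ne := hz1
      comm := by
        intro s hs
        have := (zc_le (S : Subgroup G)) hzS
        exact (mem_centralizer_iff.1 (le_centralizer_zc (S : Subgroup G) hs) z hzS).symm
      uniq := by
        intro v hv hc
        rw [← hmem, mem_zc]
        exact ⟨h.V_le_S hv, hc, h.V_sq v hv⟩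
      E_le := inf_le_left
      ind := hind
      inv := by
        intro m hm hmz e he
        refine ⟨(mem_normalizer_iff.1 (Cfg.P_norm_V S P hm) e).1 he.1, ?_⟩
        have hmC : m ∈ CC (S : Subgroup G) := by
          refine mem_centralizer_iff.2 fun v hv => ?_
          rcases (hmem v).1 hv with rfl | rfl
          · simp
          · exact hmz.symm
        exact conj_mem_of_norm (ZN.ChoiceSit.le_normalizer_o2 _ hmC) he.2 }
  obtain ⟨W, A⟩ := Tab.exists_aw M hw hN'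
  obtain ⟨a, b, c, d, hd, e⟩ := A.alp.surj z hN'.zV hz1
  obtain ⟨τ, h0, h1, h2, h3⟩ := exists_perm hd
  obtain ⟨m, hm, hτ⟩ := A.full τ
  refine ⟨_, A.conj (Cfg.P_norm_V S P) hm, ?_⟩
  rw [hz, e, hτ 0 1 2 3 (by decide), h0, h1, h2, h3]

/-- **`Cfg S P`, `Nat4 S P`: the labels.** -/
theorem exists_alp {S : Sylow 2 G} {P : Subgroup G} (h : Cfg S P) (hN : Nat4 (S : Subgroup G) P) :
    ∃ Z, Alp P (zl (S : Subgroup G) P) Z ∧ zc (S : Subgroup G) = zpowers (Z 0 1 2 3) := by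
  obtain ⟨W, A, hz⟩ := exists_aw h hN
  exact ⟨_, A.alp, hz⟩

end Cfsg.Agent.Omega.NOne.AG

end

section


/-!
# D0ag, type (α): the facts on `(P / C_P(V), V)`

`AW P V W` : coordinates `W : B4 → G` of `V` such that `P` acts on the points `W (tb a b c d)` as `S₅`.
`sA σ` : the action of `σ` on the coordinates, `f0` : the functional with kernel `z^⊥`.
-/

set_option autoImplicit false
set_option linter.unusedSectionVars false

namespace Cfsg.Agent.Omega.NOne.AG.Tab

open Subgroup Cfsg Cfsg.Agent.ZN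

universe u

/-- `0` -/
abbrev b0 : B4 := (false, false, false, false)

/-- the linear map with given images of the basis -/
def lin (c1 c2 c3 c4 x : B4) : B4 :=
  ad (if x.1 then c1 else b0) (ad (if x.2.1 then c2 else b0)
    (ad (if x.2.2.1 then c3 else b0) (if x.2.2.2 then c4 else b0)))

/-- the action of `σ` -/
def sA (σ : Equiv.Perm (Fin 5)) (x : B4) : B4 :=
  lin (tb (σ 1) (σ 2) (σ 3) (σ 4)) (tb (σ 1) (σ 4) (σ 2) (σ 3)) (tb (σ 0) (σ 2) (σ 3) (σ 4))
    (tb (σ 0) (σ 3) (σ 2) (σ 4)) x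

/-- the functional with kernel `z^⊥`, `z = z_{01|23}` -/
def f0 (x : B4) : Bool := xor x.1 (xor x.2.2.1 x.2.2.2)

/-- the coordinates of `z` -/
abbrev z0 : B4 := tb 0 1 2 3

/-- the stabiliser of `z` -/
def st (i j k : Bool) : Equiv.Perm (Fin 5) :=
  (if i then Equiv.swap 0 1 else 1) * (if j then Equiv.swap 2 3 else 1) *
    (if k then Equiv.swap 0 2 * Equiv.swap 1 3 else 1)

theorem st_z0 : ∀ i j k, sA (st i j k) z0 = z0 := by decide +kernel

theorem st_trans : ∀ x y : B4, f0 x = true → f0 y = true → ∃ i j k, y = sA (st i j k) x := by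
  decide +kernel

theorem sA_faith : ∀ σ : Equiv.Perm (Fin 5), (∀ x, f0 x = false → sA σ x = x) → σ = 1 := by
  decide +kernel

theorem sA_symm : ∀ σ : Equiv.Perm (Fin 5), f0 (sA σ z0) = true → f0 (sA σ⁻¹ z0) = true := by
  decide +kernel

theorem exists_pt : ∀ x : B4, x ≠ b0 → ∃ a b c d, D4 a b c d ∧ x = tb a b c d := tb_surj

theorem sA_swap : ∀ x, (f0 x = false → sA (Equiv.swap 0 1) x = x ∨ sA (Equiv.swap 0 1) x = ad z0 x) ∧
    (f0 x = false → sA (Equiv.swap 2 3) x = x ∨ sA (Equiv.swap 2 3) x = ad z0 x) := by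
  decide +kernel

/-- a 5-cycle from four transpositions -/
def cyc (σ : Equiv.Perm (Fin 5)) : Equiv.Perm (Fin 5) :=
  Equiv.swap 0 1 * Equiv.swap 2 3 * (Equiv.swap (σ 0) (σ 1) * Equiv.swap (σ 2) (σ 3))

theorem cyc_spec : ∀ σ : Equiv.Perm (Fin 5), f0 (sA σ z0) = true →
    (∀ y : Fin 5, ∃ n : Fin 5, ((cyc σ) ^ n.1) 0 = y) ∧ (cyc σ).support = Finset.univ := by
  decide +kernel

theorem sA_one : ∀ x, lin (tb 1 2 3 4) (tb 1 4 2 3) (tb 0 2 3 4) (tb 0 3 2 4) x = x := by decide +kernel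

theorem f0_split : ∀ x, f0 x = false → ∃ y, f0 y = true ∧ f0 (ad x y) = true ∧ ad (ad x y) y = x := by
  decide +kernel

theorem f0_one : f0 (true, false, false, false) = true := rfl

variable {G : Type u} [Group G] {P V : Subgroup G} {W : B4 → G}

theorem AW.W_lin (A : AW P V W) (c1 c2 c3 c4 x : B4) : W (lin c1 c2 c3 c4 x) =
    (if x.1 then W c1 else 1) * ((if x.2.1 then W c2 else 1) *
      ((if x.2.2.1 then W c3 else 1) * (if x.2.2.2 then W c4 else 1))) := by
  have h : ∀ (b : Bool) (c : B4), W (if b then c else b0) = if b then W c else 1 := by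
    intro b c
    cases b
    · simpa using A.zero
    · simp
  rw [lin, A.mul, A.mul, A.mul, h, h, h, h]

/-- an element over `σ` acts as `sA σ` -/
theorem AW.conj_eq (A : AW P V W) {m : G} {σ : Equiv.Perm (Fin 5)}
    (hσ : ∀ a b c d, D4 a b c d → m * W (tb a b c d) * m⁻¹ = W (tb (σ a) (σ b) (σ c) (σ d))) (x : B4) :
    m * W x * m⁻¹ = W (sA σ x) := by
  have hif : ∀ (b : Bool) (u v : G), m * u * m⁻¹ = v →
      m * (if b then u else 1) * m⁻¹ = if b then v else 1 := by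
    intro b u v h
    cases b
    · simp
    · simpa using h
  rw [sA, A.W_lin]
  nth_rewrite 1 [← sA_one x]
  rw [A.W_lin]
  rw [← hif x.1 _ _ (hσ 1 2 3 4 (by decide)), ← hif x.2.1 _ _ (hσ 1 4 2 3 (by decide)),
    ← hif x.2.2.1 _ _ (hσ 0 2 3 4 (by decide)), ← hif x.2.2.2 _ _ (hσ 0 3 2 4 (by decide))]
  group

/-- `m` acts as `σ` on the points -/
def Ovz (W : B4 → G) (m : G) (σ : Equiv.Perm (Fin 5)) : Prop := ∀ a b c d, D4 a b c d →
  m * W (tb a b c d) * m⁻¹ = W (tb (σ a) (σ b) (σ c) (σ d))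

theorem Ovz.one : Ovz W 1 1 := fun a b c d _ => by simp

theorem Ovz.mul {m n : G} {σ τ : Equiv.Perm (Fin 5)} (h1 : Ovz W m σ) (h2 : Ovz W n τ) :
    Ovz W (m * n) (σ * τ) := by
  intro a b c d hd
  have h3 := h2 a b c d hd
  have h4 := h1 _ _ _ _ (D4.map hd τ)
  rw [← h3] at h4
  rw [show (σ * τ) a = σ (τ a) from rfl, show (σ * τ) b = σ (τ b) from rfl,
    show (σ * τ) c = σ (τ c) from rfl, show (σ * τ) d = σ (τ d) from rfl, ← h4]
  group

theorem Ovz.inv {m : G} {σ : Equiv.Perm (Fin 5)} (h : Ovz W m σ) : Ovz W m⁻¹ σ⁻¹ := by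
  intro a b c d hd
  have h5 := h (σ⁻¹ a) (σ⁻¹ b) (σ⁻¹ c) (σ⁻¹ d) (D4.map hd σ⁻¹)
  have hσi : ∀ i, σ (σ⁻¹ i) = i := fun i => by
    rw [← Equiv.Perm.mul_apply, mul_inv_cancel]; rfl
  rw [hσi, hσi, hσi, hσi] at h5
  rw [← h5]; group

/-- the hyperplane `E = z^⊥` -/
theorem AW.mem_E (A : AW P V W) {E : Subgroup G} (_hE : E ≤ V) (hi : E.relIndex V = 2)
    (hn : ∀ m ∈ P, m * W z0 = W z0 * m → ∀ e ∈ E, m * e * m⁻¹ ∈ E) (x : B4) :
    W x ∈ E ↔ f0 x = false := by
  have hidx : ∀ u ∈ V, ∀ v ∈ V, u ∉ E → v ∉ E → u * v ∈ E := by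
    intro u hu v hv h1 h3
    have h4 : (E.subgroupOf V).index = 2 := hi
    have h5 := Subgroup.mul_mem_iff_of_index_two h4 (a := ⟨u, hu⟩) (b := ⟨v, hv⟩)
    rw [mem_subgroupOf, mem_subgroupOf, mem_subgroupOf] at h5
    exact h5.2 ⟨fun h => absurd h h1, fun h => absurd h h3⟩
  -- no `x` with `f0 x = true` is in `E`
  have key : ∀ x, f0 x = true → W x ∉ E := by
    intro x hx hxE
    have hall : ∀ y, f0 y = true → W y ∈ E := by
      intro y hy
      obtain ⟨i, j, k, e⟩ := st_trans x y hx hy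
      obtain ⟨m, hm, hσ⟩ := A.full (st i j k)
      have h1 := A.conj_eq hσ
      have h2 : m * W z0 = W z0 * m := by
        have := h1 z0
        rw [st_z0] at this
        rwa [mul_inv_eq_iff_eq_mul] at this
      have h3 := hn m hm h2 _ hxE
      rwa [h1, ← e] at h3
    have htop : V ≤ E := by
      intro v hv
      obtain ⟨y, rfl⟩ := A.surj v hv
      by_cases hy : f0 y = true
      · exact hall y hy
      · rw [Bool.not_eq_true] at hy
        obtain ⟨u, hu, h1, h2⟩ := f0_split y hy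
        rw [← h2, A.mul]
        exact mul_mem (hall _ h1) (hall _ hu)
    rw [relIndex_eq_one.2 htop] at hi
    omega
  constructor
  · intro h
    by_contra hcon
    rw [Bool.not_eq_false] at hcon
    exact key x hcon h
  · intro h
    obtain ⟨u, hu, h1, h2⟩ := f0_split x h
    rw [← h2, A.mul]
    exact hidx _ (A.mem _) _ (A.mem _) (key _ h1) (key _ hu)

end Cfsg.Agent.Omega.NOne.AG.Tab

namespace Cfsg.Agent.Omega.NOne.AG

open Subgroup Cfsg Cfsg.Agent.ZN Tab

universe u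

variable {G : Type u} [Group G] {P V : Subgroup G} {W : B4 → G}

theorem tri_aux : ∃ σ τ : Equiv.Perm (Fin 5), f0 (sA σ z0) = true ∧ f0 (sA τ z0) = true ∧
    f0 (sA (σ⁻¹ * τ) z0) = true := by
  refine ⟨Equiv.swap 0 2 * Equiv.swap 1 4, Equiv.swap 0 2 * Equiv.swap 3 4, ?_, ?_, ?_⟩
  all_goals decide +kernel

/-- **The facts for type (α).** -/
theorem Tab.AW.facts (A : AW P V W) {E : Subgroup G} (hE : E ≤ V) (hi : E.relIndex V = 2)
    (hn : ∀ m ∈ P, m * W z0 = W z0 * m → ∀ e ∈ E, m * e * m⁻¹ ∈ E) : Facts P V E (W z0) := by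
  have mE := A.mem_E hE hi hn
  refine ⟨?_, ?_, ?_, ?_⟩
  · intro x hx hc v hv
    obtain ⟨σ, hσ⟩ := A.act x hx
    have h1 := A.conj_eq hσ
    have h2 : σ = 1 := by
      apply sA_faith
      intro y hy
      apply A.inj
      rw [← h1, hc _ ((mE y).2 hy)]; group
    obtain ⟨y, rfl⟩ := A.surj v hv
    have h3 := h1 y
    have h4 : sA 1 y = y := sA_one y
    rw [h2, h4] at h3
    rwa [mul_inv_eq_iff_eq_mul] at h3
  · intro m hm h
    obtain ⟨σ, hσ⟩ := A.act m hm
    have h1 := A.conj_eq hσ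
    rw [h1, mE, Bool.not_eq_false] at h
    have h2 := A.conj_eq (Ovz.inv hσ) z0
    rw [inv_inv] at h2
    rw [h2, mE, Bool.not_eq_false]
    exact sA_symm σ h
  · intro m hm h B hB hcov n hn'
    obtain ⟨σ, hσ⟩ := A.act m hm
    rw [A.conj_eq hσ, mE, Bool.not_eq_false] at h
    -- the permutations induced by `B ⊔ B^m`
    let K : Subgroup (Equiv.Perm (Fin 5)) :=
      { carrier := {τ | ∃ x ∈ B ⊔ B.map (MulAut.conj m).toMonoidHom, Ovz W x τ}
        mul_mem' := by
          rintro τ τ' ⟨x, hx, h1⟩ ⟨y, hy, h2⟩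
          exact ⟨x * y, mul_mem hx hy, h1.mul h2⟩
        one_mem' := ⟨1, one_mem _, Ovz.one⟩
        inv_mem' := by
          rintro τ ⟨x, hx, h1⟩
          exact ⟨x⁻¹, inv_mem hx, h1.inv⟩ }
    have hsw : ∀ a b : Fin 5, (∀ x, f0 x = false → sA (Equiv.swap a b) x = x ∨
        sA (Equiv.swap a b) x = ad z0 x) → ∃ y ∈ B, Ovz W y (Equiv.swap a b) := by
      intro a b hab
      obtain ⟨x, hx, h1⟩ := A.full (Equiv.swap a b)
      have h1' := A.conj_eq h1
      obtain ⟨y, hy, h2⟩ := hcov x hx (by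
        intro e he
        obtain ⟨u, rfl⟩ := A.surj e (hE he)
        rcases hab u ((mE u).1 he) with h3 | h3
        · left
          have h4 := h1' u
          rw [h3] at h4
          rwa [mul_inv_eq_iff_eq_mul] at h4
        · right
          have h4 := h1' u
          rw [h3, A.mul] at h4
          rw [mul_inv_eq_iff_eq_mul] at h4
          rw [h4, mul_assoc])
      refine ⟨y, hy, fun a b c d hd => ?_⟩
      rw [h2 _ (A.mem _), h1 a b c d hd]
    have hK : K = ⊤ := by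
      obtain ⟨hc1, hc2⟩ := cyc_spec σ h
      obtain ⟨y1, hy1, h1⟩ := hsw 0 1 fun x hx => (sA_swap x).1 hx
      obtain ⟨y2, hy2, h2⟩ := hsw 2 3 fun x hx => (sA_swap x).2 hx
      have hk1 : Equiv.swap 0 1 ∈ K := ⟨y1, (le_sup_left : B ≤ _) hy1, h1⟩
      have hk2 : Equiv.swap 2 3 ∈ K := ⟨y2, (le_sup_left : B ≤ _) hy2, h2⟩
      have hconj : ∀ a b : Fin 5, (σ * Equiv.swap a b) * σ⁻¹ = Equiv.swap (σ a) (σ b) := by
        intro a b
        rw [Equiv.mul_swap_eq_swap_mul, mul_assoc, mul_inv_cancel, mul_one]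
      have hk3 : Equiv.swap (σ 0) (σ 1) ∈ K := by
        refine ⟨m * y1 * m⁻¹, (le_sup_right : B.map (MulAut.conj m).toMonoidHom ≤ _)
          ⟨y1, hy1, rfl⟩, ?_⟩
        rw [← hconj]
        exact (Ovz.mul hσ h1).mul (Ovz.inv hσ)
      have hk4 : Equiv.swap (σ 2) (σ 3) ∈ K := by
        refine ⟨m * y2 * m⁻¹, (le_sup_right : B.map (MulAut.conj m).toMonoidHom ≤ _)
          ⟨y2, hy2, rfl⟩, ?_⟩
        rw [← hconj]
        exact (Ovz.mul hσ h2).mul (Ovz.inv hσ)
      have hcy : cyc σ ∈ K := mul_mem (mul_mem hk1 hk2) (mul_mem hk3 hk4)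
      have hcl : Subgroup.closure ({cyc σ, Equiv.swap 0 1} : Set (Equiv.Perm (Fin 5))) = ⊤ := by
        apply Equiv.Perm.closure_prime_cycle_swap
        · rw [Fintype.card_fin]; norm_num
        · refine ⟨0, ?_, ?_⟩
          · have : (0 : Fin 5) ∈ (cyc σ).support := by rw [hc2]; exact Finset.mem_univ _
            exact Equiv.Perm.mem_support.1 this
          · intro y _
            obtain ⟨n, hn⟩ := hc1 y
            exact ⟨n.1, by rw [zpow_natCast]; exact hn⟩
        · exact hc2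
        · exact ⟨0, 1, by decide, rfl⟩
      rw [eq_top_iff, ← hcl, closure_le]
      rintro τ (rfl | hτ)
      · exact hcy
      · rw [Set.mem_singleton_iff] at hτ
        rw [hτ]; exact hk1
    obtain ⟨τ, hτ⟩ := A.act n hn'
    have hτK : τ ∈ K := by rw [hK]; trivial
    obtain ⟨x, hx, h1⟩ := hτK
    refine ⟨x, hx, ?_⟩
    rw [A.conj_eq h1, A.conj_eq hτ]
  · obtain ⟨σ, τ, h1, h2, h3⟩ := tri_aux
    obtain ⟨m, hm, hσ⟩ := A.full σ
    obtain ⟨n, hn', hτ⟩ := A.full τ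
    refine ⟨m, hm, n, hn', ?_, ?_, ?_⟩
    · rw [A.conj_eq hσ, mE, h1]; decide
    · rw [A.conj_eq hτ, mE, h2]; decide
    · rw [A.conj_eq ((Ovz.inv hσ).mul hτ), mE, h3]; decide

end Cfsg.Agent.Omega.NOne.AG

end

end

-- merged: Cfsg.Agent.Mrg.Omega.NOne.AG.FactsPlus
section

section


/-!
# THEOREM D0ag (bb #15001): the facts on `(γ)` (helper654)

`S, P` a configuration of N1 of type `(γ)` (`V = O₄⁺(2)`), `|V : V ∩ Q| = 2`:

* `card_E` : `|V ∩ Q| = 8`, `V ∩ Q = z^⊥`;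
* `stab` : `P ∩ C(z) = S C_P(V)`; `ind` : `|S : C_S(V)| = 8`;
* `facts` : `Facts P V (V ∩ Q) z`.
-/

set_option autoImplicit false
set_option linter.unusedSectionVars false

namespace Cfsg.Agent.Omega.NOne.AG.FactsPlus

open Subgroup Cfsg Cfsg.Agent.ZN Cfsg.Agent.Omega.MinPar Cfsg.Agent.Omega.Frame
open Cfsg.Agent.Omega.NoFF.LinesPlug (CC)
open Cfsg.Agent.Omega.NO1 (Cfg Plus2 EE)
open Cfsg.Agent.Omega.NOne.DPlus
open Cfsg.Agent.Omega.NOne.DPlusPts
open Cfsg.Agent.Omega.NOne.PlusVec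

universe u

/-- the elements of `S₃ ≀ 2` -/
def pi (b : Bool) (σ τ : Fin 3 → Fin 3) (p : Fin 3 × Fin 3) : Fin 3 × Fin 3 :=
  (σ (if b then p.2 else p.1), τ (if b then p.1 else p.2))

/-- the nine points as a family on `Fin 3 × Fin 3` -/
def zz {G : Type u} (z : Fin 3 → Fin 3 → G) (p : Fin 3 × Fin 3) : G := z p.1 p.2

theorem row_of {G : Type u} [Group G] {z : Fin 3 → G} (hs : ∀ i, z i * z i = 1) (hc : ∀ i j, z i * z j = z j * z i)
    (h : z 0 * z 1 * z 2 = 1) : ∀ b c, b ≠ c → z b * z c = z (t b c) := by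
  have h01 : z 0 * z 1 = z 2 := by
    have h1 := eq_inv_of_mul_eq_one_left h
    rwa [inv_eq_of_mul_eq_one_left (hs 2)] at h1
  have h02 : z 0 * z 2 = z 1 := by
    rw [← h01, ← mul_assoc, hs, one_mul]
  have h12 : z 1 * z 2 = z 0 := by
    rw [← h01, hc 0 1, ← mul_assoc, hs, one_mul]
  intro b c hbc
  fin_cases b <;> fin_cases c
  · exact absurd rfl hbc
  · exact h01
  · exact h02
  · exact (hc 1 0).trans h01
  · exact absurd rfl hbc
  · exact h12
  · exact (hc 2 0).trans h02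
  · exact (hc 2 1).trans h12
  · exact absurd rfl hbc

section

variable {G : Type u} [Group G] {S P : Subgroup G} {z : Fin 3 → Fin 3 → G}

theorem grid (h : Plus2 S P z) : Grid (zz z) where
  inj := by
    rintro ⟨a, b⟩ ⟨c, d⟩ e
    obtain ⟨h1, h2⟩ := h.inj a b c d e
    rw [h1, h2]
  ne_one p := h.ne_one _ _
  sq p := h.sq _ _
  comm p q := h.comm _ _ _ _
  row a b c hbc := row_of (z := z a) (fun i => h.sq a i) (fun i j => h.comm a i a j) (h.row a) b c hbc
  col a b c hbc := row_of (z := fun i => z i a) (fun i => h.sq i a) (fun i j => h.comm i a j a) (h.col a) b c hbc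

theorem pts (h : Plus2 S P z) : DPlusPts.Pts P (zl S P) (zz z) where
  mem p := by
    rw [← h.gen]
    exact subset_closure ⟨p, rfl⟩
  gen := h.gen.ge
  grid := grid h
  perm m hm p := by
    obtain ⟨σ, τ, h1 | h1⟩ := h.perm m hm
    · exact ⟨(σ p.1, τ p.2), h1 p.1 p.2⟩
    · exact ⟨(σ p.2, τ p.1), h1 p.1 p.2⟩
  big σ τ := by
    obtain ⟨m, hm, h1⟩ := h.full σ τ
    exact ⟨m, hm, fun x y => h1 x y⟩

theorem exists_pi (h : Plus2 S P z) {m : G} (hm : m ∈ P) : ∃ (b : Bool) (σ τ : Equiv.Perm (Fin 3)),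
    Has (zz z) m (pi b σ τ) := by
  obtain ⟨σ, τ, h1 | h1⟩ := h.perm m hm
  · exact ⟨false, σ, τ, fun p => h1 p.1 p.2⟩
  · exact ⟨true, σ, τ, fun p => h1 p.1 p.2⟩

theorem exists_has (h : Plus2 S P z) (b : Bool) (σ τ : Equiv.Perm (Fin 3)) :
    ∃ m ∈ P, Has (zz z) m (pi b σ τ) := by
  obtain ⟨m, hm, h1⟩ := h.full σ τ
  cases b
  · exact ⟨m, hm, fun p => h1 p.1 p.2⟩
  · obtain ⟨w, hw, h2⟩ := h.swap
    refine ⟨m * w, mul_mem hm hw, fun p => ?_⟩
    have h3 : m * w * zz z p * (m * w)⁻¹ = m * (w * z p.1 p.2 * w⁻¹) * m⁻¹ := by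
      show m * w * z p.1 p.2 * (m * w)⁻¹ = _
      group
    rw [h3, h2, h1]
    rfl

theorem pi_act8 {b : Bool} {σ τ : Equiv.Perm (Fin 3)} (h : pi b σ τ (0, 0) = (0, 0)) :
    ∃ i j, pi b σ τ = act8 b i j := by
  have h0 : pi b σ τ (0, 0) = (σ 0, τ 0) := by cases b <;> rfl
  rw [h0] at h
  have h1 : σ 0 = 0 := congrArg Prod.fst h
  have h2 : τ 0 = 0 := congrArg Prod.snd h
  have key : ∀ ρ : Equiv.Perm (Fin 3), ρ 0 = 0 → ∃ i : Bool, ∀ x, ρ x = if i then t 0 x else x := by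
    intro ρ hρ
    rcases perm_cases ρ hρ with h3 | h3
    · exact ⟨false, fun x => by simpa using h3 x⟩
    · exact ⟨true, fun x => by simpa using h3 x⟩
  obtain ⟨i, hi⟩ := key σ h1
  obtain ⟨j, hj⟩ := key τ h2
  refine ⟨i, j, ?_⟩
  funext p
  rw [pi, act8, hi, hj]

/-- the transposition `t a` -/
def tp (a : Fin 3) : Equiv.Perm (Fin 3) := ⟨t a, t a, fun x => t_t a x, fun x => t_t a x⟩

/-- a power of `t a` with exponent a bit -/
def tpow (i : Bool) (a : Fin 3) : Equiv.Perm (Fin 3) := if i then tp a else 1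

theorem act8_eq_pi (b i j : Bool) : act8 b i j = pi b (tpow i 0) (tpow j 0) := by
  funext p
  cases i <;> cases j <;> rfl

/-- the elements of `P` centralising `z` act as elements of `D₈` -/
theorem exists_act8 (h : Plus2 S P z) {m : G} (hm : m ∈ P) (hc : m * z 0 0 = z 0 0 * m) :
    ∃ b i j, Has (zz z) m (act8 b i j) := by
  obtain ⟨b, σ, τ, h1⟩ := exists_pi h hm
  have h2 : pi b σ τ (0, 0) = (0, 0) := by
    apply (grid h).inj
    rw [← h1]
    show m * z 0 0 * m⁻¹ = z 0 0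
    rw [hc, mul_inv_cancel_right]
  obtain ⟨i, j, h3⟩ := pi_act8 h2
  exact ⟨b, i, j, h3 ▸ h1⟩

theorem has_comm (h : Plus2 S P z) {m : G} (h1 : Has (zz z) m (fun p => p)) :
    ∀ v ∈ zl S P, m * v = v * m := by
  intro v hv
  rw [← h.gen] at hv
  induction hv using closure_induction with
  | mem x hx =>
    obtain ⟨p, rfl⟩ := hx
    have h2 := h1 p
    have h3 : m * zz z p = zz z p * m := by
      calc m * zz z p = m * zz z p * m⁻¹ * m := by group
        _ = _ := by rw [h2]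
    exact h3
  | one => rw [mul_one, one_mul]
  | mul a b _ _ ha hb =>
    calc m * (a * b) = (m * a) * b := by group
      _ = a * (m * b) := by rw [ha]; group
      _ = a * b * m := by rw [hb]; group
  | inv a _ ha =>
    calc m * a⁻¹ = a⁻¹ * (a * m) * a⁻¹ := by group
      _ = a⁻¹ * m := by rw [← ha]; group

theorem has_of_comm (h : Plus2 S P z) {m : G} (h1 : ∀ v ∈ zl S P, m * v = v * m) :
    Has (zz z) m (fun p => p) := by
  intro p
  show m * zz z p * m⁻¹ = zz z p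
  rw [h1 _ ((pts h).mem p), mul_inv_cancel_right]

end

/-- `P₀ = S K` if `S` is Sylow and `P₀ / K` is a 2-group. -/
theorem exists_sc {G : Type u} [Group G] [Finite G] (S : Sylow 2 G) {P₀ K : Subgroup G}
    (hS : (S : Subgroup G) ≤ P₀) (hK : K ≤ P₀) (hn : P₀ ≤ normalizer (K : Set G))
    (h2 : ∀ x ∈ P₀, ∃ n : ℕ, x ^ 2 ^ n ∈ K) {x : G} (hx : x ∈ P₀) :
    ∃ s ∈ (S : Subgroup G), ∃ c ∈ K, x = s * c := by
  have hf : Fact (Nat.Prime 2) := ⟨Nat.prime_two⟩
  have hnor : (K.subgroupOf P₀).Normal := normal_subgroupOf_iff_le_normalizer hK |>.2 hn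
  have hpg : IsPGroup 2 (↥P₀ ⧸ K.subgroupOf P₀) := by
    intro y
    obtain ⟨⟨y, hy⟩, rfl⟩ := QuotientGroup.mk_surjective y
    obtain ⟨n, hn⟩ := h2 y hy
    refine ⟨n, ?_⟩
    rw [← QuotientGroup.mk_pow, QuotientGroup.eq_one_iff]
    exact hn
  obtain ⟨k, hk⟩ := IsPGroup.iff_card.1 hpg
  have h3 : (S : Subgroup G) ⊔ K = P₀ := by
    have hle : (S : Subgroup G) ⊔ K ≤ P₀ := sup_le hS hK
    apply le_antisymm hle
    rw [← relIndex_eq_one]
    have h4 : ((S : Subgroup G) ⊔ K).relIndex P₀ ∣ 2 ^ k := by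
      rw [← hk]
      exact relIndex_dvd_of_le_left P₀ le_sup_right
    have h5 : ((S : Subgroup G) ⊔ K).relIndex P₀ ∣ (S : Subgroup G).relIndex P₀ :=
      relIndex_dvd_of_le_left P₀ le_sup_left
    obtain ⟨l, -, hl⟩ := (Nat.dvd_prime_pow Nat.prime_two).1 h4
    rcases Nat.eq_zero_or_pos l with h6 | h6
    · rw [hl, h6, pow_zero]
    · exfalso
      apply MinSimple.Basic.not_dvd_relIndex S hS
      refine dvd_trans ?_ h5
      rw [hl]
      exact dvd_pow_self 2 (by omega)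
  rw [← h3] at hx
  have h4 : (S : Subgroup G) ≤ normalizer (K : Set G) := hS.trans hn
  rw [← SetLike.mem_coe, coe_mul_of_left_le_normalizer_right _ _ h4] at hx
  obtain ⟨s, hs, c, hc, rfl⟩ := hx
  exact ⟨s, hs, c, hc, rfl⟩

theorem act8_four : ∀ b i j, ∀ p, act8 b i j (act8 b i j (act8 b i j (act8 b i j p))) = p := by
  decide +kernel

section main

variable {G : Type u} [Group G] [Finite G] {S : Sylow 2 G} {P : Subgroup G} {z : Fin 3 → Fin 3 → G}

theorem S_comm (hz : Plus2 (S : Subgroup G) P z) {s : G} (hs : s ∈ (S : Subgroup G)) :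
    s * z 0 0 = z 0 0 * s := by
  have h1 : z 0 0 ∈ zc (S : Subgroup G) := by
    rw [hz.Z]
    exact mem_zpowers _
  exact (mem_zc.1 h1).2.1 s hs

/-- `P ∩ C(z) = S C_P(V)` -/
theorem stab (h : Cfg S P) (hz : Plus2 (S : Subgroup G) P z) : ∀ m ∈ P, m * z 0 0 = z 0 0 * m →
    ∃ s ∈ (S : Subgroup G), ∃ c ∈ P, (∀ v ∈ zl (S : Subgroup G) P, c * v = v * c) ∧ m = s * c := by
  intro m hm hmz
  have hSP : (S : Subgroup G) ≤ P ⊓ centralizer ({z 0 0} : Set G) :=
    le_inf h.S_le fun s hs => mem_centralizer_singleton_iff.2 (S_comm hz hs)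
  have hV : P ≤ normalizer (zl (S : Subgroup G) P : Set G) := Cfg.P_norm_V S P
  have hKP : P ⊓ centralizer (zl (S : Subgroup G) P : Set G) ≤ P ⊓ centralizer ({z 0 0} : Set G) := by
    refine inf_le_inf_left P (centralizer_le ?_)
    rw [Set.singleton_subset_iff]
    exact (pts hz).mem (0, 0)
  have hn : P ⊓ centralizer ({z 0 0} : Set G) ≤
      normalizer ((P ⊓ centralizer (zl (S : Subgroup G) P : Set G) : Subgroup G) : Set G) := by
    have key : ∀ x ∈ P, ∀ k ∈ P ⊓ centralizer (zl (S : Subgroup G) P : Set G),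
        x * k * x⁻¹ ∈ P ⊓ centralizer (zl (S : Subgroup G) P : Set G) := by
      intro x hx k hk
      refine ⟨P.mul_mem (P.mul_mem hx hk.1) (P.inv_mem hx), mem_centralizer_iff.2 fun v hv => ?_⟩
      have h1 : x⁻¹ * v * x⁻¹⁻¹ ∈ zl (S : Subgroup G) P :=
        (mem_normalizer_iff.1 (hV (P.inv_mem hx)) v).1 hv
      have h2 := mem_centralizer_iff.1 hk.2 _ h1
      calc v * (x * k * x⁻¹) = x * ((x⁻¹ * v * x⁻¹⁻¹) * k) * x⁻¹ := by group
        _ = x * k * x⁻¹ * v := by rw [h2]; group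
    intro x hx
    rw [mem_normalizer_iff]
    intro k
    refine ⟨key x hx.1 k, fun hk => ?_⟩
    have h1 := key x⁻¹ (inv_mem hx.1) _ hk
    have h2 : x⁻¹ * (x * k * x⁻¹) * x⁻¹⁻¹ = k := by group
    rwa [h2] at h1
  obtain ⟨s, hs, c, hc, rfl⟩ := exists_sc S hSP hKP hn (fun x hx => by
    obtain ⟨b, i, j, h1⟩ := exists_act8 hz hx.1 (mem_centralizer_singleton_iff.1 hx.2)
    refine ⟨2, pow_mem hx.1 _, mem_centralizer_iff.2 fun v hv => ?_⟩
    have h2 : Has (zz z) (x * (x * (x * x))) (fun p => p) := by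
      have h3 := h1.mul (h1.mul (h1.mul h1))
      have h4 : (fun p => act8 b i j (act8 b i j (act8 b i j (act8 b i j p)))) = fun p => p :=
        funext (act8_four b i j)
      rwa [h4] at h3
    have h3 : x ^ 2 ^ 2 = x * (x * (x * x)) := by
      rw [show 2 ^ 2 = 4 from rfl, pow_succ, pow_succ, pow_two, mul_assoc, mul_assoc]
    rw [h3]
    exact (has_comm hz h2 v hv).symm) (x := m) ⟨hm, mem_centralizer_singleton_iff.2 hmz⟩
  exact ⟨s, hs, c, hc.1, fun v hv => (mem_centralizer_iff.1 hc.2 v hv).symm, rfl⟩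

/-- `S` induces `D₈` -/
theorem exists_S (h : Cfg S P) (hz : Plus2 (S : Subgroup G) P z) (b i j : Bool) :
    ∃ s ∈ (S : Subgroup G), Has (zz z) s (act8 b i j) := by
  obtain ⟨m, hm, h1⟩ := exists_has hz b (tpow i 0) (tpow j 0)
  rw [← act8_eq_pi] at h1
  have h2 : m * z 0 0 = z 0 0 * m := by
    have h3 := h1 (0, 0)
    rw [act8_fix] at h3
    have h4 : m * z 0 0 * m⁻¹ = z 0 0 := h3
    calc m * z 0 0 = m * z 0 0 * m⁻¹ * m := by group
      _ = z 0 0 * m := by rw [h4]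
  obtain ⟨s, hs, c, hc, h3, rfl⟩ := stab h hz m hm h2
  refine ⟨s, hs, fun p => ?_⟩
  have h4 : s * c * zz z p * (s * c)⁻¹ = s * zz z p * s⁻¹ := by
    have h5 := h3 _ ((pts hz).mem p)
    calc s * c * zz z p * (s * c)⁻¹ = s * (c * zz z p) * c⁻¹ * s⁻¹ := by group
      _ = s * zz z p * s⁻¹ := by rw [h5]; group
  rw [← h4, h1]

/-- `|S : C_S(V)| = 8` -/
theorem ind (h : Cfg S P) (hz : Plus2 (S : Subgroup G) P z) :
    ((S : Subgroup G) ⊓ centralizer (zl (S : Subgroup G) P : Set G)).relIndex (S : Subgroup G) = 8 := by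
  have hex : ∀ s : ↥(S : Subgroup G), ∃ a : Bool × Bool × Bool, Has (zz z) s.1 (act8 a.1 a.2.1 a.2.2) := by
    rintro ⟨s, hs⟩
    obtain ⟨b, i, j, h1⟩ := exists_act8 hz (h.S_le hs) (S_comm hz hs)
    exact ⟨(b, i, j), h1⟩
  choose f hf using hex
  have hrel : ∀ s t : ↥(S : Subgroup G), f s = f t ↔
      s⁻¹ * t ∈ ((S : Subgroup G) ⊓ centralizer (zl (S : Subgroup G) P : Set G)).subgroupOf
        (S : Subgroup G) := by
    intro s t
    rw [mem_subgroupOf]
    constructor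
    · intro he
      refine ⟨(s⁻¹ * t).2, mem_centralizer_iff.2 fun v hv => (has_comm hz ?_ v hv).symm⟩
      intro p
      have h1 := hf s p
      have h2 := hf t p
      rw [← he, ← h1] at h2
      show (s.1⁻¹ * t.1) * zz z p * (s.1⁻¹ * t.1)⁻¹ = zz z p
      calc (s.1⁻¹ * t.1) * zz z p * (s.1⁻¹ * t.1)⁻¹ = s.1⁻¹ * (t.1 * zz z p * t.1⁻¹) * s.1 := by group
        _ = zz z p := by rw [h2]; group
    · intro hm
      have h1 : Has (zz z) (s.1⁻¹ * t.1) (fun p => p) :=
        has_of_comm hz fun v hv => (mem_centralizer_iff.1 hm.2 v hv).symm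
      have h2 : Has (zz z) t.1 (act8 (f s).1 (f s).2.1 (f s).2.2) := by
        intro p
        have h3 : t.1 * zz z p * t.1⁻¹ = s.1 * ((s.1⁻¹ * t.1) * zz z p * (s.1⁻¹ * t.1)⁻¹) * s.1⁻¹ := by
          group
        rw [h3, h1 p, hf s p]
      have h3 := Has.unique (grid hz) h2 (hf t)
      obtain ⟨e1, e2, e3⟩ := act8_inj _ _ _ _ _ _ (fun p => congrFun h3 p)
      exact Prod.ext e1 (Prod.ext e2 e3)
  rw [relIndex, Subgroup.index]
  have hN : Nat.card (↥(S : Subgroup G) ⧸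
      ((S : Subgroup G) ⊓ centralizer (zl (S : Subgroup G) P : Set G)).subgroupOf (S : Subgroup G)) =
      Nat.card (Bool × Bool × Bool) := by
    apply Nat.card_eq_of_bijective (fun q => Quotient.liftOn' q f fun s t hst =>
      (hrel s t).2 (QuotientGroup.leftRel_apply.1 hst))
    constructor
    · intro q r
      refine Quotient.inductionOn₂' q r fun s t he => ?_
      exact Quotient.sound' (QuotientGroup.leftRel_apply.2 ((hrel s t).1 he))
    · intro a
      obtain ⟨s, hs, h1⟩ := exists_S h hz a.1 a.2.1 a.2.2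
      refine ⟨Quotient.mk'' ⟨s, hs⟩, ?_⟩
      show f ⟨s, hs⟩ = a
      have h3 := Has.unique (grid hz) (hf ⟨s, hs⟩) h1
      obtain ⟨e1, e2, e3⟩ := act8_inj _ _ _ _ _ _ (fun p => congrFun h3 p)
      exact Prod.ext e1 (Prod.ext e2 e3)
  rw [hN, Nat.card_eq_fintype_card]
  rfl

/-! ### `E = V ∩ Q` -/

theorem CC_eq (hz : Plus2 (S : Subgroup G) P z) :
    CC (S : Subgroup G) = centralizer ({z 0 0} : Set G) := by
  change centralizer (zc (S : Subgroup G) : Set G) = _
  rw [hz.Z, centralizer_zpowers_eq]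

theorem EE_eq (hz : Plus2 (S : Subgroup G) P z) :
    EE (S : Subgroup G) P = zl (S : Subgroup G) P ⊓ o2 (centralizer ({z 0 0} : Set G)) := by
  change zl (S : Subgroup G) P ⊓ o2 (CC (S : Subgroup G)) = _
  rw [CC_eq hz]

theorem conj_E (h : Cfg S P) {s x : G} (hs : s ∈ (S : Subgroup G)) (hx : x ∈ EE (S : Subgroup G) P) :
    s * x * s⁻¹ ∈ EE (S : Subgroup G) P := by
  refine ⟨(mem_normalizer_iff.1 (Cfg.P_norm_V S P (h.S_le hs)) x).1 hx.1, ?_⟩
  have h1 : s ∈ normalizer (o2 (CC (S : Subgroup G)) : Set G) :=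
    MinSimple.VModule.le_normalizer_o2 _ (Cfg.S_le_CC S hs)
  exact (mem_normalizer_iff.1 h1 x).1 hx.2

/-- `[V, S] ≤ E` -/
theorem comm_E (h : Cfg S P) (hE : (EE (S : Subgroup G) P).relIndex (zl (S : Subgroup G) P) = 2)
    {s x : G} (hs : s ∈ (S : Subgroup G)) (hx : x ∈ zl (S : Subgroup G) P) :
    s * x * s⁻¹ * x ∈ EE (S : Subgroup G) P := by
  have hxV : s * x * s⁻¹ ∈ zl (S : Subgroup G) P :=
    (mem_normalizer_iff.1 (Cfg.P_norm_V S P (h.S_le hs)) x).1 hx
  have h1 := Subgroup.mul_mem_iff_of_index_two (H := (EE (S : Subgroup G) P).subgroupOf (zl (S : Subgroup G) P))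
    hE (a := ⟨s * x * s⁻¹, hxV⟩) (b := ⟨x, hx⟩)
  rw [mem_subgroupOf, mem_subgroupOf, mem_subgroupOf] at h1
  refine h1.2 ⟨fun h2 => ?_, fun h2 => conj_E h hs h2⟩
  have h3 := conj_E h (inv_mem hs) h2
  have h4 : s⁻¹ * (s * x * s⁻¹) * s⁻¹⁻¹ = x := by group
  have h5 : s⁻¹ * (s * x * s⁻¹) * s⁻¹⁻¹ ∈ EE (S : Subgroup G) P := h3
  rwa [h4] at h5

variable (h : Cfg S P) (hz : Plus2 (S : Subgroup G) P z)
  (hE : (EE (S : Subgroup G) P).relIndex (zl (S : Subgroup G) P) = 2)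

include h hz hE

theorem z00_mem : zz z (0, 0) ∈ EE (S : Subgroup G) P := by
  obtain ⟨s, hs, h1⟩ := exists_S h hz false false true
  have h2 := comm_E h hE hs ((pts hz).mem (0, 1))
  rw [h1 (0, 1), show act8 false false true (0, 1) = (0, 2) from by decide,
    (grid hz).row 0 2 1 (by decide), show t 2 1 = 0 from by decide] at h2
  exact h2

theorem z01_mem : zz z (0, 1) ∈ EE (S : Subgroup G) P := by
  obtain ⟨s, hs, h1⟩ := exists_S h hz false true false
  have h2 := comm_E h hE hs ((pts hz).mem (1, 1))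
  rw [h1 (1, 1), show act8 false true false (1, 1) = (2, 1) from by decide,
    (grid hz).col 1 2 1 (by decide), show t 2 1 = 0 from by decide] at h2
  exact h2

theorem z10_mem : zz z (1, 0) ∈ EE (S : Subgroup G) P := by
  obtain ⟨s, hs, h1⟩ := exists_S h hz false false true
  have h2 := comm_E h hE hs ((pts hz).mem (1, 1))
  rw [h1 (1, 1), show act8 false false true (1, 1) = (1, 2) from by decide,
    (grid hz).row 1 2 1 (by decide), show t 2 1 = 0 from by decide] at h2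
  exact h2

theorem pw_mem' {x : G} {H : Subgroup G} (hx : x ∈ H) (b : Bool) : pw x b ∈ H := by
  cases b
  · exact one_mem _
  · exact hx

theorem phi_mem_of {v : B4} (hv : v.2.2.2 = false) : phi (zz z) v ∈ EE (S : Subgroup G) P := by
  obtain ⟨a, b, c, d⟩ := v
  simp only at hv
  subst hv
  refine mul_mem (mul_mem (mul_mem ?_ ?_) ?_) ?_
  · exact pw_mem' h hz hE (z00_mem h hz hE) _
  · exact pw_mem' h hz hE (z01_mem h hz hE) _
  · exact pw_mem' h hz hE (z10_mem h hz hE) _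
  · exact one_mem _

/-- `E = z^⊥` -/
theorem phi_mem_iff {v : B4} : phi (zz z) v ∈ EE (S : Subgroup G) P ↔ v.2.2.2 = false := by
  refine ⟨fun hv => ?_, phi_mem_of h hz hE⟩
  by_contra hne
  rw [Bool.not_eq_false] at hne
  have h1 : zl (S : Subgroup G) P ≤ EE (S : Subgroup G) P := by
    intro x hx
    obtain ⟨w, rfl⟩ := exists_phi (pts hz) hx
    by_cases hw : w.2.2.2 = false
    · exact phi_mem_of h hz hE hw
    · rw [Bool.not_eq_false] at hw
      have h2 : phi (zz z) (add w v) ∈ EE (S : Subgroup G) P := by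
        apply phi_mem_of h hz hE
        rw [add]
        show (w.2.2.2 ^^ v.2.2.2) = false
        rw [hw, hne]
        rfl
      rw [phi_add (grid hz)] at h2
      have h3 := mul_mem h2 (inv_mem hv)
      rwa [mul_inv_cancel_right] at h3
  rw [relIndex_eq_one.2 h1] at hE
  omega

/-- `|V ∩ Q| = 8` -/
theorem card_E : Nat.card ↥(EE (S : Subgroup G) P) = 8 := by
  have h1 : Nat.card {v : B4 // v.2.2.2 = false} = Nat.card ↥(EE (S : Subgroup G) P) := by
    apply Nat.card_eq_of_bijective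
      (fun v => (⟨phi (zz z) v.1, (phi_mem_iff h hz hE).2 v.2⟩ : ↥(EE (S : Subgroup G) P)))
    constructor
    · intro v w hvw
      exact Subtype.ext (phi_inj (grid hz) (congrArg Subtype.val hvw))
    · rintro ⟨x, hx⟩
      obtain ⟨v, rfl⟩ := exists_phi (pts hz) hx.1
      exact ⟨⟨v, (phi_mem_iff h hz hE).1 hx⟩, rfl⟩
  rw [← h1, Nat.card_eq_fintype_card]
  decide

theorem pt_mem_iff {p : Fin 3 × Fin 3} : zz z p ∈ EE (S : Subgroup G) P ↔ ¬ op (0, 0) p := by
  rw [← phi_vec (grid hz) p, phi_mem_iff h hz hE]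
  revert p
  decide

end main

/-! ### the facts -/

theorem faith_code : ∀ (b : Bool) (σ τ : Equiv.Perm (Fin 3)), (∀ p, ¬ op (0, 0) p → pi b σ τ p = p) →
    ∀ p, pi b σ τ p = p := by decide +kernel

theorem symm_code : ∀ (b : Bool) (σ τ : Equiv.Perm (Fin 3)) (p : Fin 3 × Fin 3), op (0, 0) (pi b σ τ (0, 0)) →
    pi b σ τ p = (0, 0) → op (0, 0) p := by decide +kernel

theorem lin_code : ∀ (i j : Bool) (v : B4), v.2.2.2 = false →
    lin (act8 false i j) v = v ∨ lin (act8 false i j) v = add z0 v := by decide +kernel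

theorem reach_code : ∀ a : Fin 3, a ≠ 0 → ∀ q : Fin 3, ∃ i j : Bool, tpow j 0 (tpow i a 0) = q := by
  decide +kernel

/-- the elements of `D₈` centralising `E / z` -/
theorem conj_tpow : ∀ (b : Bool) (σ τ : Equiv.Perm (Fin 3)) (i j : Bool), ∀ p q, pi b σ τ p = q →
    pi b σ τ (pi false (tpow i 0) (tpow j 0) p) = if b then pi false (tpow j (σ 0)) (tpow i (τ 0)) q else
      pi false (tpow i (σ 0)) (tpow j (τ 0)) q := by decide +kernel

section final

variable {G : Type u} [Group G] [Finite G] {S : Sylow 2 G} {P : Subgroup G} {z : Fin 3 → Fin 3 → G}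

/-- conjugates of the elements centralising `E / z` -/
theorem has_conj {m x : G} {b : Bool} {σ τ : Equiv.Perm (Fin 3)} {i j : Bool}
    (hm : Has (zz z) m (pi b σ τ)) (hx : Has (zz z) x (act8 false i j)) :
    Has (zz z) (m * x * m⁻¹) (if b then pi false (tpow j (σ 0)) (tpow i (τ 0)) else
      pi false (tpow i (σ 0)) (tpow j (τ 0))) := by
  have hsurj : ∀ (b : Bool) (σ τ : Equiv.Perm (Fin 3)) (q : Fin 3 × Fin 3), ∃ p, pi b σ τ p = q := by
    intro b σ τ q
    cases b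
    · exact ⟨(σ.symm q.1, τ.symm q.2), by simp [pi]⟩
    · exact ⟨(τ.symm q.2, σ.symm q.1), by simp [pi]⟩
  intro q
  obtain ⟨p, hp⟩ := hsurj b σ τ q
  have h1 := conj_tpow b σ τ i j p q hp
  rw [← act8_eq_pi] at h1
  have h2 : m * x * m⁻¹ * zz z q * (m * x * m⁻¹)⁻¹ = m * (x * zz z p * x⁻¹) * m⁻¹ := by
    rw [← hp, ← hm p]
    group
  rw [h2, hx p, hm, h1]
  cases b <;> rfl

theorem facts' (h : Cfg S P) (hz : Plus2 (S : Subgroup G) P z)
    (hE : (EE (S : Subgroup G) P).relIndex (zl (S : Subgroup G) P) = 2) :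
    Facts P (zl (S : Subgroup G) P) (EE (S : Subgroup G) P) (z 0 0) where
  faith := by
    intro x hx hxE
    obtain ⟨b, σ, τ, h1⟩ := exists_pi hz hx
    have h2 : ∀ p, pi b σ τ p = p := by
      apply faith_code
      intro p hp
      apply (grid hz).inj
      rw [← h1, hxE _ ((pt_mem_iff h hz hE).2 hp), mul_inv_cancel_right]
    have h3 : (pi b σ τ : Fin 3 × Fin 3 → Fin 3 × Fin 3) = fun p => p := funext h2
    rw [h3] at h1
    exact has_comm hz h1
  symm := by
    intro m hm hmE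
    obtain ⟨b, σ, τ, h1⟩ := exists_pi hz hm
    obtain ⟨b', σ', τ', h2⟩ := exists_pi hz (inv_mem hm)
    have h3 : op (0, 0) (pi b σ τ (0, 0)) := by
      by_contra hno
      apply hmE
      have h4 := (pt_mem_iff h hz hE).2 hno
      rwa [← h1] at h4
    have h5 : m⁻¹ * z 0 0 * m = zz z (pi b' σ' τ' (0, 0)) := by
      rw [← h2, inv_inv]
      rfl
    have h6 : pi b σ τ (pi b' σ' τ' (0, 0)) = (0, 0) := by
      apply (grid hz).inj
      rw [← h1, ← h5]
      show m * (m⁻¹ * z 0 0 * m) * m⁻¹ = z 0 0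
      group
    have h7 := symm_code b σ τ _ h3 h6
    rw [h5, pt_mem_iff h hz hE]
    exact fun h8 => h8 h7
  trans := by
    intro m hm hmE A hAP hA n hn
    obtain ⟨b, σ, τ, h1⟩ := exists_pi hz hm
    obtain ⟨b', σ', τ', h2⟩ := exists_pi hz hn
    have h3 : op (0, 0) (pi b σ τ (0, 0)) := by
      by_contra hno
      apply hmE
      have h4 := (pt_mem_iff h hz hE).2 hno
      rwa [← h1] at h4
    have h00 : pi b σ τ (0, 0) = (σ 0, τ 0) := by cases b <;> rfl
    rw [h00] at h3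
    have hσ : σ 0 ≠ 0 := fun e => h3.1 e.symm
    have hτ : τ 0 ≠ 0 := fun e => h3.2 e.symm
    -- the elements of `A`
    have hAi : ∀ i j : Bool, ∃ a ∈ A, Has (zz z) a (act8 false i j) := by
      intro i j
      obtain ⟨x, hx, hx1⟩ := exists_S h hz false i j
      obtain ⟨a, ha, ha1⟩ := hA x (h.S_le hx) (by
        intro e he
        obtain ⟨v, rfl⟩ := exists_phi (pts hz) he.1
        have hv := (phi_mem_iff h hz hE).1 he
        have h4 := hx1.conj_phi (grid hz) v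
        have h5 : x * phi (zz z) v = phi (zz z) (lin (act8 false i j) v) * x := by
          rw [← h4]; group
        rcases lin_code i j v hv with h6 | h6
        · left
          rw [h5, h6]
        · right
          rw [h5, h6, phi_add (grid hz)]
          have h7 : phi (zz z) z0 = z 0 0 := phi_vec (grid hz) (0, 0)
          rw [h7, mul_assoc])
      refine ⟨a, ha, fun p => ?_⟩
      rw [ha1 _ ((pts hz).mem p), hx1]
    have hBi : ∀ i j : Bool, ∃ y ∈ A.map (MulAut.conj m).toMonoidHom,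
        Has (zz z) y (pi false (tpow i (σ 0)) (tpow j (τ 0))) := by
      intro i j
      cases b
      · obtain ⟨a, ha, ha1⟩ := hAi i j
        exact ⟨m * a * m⁻¹, ⟨a, ha, rfl⟩, by simpa using has_conj h1 ha1⟩
      · obtain ⟨a, ha, ha1⟩ := hAi j i
        exact ⟨m * a * m⁻¹, ⟨a, ha, rfl⟩, by simpa using has_conj h1 ha1⟩
    obtain ⟨i, i', hi⟩ := reach_code (σ 0) hσ (pi b' σ' τ' (0, 0)).1
    obtain ⟨j, j', hj⟩ := reach_code (τ 0) hτ (pi b' σ' τ' (0, 0)).2
    obtain ⟨y, hy, hy1⟩ := hBi i j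
    obtain ⟨a, ha, ha1⟩ := hAi i' j'
    refine ⟨a * y, mul_mem (mem_sup_left ha) (mem_sup_right hy), ?_⟩
    have h4 := (ha1.mul hy1) (0, 0)
    have h5 := h2 (0, 0)
    have h6 : act8 false i' j' (pi false (tpow i (σ 0)) (tpow j (τ 0)) (0, 0)) = pi b' σ' τ' (0, 0) := by
      rw [act8_eq_pi]
      exact Prod.ext hi hj
    exact (h4.trans (congrArg (zz z) h6)).trans h5.symm
  tri := by
    obtain ⟨m, hm, h1⟩ := exists_has hz false (Equiv.swap 0 1) (Equiv.swap 0 1)
    obtain ⟨n, hn, h2⟩ := exists_has hz false (Equiv.swap 0 2) (Equiv.swap 0 2)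
    have e1 : m * z 0 0 * m⁻¹ = zz z (1, 1) := h1 (0, 0)
    have e2 : n * z 0 0 * n⁻¹ = zz z (2, 2) := h2 (0, 0)
    have e3 : m * zz z (2, 2) * m⁻¹ = zz z (2, 2) := h1 (2, 2)
    have hop : ∀ p : Fin 3 × Fin 3, op (0, 0) p → zz z p ∉ EE (S : Subgroup G) P := fun p hp hpE =>
      (pt_mem_iff h hz hE).1 hpE hp
    refine ⟨m, hm, n, hn, ?_, ?_, ?_⟩
    · rw [e1]; exact hop _ (by decide)
    · rw [e2]; exact hop _ (by decide)
    · have e4 : (m⁻¹ * n) * z 0 0 * (m⁻¹ * n)⁻¹ = m⁻¹ * (n * z 0 0 * n⁻¹) * m := by group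
      have e5 : m⁻¹ * zz z (2, 2) * m = zz z (2, 2) := by
        conv_lhs => rw [← e3]
        group
      rw [e4, e2, e5]
      exact hop _ (by decide)

/-- **the facts on (γ)** -/
theorem facts (h : Cfg S P) (hz : Plus2 (S : Subgroup G) P z)
    (hE : (EE (S : Subgroup G) P).relIndex (zl (S : Subgroup G) P) = 2) :
    Facts P (zl (S : Subgroup G) P) (zl (S : Subgroup G) P ⊓ o2 (centralizer ({z 0 0} : Set G))) (z 0 0) := by
  rw [← EE_eq hz]
  exact facts' h hz hE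

/-- `|V ∩ O₂(C(z))| = 8` -/
theorem card8 (h : Cfg S P) (hz : Plus2 (S : Subgroup G) P z)
    (hE : (EE (S : Subgroup G) P).relIndex (zl (S : Subgroup G) P) = 2) :
    Nat.card ↥(zl (S : Subgroup G) P ⊓ o2 (centralizer ({z 0 0} : Set G))) = 8 := by
  rw [← EE_eq hz]
  exact card_E h hz hE

/-- `|V| = 16` -/
theorem card16 (hz : Plus2 (S : Subgroup G) P z) : Nat.card ↥(zl (S : Subgroup G) P) = 16 := by
  have h1 : Nat.card B4 = Nat.card ↥(zl (S : Subgroup G) P) := by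
    apply Nat.card_eq_of_bijective (fun v => (⟨phi (zz z) v, phi_mem (pts hz) v⟩ : ↥(zl (S : Subgroup G) P)))
    constructor
    · intro v w hvw
      exact phi_inj (grid hz) (congrArg Subtype.val hvw)
    · rintro ⟨x, hx⟩
      obtain ⟨v, rfl⟩ := exists_phi (pts hz) hx
      exact ⟨v, rfl⟩
  rw [← h1, Nat.card_eq_fintype_card]
  decide

end final

end Cfsg.Agent.Omega.NOne.AG.FactsPlus

end

section


/-!
# D0ag, type (α): the facts in a configuration

`S, P` a configuration of N1 of type (α), `V = zl S P` with the coordinates `W` (`AW P V W`), `z = W z0`: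

* `stab` : `P ∩ C(z) = S C_P(V)`; `exists_S` : `S` induces `D₈`; `ind` : `|S : C_S(V)| = 8`;
* `facts`, `card8`, `card16`.
-/

set_option autoImplicit false
set_option linter.unusedSectionVars false

namespace Cfsg.Agent.Omega.NOne.AG.FactsNat

open Subgroup Cfsg Cfsg.Agent.ZN Cfsg.Agent.Omega.MinPar Cfsg.Agent.Omega.Frame
open Cfsg.Agent.Omega.NoFF.LinesPlug (CC)
open Cfsg.Agent.Omega.NO1 (Cfg Nat4 EE)
open Cfsg.Agent.Omega.NOne.AG.Tab

universe u

theorem st_of : ∀ σ : Equiv.Perm (Fin 5), sA σ z0 = z0 → ∃ i j k, σ = st i j k := by decide +kernel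

theorem st_four : ∀ σ : Equiv.Perm (Fin 5), sA σ z0 = z0 → σ * (σ * (σ * σ)) = 1 := by decide +kernel

theorem st_inj : ∀ i j k i' j' k', st i j k = st i' j' k' → i = i' ∧ j = j' ∧ k = k' := by decide +kernel

theorem sA_one' : ∀ x, sA 1 x = x := by decide +kernel

section

variable {G : Type u} [Group G] {P V : Subgroup G} {W : B4 → G}

theorem comm_of_one (A : AW P V W) {m : G} (h1 : Ovz W m 1) : ∀ v ∈ V, m * v = v * m := by
  intro v hv
  obtain ⟨x, rfl⟩ := A.surj v hv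
  have h2 := A.conj_eq h1 x
  rw [sA_one'] at h2
  rwa [mul_inv_eq_iff_eq_mul] at h2

theorem one_of_comm (A : AW P V W) {m : G} (h1 : ∀ v ∈ V, m * v = v * m) : Ovz W m 1 := by
  intro a b c d _
  rw [h1 _ (A.mem _), mul_inv_cancel_right]
  rfl

theorem ovz_unique (A : AW P V W) {m : G} {σ τ : Equiv.Perm (Fin 5)} (h1 : Ovz W m σ) (h2 : Ovz W m τ) :
    σ = τ := by
  have h3 : Ovz W (m⁻¹ * m) (σ⁻¹ * τ) := h1.inv.mul h2
  rw [inv_mul_cancel] at h3
  have h4 : σ⁻¹ * τ = 1 := by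
    apply sA_faith
    intro x _
    apply A.inj
    rw [← A.conj_eq h3]
    simp
  rw [inv_mul_eq_one] at h4
  exact h4

theorem z_fix (A : AW P V W) {m : G} {σ : Equiv.Perm (Fin 5)} (h1 : Ovz W m σ) (h2 : m * W z0 = W z0 * m) :
    sA σ z0 = z0 := by
  apply A.inj
  rw [← A.conj_eq h1, h2, mul_inv_cancel_right]

end

section main

variable {G : Type u} [Group G] [Finite G] {S : Sylow 2 G} {P : Subgroup G} {W : B4 → G}
variable (h : Cfg S P) (A : AW P (zl (S : Subgroup G) P) W) (hz : zc (S : Subgroup G) = zpowers (W z0))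

include hz in
theorem S_comm {s : G} (hs : s ∈ (S : Subgroup G)) : s * W z0 = W z0 * s := by
  have h1 : W z0 ∈ zc (S : Subgroup G) := by
    rw [hz]
    exact mem_zpowers _
  exact (mem_zc.1 h1).2.1 s hs

include h A hz

/-- `P ∩ C(z) = S C_P(V)` -/
theorem stab : ∀ m ∈ P, m * W z0 = W z0 * m →
    ∃ s ∈ (S : Subgroup G), ∃ c ∈ P, (∀ v ∈ zl (S : Subgroup G) P, c * v = v * c) ∧ m = s * c := by
  intro m hm hmz
  have hSP : (S : Subgroup G) ≤ P ⊓ centralizer ({W z0} : Set G) :=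
    le_inf h.S_le fun s hs => mem_centralizer_singleton_iff.2 (S_comm hz hs)
  have hV : P ≤ normalizer (zl (S : Subgroup G) P : Set G) := Cfg.P_norm_V S P
  have hKP : P ⊓ centralizer (zl (S : Subgroup G) P : Set G) ≤ P ⊓ centralizer ({W z0} : Set G) := by
    refine inf_le_inf_left P (centralizer_le ?_)
    rw [Set.singleton_subset_iff]
    exact A.mem z0
  have hn : P ⊓ centralizer ({W z0} : Set G) ≤
      normalizer ((P ⊓ centralizer (zl (S : Subgroup G) P : Set G) : Subgroup G) : Set G) := by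
    have key : ∀ x ∈ P, ∀ k ∈ P ⊓ centralizer (zl (S : Subgroup G) P : Set G),
        x * k * x⁻¹ ∈ P ⊓ centralizer (zl (S : Subgroup G) P : Set G) := by
      intro x hx k hk
      refine ⟨P.mul_mem (P.mul_mem hx hk.1) (P.inv_mem hx), mem_centralizer_iff.2 fun v hv => ?_⟩
      have h1 : x⁻¹ * v * x⁻¹⁻¹ ∈ zl (S : Subgroup G) P :=
        (mem_normalizer_iff.1 (hV (P.inv_mem hx)) v).1 hv
      have h2 := mem_centralizer_iff.1 hk.2 _ h1
      calc v * (x * k * x⁻¹) = x * ((x⁻¹ * v * x⁻¹⁻¹) * k) * x⁻¹ := by group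
        _ = x * k * x⁻¹ * v := by rw [h2]; group
    intro x hx
    rw [mem_normalizer_iff]
    intro k
    refine ⟨key x hx.1 k, fun hk => ?_⟩
    have h1 := key x⁻¹ (inv_mem hx.1) _ hk
    have h2 : x⁻¹ * (x * k * x⁻¹) * x⁻¹⁻¹ = k := by group
    rwa [h2] at h1
  obtain ⟨s, hs, c, hc, rfl⟩ := FactsPlus.exists_sc S hSP hKP hn (fun x hx => by
    obtain ⟨σ, h1⟩ := A.act x hx.1
    have h0 := st_four σ (z_fix A h1 (mem_centralizer_singleton_iff.1 hx.2))
    refine ⟨2, pow_mem hx.1 _, mem_centralizer_iff.2 fun v hv => ?_⟩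
    have h2 : Ovz W (x * (x * (x * x))) 1 := by
      rw [← h0]
      exact Ovz.mul h1 (Ovz.mul h1 (Ovz.mul h1 h1))
    have h3 : x ^ 2 ^ 2 = x * (x * (x * x)) := by
      rw [show 2 ^ 2 = 4 from rfl, pow_succ, pow_succ, pow_two, mul_assoc, mul_assoc]
    rw [h3]
    exact (comm_of_one A h2 v hv).symm) (x := m) ⟨hm, mem_centralizer_singleton_iff.2 hmz⟩
  exact ⟨s, hs, c, hc.1, fun v hv => (mem_centralizer_iff.1 hc.2 v hv).symm, rfl⟩

/-- `S` induces `D₈` -/
theorem exists_S (i j k : Bool) : ∃ s ∈ (S : Subgroup G), Ovz W s (st i j k) := by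
  obtain ⟨m, hm, h1⟩ := A.full (st i j k)
  have h2 : m * W z0 = W z0 * m := by
    have h3 := A.conj_eq h1 z0
    rw [st_z0] at h3
    rwa [mul_inv_eq_iff_eq_mul] at h3
  obtain ⟨s, hs, c, hc, h3, rfl⟩ := stab h A hz m hm h2
  refine ⟨s, hs, fun a b c' d hd => ?_⟩
  rw [← h1 a b c' d hd]
  have h5 := h3 _ (A.mem (tb a b c' d))
  calc s * W (tb a b c' d) * s⁻¹ = s * (W (tb a b c' d) * c) * c⁻¹ * s⁻¹ := by group
    _ = s * c * W (tb a b c' d) * (s * c)⁻¹ := by rw [← h5]; group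

/-- `|S : C_S(V)| = 8` -/
theorem ind :
    ((S : Subgroup G) ⊓ centralizer (zl (S : Subgroup G) P : Set G)).relIndex (S : Subgroup G) = 8 := by
  have hex : ∀ s : ↥(S : Subgroup G), ∃ a : Bool × Bool × Bool, Ovz W s.1 (st a.1 a.2.1 a.2.2) := by
    rintro ⟨s, hs⟩
    obtain ⟨σ, h1⟩ := A.act s (h.S_le hs)
    obtain ⟨i, j, k, rfl⟩ := st_of σ (z_fix A h1 (S_comm hz hs))
    exact ⟨(i, j, k), h1⟩
  choose f hf using hex
  have hrel : ∀ s t : ↥(S : Subgroup G), f s = f t ↔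
      s⁻¹ * t ∈ ((S : Subgroup G) ⊓ centralizer (zl (S : Subgroup G) P : Set G)).subgroupOf
        (S : Subgroup G) := by
    intro s t
    rw [mem_subgroupOf]
    constructor
    · intro he
      refine ⟨(s⁻¹ * t).2, mem_centralizer_iff.2 fun v hv => (comm_of_one A ?_ v hv).symm⟩
      have h1 := hf s
      have h2 := hf t
      rw [← he] at h2
      have h3 := h1.inv.mul h2
      rw [inv_mul_cancel] at h3
      exact h3
    · intro hm
      have h1 : Ovz W (s.1⁻¹ * t.1) 1 :=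
        one_of_comm A fun v hv => (mem_centralizer_iff.1 hm.2 v hv).symm
      have h2 : Ovz W t.1 (st (f s).1 (f s).2.1 (f s).2.2) := by
        have h3 := (hf s).mul h1
        rwa [mul_one, mul_inv_cancel_left] at h3
      obtain ⟨e1, e2, e3⟩ := st_inj _ _ _ _ _ _ (ovz_unique A h2 (hf t))
      exact Prod.ext e1 (Prod.ext e2 e3)
  rw [relIndex, Subgroup.index]
  have hN : Nat.card (↥(S : Subgroup G) ⧸
      ((S : Subgroup G) ⊓ centralizer (zl (S : Subgroup G) P : Set G)).subgroupOf (S : Subgroup G)) =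
      Nat.card (Bool × Bool × Bool) := by
    apply Nat.card_eq_of_bijective (fun q => Quotient.liftOn' q f fun s t hst =>
      (hrel s t).2 (QuotientGroup.leftRel_apply.1 hst))
    constructor
    · intro q r
      refine Quotient.inductionOn₂' q r fun s t he => ?_
      exact Quotient.sound' (QuotientGroup.leftRel_apply.2 ((hrel s t).1 he))
    · intro a
      obtain ⟨s, hs, h1⟩ := exists_S h A hz a.1 a.2.1 a.2.2
      refine ⟨Quotient.mk'' ⟨s, hs⟩, ?_⟩
      show f ⟨s, hs⟩ = a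
      obtain ⟨e1, e2, e3⟩ := st_inj _ _ _ _ _ _ (ovz_unique A (hf ⟨s, hs⟩) h1)
      exact Prod.ext e1 (Prod.ext e2 e3)
  rw [hN, Nat.card_eq_fintype_card]
  rfl

omit h in
theorem CC_eq : CC (S : Subgroup G) = centralizer ({W z0} : Set G) := by
  change centralizer (zc (S : Subgroup G) : Set G) = _
  rw [hz, centralizer_zpowers_eq]

omit h in
theorem EE_eq :
    EE (S : Subgroup G) P = zl (S : Subgroup G) P ⊓ o2 (centralizer ({W z0} : Set G)) := by
  change zl (S : Subgroup G) P ⊓ o2 (CC (S : Subgroup G)) = _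
  rw [CC_eq A hz]

/-- **the facts on (α)** -/
theorem facts (hE : (EE (S : Subgroup G) P).relIndex (zl (S : Subgroup G) P) = 2) :
    Facts P (zl (S : Subgroup G) P) (zl (S : Subgroup G) P ⊓ o2 (centralizer ({W z0} : Set G)))
      (W z0) := by
  rw [← EE_eq A hz]
  refine A.facts inf_le_left hE fun m hm hmz e he => ?_
  refine ⟨(mem_normalizer_iff.1 (Cfg.P_norm_V S P hm) e).1 he.1, ?_⟩
  have hmC : m ∈ CC (S : Subgroup G) := by
    rw [CC_eq A hz]
    exact mem_centralizer_singleton_iff.2 hmz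
  exact (mem_normalizer_iff.1 (ZN.ChoiceSit.le_normalizer_o2 _ hmC) e).1 he.2

end main

end Cfsg.Agent.Omega.NOne.AG.FactsNat

end

section


/-!
# D0ag, type (α), `Δ > V`: the tables

`kk a b` : the coordinates of `y a b * y 0 1`.
-/

set_option autoImplicit false

namespace Cfsg.Agent.Omega.NOne.AG.LabOf

open Cfsg Cfsg.Agent.ZN
open Cfsg.Agent.Omega.NOne.AG.Tab

/-- `y a b = y 0 1 * W (kk a b)` -/
def kk (a b : Fin 5) : B4 :=
  dec ([0, 0, 1, 3, 2, 0, 0, 4, 8, 12, 1, 4, 0, 14, 11, 3, 8, 14, 0, 5, 2, 12, 11, 5, 0].getD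
    (5 * a.1 + b.1) 0)

theorem kk_symm : ∀ a b, kk a b = kk b a := by decide +kernel

theorem kk_inj : ∀ a b c d, a ≠ b → c ≠ d → kk a b = kk c d → (a = c ∧ b = d) ∨ (a = d ∧ b = c) := by
  decide +kernel

theorem kk_tb : ∀ a b c d, D4 a b c d → ad (kk a b) (kk c d) = tb a b c d := by decide +kernel

theorem kk_rel : ∀ a b c d m, D5 a b c d m → ad (kk a b) (kk a m) = ad (kk c d) (kk b m) := by
  decide +kernel

/-- the transpositions -/
abbrev s0 : Equiv.Perm (Fin 5) := Equiv.swap 0 1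
@[inherit_doc s0] abbrev s1 : Equiv.Perm (Fin 5) := Equiv.swap 1 2
@[inherit_doc s0] abbrev s2 : Equiv.Perm (Fin 5) := Equiv.swap 2 3
@[inherit_doc s0] abbrev s3 : Equiv.Perm (Fin 5) := Equiv.swap 3 4
/-- `(02)(13)` -/
abbrev tt : Equiv.Perm (Fin 5) := Equiv.swap 0 2 * Equiv.swap 1 3

theorem kk_s0 : ∀ a b, a ≠ b → sA s0 (kk a b) = kk (s0 a) (s0 b) := by decide +kernel

theorem kk_s1 : ∀ a b, a ≠ b → ad (dec 1) (sA s1 (kk a b)) = kk (s1 a) (s1 b) := by decide +kernel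

theorem kk_s2 : ∀ a b, a ≠ b → sA s2 (kk a b) = kk (s2 a) (s2 b) := by decide +kernel

theorem kk_s3 : ∀ a b, a ≠ b → sA s3 (kk a b) = kk (s3 a) (s3 b) := by decide +kernel

set_option synthInstance.maxHeartbeats 400000 in
set_option synthInstance.maxSize 1000 in
/-- the cocycles -/
theorem code : ∀ u v : B4, sA s0 v = v → ad u (sA s1 v) = ad v (sA s3 u) →
    ad u (sA s1 (sA s0 (sA s2 u))) = z0 → (u = dec 1 ∧ v = b0) ∨
      (ad z0 (ad u (sA s1 z0)) = dec 1 ∧ ad z0 (ad v (sA s3 z0)) = b0) := by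
  decide +kernel

theorem tt_eq : s1 * (s0 * (s2 * s1)) = tt := by decide +kernel

theorem s03 : s0 * s3 = s3 * s0 := by decide +kernel

theorem s13 : s1 * s3 = s3 * s1 := by decide +kernel

theorem sA_s0 : sA s0 z0 = z0 := by decide +kernel

theorem sA_s2 : sA s2 z0 = z0 := by decide +kernel

theorem sA_tt : sA tt z0 = z0 := by decide +kernel

theorem F_code : ∀ σ, (∀ y, f0 y = false → sA σ y = y ∨ sA σ y = ad z0 y) →
    σ = 1 ∨ σ = s0 ∨ σ = s2 ∨ σ = s0 * s2 := by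
  decide +kernel

/-- `F` -/
def isF (σ : Equiv.Perm (Fin 5)) : Prop := σ = 1 ∨ σ = s0 ∨ σ = s2 ∨ σ = s0 * s2

instance (σ : Equiv.Perm (Fin 5)) : Decidable (isF σ) := by unfold isF; infer_instance

theorem F_sep : ∀ σ τ : Equiv.Perm (Fin 5), isF σ → isF τ →
    (ad (sA σ (dec 1)) (dec 1) = ad (sA τ (dec 1)) (dec 1) ∨
      ad (sA σ (dec 1)) (dec 1) = ad z0 (ad (sA τ (dec 1)) (dec 1))) → σ = τ := by
  decide +kernel

theorem F_E : ∀ τ : Equiv.Perm (Fin 5), isF τ → f0 (ad (sA τ (dec 1)) (dec 1)) = false := by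
  decide +kernel

theorem F_or : ∀ σ, sA σ z0 = z0 → isF σ ∨ isF (σ * tt⁻¹) := by decide +kernel

/-- the points not perpendicular to `z` -/
theorem opp_code : ∀ x, f0 x = true ↔
    x = tb 0 2 1 4 ∨ x = tb 0 3 1 4 ∨ x = tb 1 2 0 4 ∨ x = tb 1 3 0 4 ∨
    x = tb 0 2 3 4 ∨ x = tb 1 2 3 4 ∨ x = tb 0 3 2 4 ∨ x = tb 1 3 2 4 := by
  decide +kernel

theorem perp1 : f0 (ad (kk 0 1) (kk 0 4)) = false := by decide +kernel

theorem perp2 : f0 (ad (kk 0 1) (kk 0 2)) = true := by decide +kernel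

theorem kk_01 : kk 0 1 = b0 := by decide +kernel

theorem kk_23 : kk 2 3 = z0 := by decide +kernel

/-- the permutation with given images -/
theorem exists_perm5 {a b c d m : Fin 5} (h : D5 a b c d m) :
    ∃ τ : Equiv.Perm (Fin 5), τ 0 = a ∧ τ 1 = b ∧ τ 2 = c ∧ τ 3 = d ∧ τ 4 = m := by
  have hinj : Function.Injective ![a, b, c, d, m] := by
    revert a b c d m
    decide +kernel
  exact ⟨Equiv.ofBijective _ (Finite.injective_iff_bijective.1 hinj), rfl, rfl, rfl, rfl, rfl⟩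

theorem exists_fifth : ∀ a b c d : Fin 5, D4 a b c d → ∃ m, D5 a b c d m := by decide +kernel

/-- `S₅` is generated by the adjacent transpositions -/
theorem ind5 {H : Submonoid (Equiv.Perm (Fin 5))} (h0 : s0 ∈ H) (h1 : s1 ∈ H) (h2 : s2 ∈ H)
    (h3 : s3 ∈ H) : H = ⊤ := by
  rw [eq_top_iff, ← Equiv.Perm.mclosure_swap_castSucc_succ 4, Submonoid.closure_le]
  rintro _ ⟨i, rfl⟩
  fin_cases i
  · exact h0
  · exact h1
  · exact h2
  · exact h3

end Cfsg.Agent.Omega.NOne.AG.LabOf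

end

section


/-!
# D0ag (bb #15001) (1.4), type (α): the labels if `Δ > V`

`exists_lab` : `Conf`, `AW P V W` and `¬ Δ ≤ V` give `Lab h y pt`.
-/

set_option autoImplicit false
set_option linter.unusedSectionVars false

namespace Cfsg.Agent.Omega.NOne.AG.LabOf

open Subgroup Cfsg Cfsg.Agent.ZN
open Cfsg.Agent.Omega.NOne.AG.Tab
open Cfsg.Agent.Omega.NOne.AG.FactsNat (comm_of_one one_of_comm ovz_unique z_fix sA_one')

universe u

variable {G : Type u} [Group G] {ι : Type*}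

theorem ad_self (x : B4) : ad x x = b0 := by
  obtain ⟨a, b, c, d⟩ := x
  simp [ad]

section

variable {P V T : Subgroup G} {z : ι → G} {opp : ι → ι → Prop} {C Q QF Qs : ι → Subgroup G}
  {W : B4 → G} (h : Conf P V T z opp C Q QF Qs) (A : AW P V W)
include h A

theorem exists_idx [Nonempty ι] {x : B4} (hx : x ≠ b0) : ∃ i, z i = W x := by
  let i₁ := Classical.arbitrary ι
  obtain ⟨u, hu⟩ := A.surj _ (h.zV i₁)
  have hu0 : u ≠ b0 := by
    rintro rfl
    exact h.ne_one i₁ (hu.trans A.zero)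
  obtain ⟨a, b, c, d, hD, e1⟩ := Tab.exists_pt u hu0
  obtain ⟨a', b', c', d', hD', e2⟩ := Tab.exists_pt x hx
  obtain ⟨σ, p0, p1, p2, p3⟩ := exists_perm hD
  obtain ⟨τ, q0, q1, q2, q3⟩ := exists_perm hD'
  obtain ⟨m, hm, hσ⟩ := A.full (τ * σ⁻¹)
  obtain ⟨j, hj⟩ := h.perm m hm i₁
  refine ⟨j, ?_⟩
  rw [← hj, hu, e1, hσ a b c d hD, e2]
  have hi : ∀ i, (τ * σ⁻¹) (σ i) = τ i := fun i => by
    rw [← Equiv.Perm.mul_apply]; congr 1; group
  rw [← p0, ← p1, ← p2, ← p3, hi, hi, hi, hi, q0, q1, q2, q3]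

/-- `E = z^⊥` -/
theorem mem_Q {i : ι} (hi : z i = W z0) (x : B4) : W x ∈ Q i ↔ f0 x = false := by
  obtain ⟨j, k, hj, -, -⟩ := h.tri i
  have hne : ¬ ∀ v ∈ V, v ∈ Q i := fun hall => (h.opp_iff i j).1 hj (hall _ (h.zV j))
  -- no `x` with `f0 x = true` is in `E`
  have key : ∀ x, f0 x = true → W x ∉ Q i := by
    intro x hx hxE
    have hall : ∀ y, f0 y = true → W y ∈ Q i := by
      intro y hy
      obtain ⟨a, b, c, e⟩ := st_trans x y hx hy
      obtain ⟨m, hm, hσ⟩ := A.full (st a b c)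
      have h1 := A.conj_eq hσ
      have h2 : m * z i * m⁻¹ = z i := by
        have := h1 z0
        rwa [st_z0, ← hi] at this
      have h3 := h.eqQ m hm i i h2 _ hxE
      rwa [h1, ← e] at h3
    refine hne fun v hv => ?_
    obtain ⟨y, rfl⟩ := A.surj v hv
    by_cases hy : f0 y = true
    · exact hall y hy
    · rw [Bool.not_eq_true] at hy
      obtain ⟨u, hu, h1, h2⟩ := f0_split y hy
      rw [← h2, A.mul]
      exact mul_mem (hall _ h1) (hall _ hu)
  constructor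
  · intro h
    by_contra hcon
    rw [Bool.not_eq_false] at hcon
    exact key x hcon h
  · intro hx
    obtain ⟨u, hu, h1, h2⟩ := f0_split x hx
    rw [← h2, A.mul]
    exact h.VQ2 i _ (A.mem _) _ (A.mem _) (key _ h1) (key _ hu)

/-- `Qs` induces at most `F` -/
theorem Qs_F {i : ι} (hi : z i = W z0) {x : G} (hx : x ∈ Qs i) {σ : Equiv.Perm (Fin 5)}
    (hσ : Ovz W x σ) : isF σ := by
  apply F_code
  intro y hy
  have hyQ := (mem_Q h A hi y).2 hy
  have h1 := h.com i _ (h.VQs i _ (A.mem y) hyQ) x (h.QsQF i hx)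
  have h2 := A.conj_eq hσ y
  rcases h1 with h1 | h1
  · left
    apply A.inj
    rw [← h2, ← h1, mul_inv_cancel_right]
  · right
    apply A.inj
    rw [A.mul, ← h2, ← hi]
    have h3 : z i * (W y * x) = x * W y := by
      rw [h1, ← mul_assoc, h.sq, one_mul]
    rw [← h3]
    group

/-- `Qs` induces `F` -/
theorem Qs_ex {i : ι} (hi : z i = W z0) {τ : Equiv.Perm (Fin 5)} (hτ : isF τ) :
    ∃ x ∈ Qs i, Ovz W x τ := by
  have hv : W (dec 1) ∉ Q i := by
    rw [mem_Q h A hi]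
    decide
  have he : W (ad (sA τ (dec 1)) (dec 1)) ∈ Q i := (mem_Q h A hi _).2 (F_E τ hτ)
  obtain ⟨x, hx, h1⟩ := h.ev i _ (A.mem _) he _ (A.mem _) hv
  obtain ⟨σ, hσ⟩ := A.act x (h.QsP i hx)
  have hF := Qs_F h A hi hx hσ
  have h2 := A.conj_eq hσ (dec 1)
  have hinv : (W (dec 1))⁻¹ = W (dec 1) := inv_eq_of_mul_eq_one_left (A.sq _ (A.mem _))
  have h4 : σ = τ := by
    apply F_sep σ τ hF hτ
    rcases h1 with h1 | h1
    · left
      apply A.inj
      rw [A.mul, ← h2, ← h1, hinv]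
    · right
      apply A.inj
      rw [A.mul, ← h2, A.mul z0, ← hi, ← h1, hinv]
  exact ⟨x, hx, h4 ▸ hσ⟩

/-- `Qs i` contains an element over `(ab)`, `i = ab|cd` -/
theorem Qs_swap [Nonempty ι] {a b c d : Fin 5} (hD : D4 a b c d) :
    ∃ i, ∃ x ∈ Qs i, Ovz W x (Equiv.swap a b) := by
  obtain ⟨i₀, hi⟩ := exists_idx h A (x := z0) (by decide)
  obtain ⟨σ, p0, p1, p2, p3⟩ := exists_perm hD
  obtain ⟨m, hm, hσ⟩ := A.full σ
  obtain ⟨x, hx, h1⟩ := Qs_ex h A hi (τ := s0) (Or.inr (Or.inl rfl))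
  obtain ⟨j, hj⟩ := h.perm m hm i₀
  refine ⟨j, m * x * m⁻¹, h.eqQs m hm i₀ j hj x hx, ?_⟩
  have h2 := (Ovz.mul hσ h1).mul (Ovz.inv hσ)
  have h3 : σ * s0 * σ⁻¹ = Equiv.swap a b := by
    rw [← p0, ← p1, Equiv.swap_apply_apply]
  rwa [h3] at h2

/-- `P = ⟨Qs⟩ C_P(V)` -/
theorem exists_xc [Nonempty ι] {m : G} (hm : m ∈ P) :
    ∃ x ∈ ⨆ i, Qs i, ∃ c ∈ P, (∀ v ∈ V, c * v = v * c) ∧ m = x * c := by
  let H : Submonoid (Equiv.Perm (Fin 5)) :=
    { carrier := {τ | ∃ x ∈ ⨆ i, Qs i, Ovz W x τ}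
      mul_mem' := by
        rintro τ τ' ⟨x, hx, h1⟩ ⟨y, hy, h2⟩
        exact ⟨x * y, mul_mem hx hy, h1.mul h2⟩
      one_mem' := ⟨1, one_mem _, Ovz.one⟩ }
  have hs : ∀ a b c d : Fin 5, D4 a b c d → Equiv.swap a b ∈ H := by
    intro a b c d hD
    obtain ⟨i, x, hx, h1⟩ := Qs_swap h A hD
    exact ⟨x, (le_iSup Qs i) hx, h1⟩
  have hH : H = ⊤ := ind5 (hs 0 1 2 3 (by decide)) (hs 1 2 3 4 (by decide)) (hs 2 3 0 1 (by decide))
    (hs 3 4 0 1 (by decide))
  obtain ⟨σ, hσ⟩ := A.act m hm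
  have hσH : σ ∈ H := by rw [hH]; trivial
  obtain ⟨x, hx, h1⟩ := hσH
  have hxP : x ∈ P := (iSup_le fun i => h.QsP i : ⨆ i, Qs i ≤ P) hx
  refine ⟨x, hx, x⁻¹ * m, mul_mem (inv_mem hxP) hm, ?_, by group⟩
  apply comm_of_one A
  have h2 : Ovz W (x⁻¹ * m) (σ⁻¹ * σ) := h1.inv.mul hσ
  rwa [inv_mul_cancel] at h2

/-- `[P, Δ] ≤ V` -/
theorem comm_Dl_P [Nonempty ι] {m d : G} (hm : m ∈ P) (hd : d ∈ h.Dl) : d⁻¹ * (m * d * m⁻¹) ∈ V := by
  let K : Subgroup G :=
    { carrier := {x | x ∈ P ∧ ∀ d ∈ h.Dl, d⁻¹ * (x * d * x⁻¹) ∈ V}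
      one_mem' := ⟨one_mem _, fun d _ => by simp⟩
      mul_mem' := by
        rintro a b ⟨ha0, ha⟩ ⟨hb0, hb⟩
        refine ⟨mul_mem ha0 hb0, fun d hd => ?_⟩
        have e : d⁻¹ * (a * b * d * (a * b)⁻¹) =
            d⁻¹ * (a * d * a⁻¹) * (a * (d⁻¹ * (b * d * b⁻¹)) * a⁻¹) := by group
        rw [e]
        exact mul_mem (ha d hd) (h.conj_V ha0 (hb d hd))
      inv_mem' := by
        rintro a ⟨ha0, ha⟩
        refine ⟨inv_mem ha0, fun d hd => ?_⟩
        have e : d⁻¹ * (a⁻¹ * d * a⁻¹⁻¹) = a⁻¹ * ((a * d * a⁻¹)⁻¹ * d) * a⁻¹⁻¹ := by group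
        rw [e]
        refine h.conj_V (inv_mem ha0) ?_
        have h1 := inv_mem (ha d hd)
        have e2 : (a * d * a⁻¹)⁻¹ * d = (d⁻¹ * (a * d * a⁻¹))⁻¹ := by group
        rw [e2]; exact h1 }
  obtain ⟨x, hx, c, hc, hcV, rfl⟩ := exists_xc h A hm
  have hle : ⨆ i, Qs i ≤ K := iSup_le fun i y hy => ⟨h.QsP i hy, fun d hd => h.comm_Dl hy hd⟩
  have h1 := (hle hx).2 d hd
  have h2 := h.Dl_comm hc hcV hd
  have e : x * c * d * (x * c)⁻¹ = x * d * x⁻¹ := by
    calc x * c * d * (x * c)⁻¹ = x * (c * d) * c⁻¹ * x⁻¹ := by group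
      _ = x * d * x⁻¹ := by rw [h2]; group
  rwa [e]

/-- `B ∩ V = ⟨z⟩` -/
theorem BV {i : ι} {e : G} (he : e ∈ h.B i) (heV : e ∈ V) : e = 1 ∨ e = z i :=
  h.fixE i e heV fun x hx => ((h.mem_B.1 he).2 x hx).symm

theorem z_mem_B (i : ι) : z i ∈ h.B i :=
  h.mem_B.2 ⟨h.QsQF i (h.z_mem_Qs i), fun _ hy => (h.Qcomm_z (h.QsQ i hy)).symm⟩

end

/-- The situation: `b ∈ B ∩ Δ - V`. -/
structure Bs {P V T : Subgroup G} {z : ι → G} {opp : ι → ι → Prop} {C Q QF Qs : ι → Subgroup G}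
    (h : Conf P V T z opp C Q QF Qs) (i : ι) (b : G) : Prop where
  B : b ∈ h.B i
  D : b ∈ h.Dl
  V : b ∉ V

section

variable {P V T : Subgroup G} {z : ι → G} {opp : ι → ι → Prop} {C Q QF Qs : ι → Subgroup G}
  {W : B4 → G} (h : Conf P V T z opp C Q QF Qs) (A : AW P V W)
include h A

theorem exists_bs [Nonempty ι] {d : G} (hd : d ∈ h.Dl) (hdV : d ∉ V) (i : ι) :
    ∃ b v, Bs h i b ∧ v ∈ V ∧ d = b * v := by
  obtain ⟨b, hb, v, hv, rfl⟩ := h.mem_BV.1 (h.mem_Dl.1 hd i)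
  refine ⟨b, v, ⟨hb, ?_, fun hbV => hdV (mul_mem hbV hv)⟩, hv, rfl⟩
  have h1 := mul_mem hd (inv_mem (h.V_le_Dl hv))
  rwa [mul_inv_cancel_right] at h1

theorem Dl_z [Nonempty ι] {b : G} (hb : b ∈ h.Dl) (i : ι) : b * z i = z i * b :=
  h.TV b (h.Dl_le_T hb) _ (h.zV i)

theorem Bs.mul_z [Nonempty ι] {i : ι} {b : G} (H : Bs h i b) : Bs h i (b * z i) :=
  ⟨mul_mem H.B (z_mem_B h A i), mul_mem H.D (h.V_le_Dl (h.zV i)), fun hc => H.V (by
    have h1 := mul_mem hc (inv_mem (h.zV i))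
    rwa [mul_inv_cancel_right] at h1)⟩

/-- `P ∩ C(z)` acts on `{b, bz}` -/
theorem Bs.conj [Nonempty ι] {i : ι} {b : G} (H : Bs h i b) {m : G} (hm : m ∈ P)
    (hz : m * z i = z i * m) : m * b * m⁻¹ = b ∨ m * b * m⁻¹ = b * z i := by
  have h1 := comm_Dl_P h A hm H.D
  have h2 : b⁻¹ * (m * b * m⁻¹) ∈ h.B i :=
    mul_mem (inv_mem H.B) (norm_conj (h.B_norm i) (h.PC i m hm hz) H.B)
  rcases BV h A h2 h1 with h3 | h3
  · left
    rwa [inv_mul_eq_one, eq_comm] at h3
  · right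
    rwa [inv_mul_eq_iff_eq_mul] at h3

/-- the elements over `F` centralise `b` -/
theorem Bs.F [Nonempty ι] {i : ι} {b : G} (H : Bs h i b) (hi : z i = W z0) {m : G} (hm : m ∈ P)
    {σ : Equiv.Perm (Fin 5)} (hσ : Ovz W m σ) (hF : isF σ) : m * b * m⁻¹ = b := by
  obtain ⟨x, hx, h1⟩ := Qs_ex h A hi hF
  have hc : Ovz W (x⁻¹ * m) 1 := by
    have := h1.inv.mul hσ
    rwa [inv_mul_cancel] at this
  have h2 := h.Dl_comm (mul_mem (inv_mem (h.QsP i hx)) hm) (comm_of_one A hc) H.D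
  have h3 := (h.mem_B.1 H.B).2 x hx
  calc m * b * m⁻¹ = x * ((x⁻¹ * m) * b) * (x⁻¹ * m)⁻¹ * x⁻¹ := by group
    _ = x * b * x⁻¹ := by rw [h2]; group
    _ = b := by rw [← h3]; group

/-- some element of `P ∩ C(z)` moves `b` -/
theorem Bs.moved [Nonempty ι] {i : ι} {b : G} (H : Bs h i b) :
    ∃ m ∈ P, m * z i = z i * m ∧ m * b * m⁻¹ = b * z i := by
  by_contra hc
  push Not at hc
  have hfix : ∀ m ∈ P, m * z i = z i * m → m * b * m⁻¹ = b := by
    intro m hm hmz
    rcases Bs.conj h A H hm hmz with h1 | h1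
    · exact h1
    · exact absurd h1 (hc m hm hmz)
  have hbb := h.Dl_sq H.D
  have h1 := h.min i (zpowers b) (by
    rw [zpowers_le]; exact h.Dl_le_T H.D) (fun m hm hmz x hx => by
      obtain ⟨n, rfl⟩ := mem_zpowers_iff.1 hx
      rw [← conj_zpow, hfix m hm hmz]
      exact zpow_mem (mem_zpowers b) n) (by
      rw [Ne, zpowers_eq_bot]
      rintro rfl
      exact H.V (one_mem _))
  obtain ⟨n, hn⟩ := mem_zpowers_iff.1 h1
  rcases Int.even_or_odd' n with ⟨k, rfl | rfl⟩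
  · rw [zpow_mul, zpow_two, hbb, one_zpow] at hn
    exact h.ne_one i hn.symm
  · rw [zpow_add, zpow_mul, zpow_two, hbb, one_zpow, one_mul, zpow_one] at hn
    exact H.V (hn ▸ h.zV i)

/-- the elements over `(02)(13)` map `b` to `bz` -/
theorem Bs.tt [Nonempty ι] {i : ι} {b : G} (H : Bs h i b) (hi : z i = W z0) {m : G} (hm : m ∈ P)
    (hσ : Ovz W m LabOf.tt) : m * b * m⁻¹ = b * z i := by
  obtain ⟨n, hn, hnz, h1⟩ := Bs.moved h A H
  obtain ⟨τ, hτ⟩ := A.act n hn
  have hτz : sA τ z0 = z0 := z_fix A hτ (by rwa [← hi])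
  rcases F_or τ hτz with hF | hF
  · exfalso
    have h2 := Bs.F h A H hi hn hτ hF
    rw [h2] at h1
    exact h.ne_one i (left_eq_mul.1 h1)
  · have h2 := Bs.F h A H hi (mul_mem hn (inv_mem hm)) (Ovz.mul hτ (Ovz.inv hσ)) hF
    have h3 : (n * m⁻¹) * z i * (n * m⁻¹)⁻¹ = z i := by
      have h4 : m * z i * m⁻¹ = z i := by
        have := A.conj_eq hσ z0
        rwa [sA_tt, ← hi] at this
      have h5 : m⁻¹ * z i * m = z i := by
        calc m⁻¹ * z i * m = m⁻¹ * (m * z i * m⁻¹) * m := by rw [h4]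
          _ = z i := by group
      calc (n * m⁻¹) * z i * (n * m⁻¹)⁻¹ = n * (m⁻¹ * z i * m) * n⁻¹ := by group
        _ = z i := by rw [h5, hnz, mul_inv_cancel_right]
    calc m * b * m⁻¹ = (n * m⁻¹)⁻¹ * (n * b * n⁻¹) * (n * m⁻¹) := by group
      _ = (n * m⁻¹)⁻¹ * (b * z i) * (n * m⁻¹) := by rw [h1]
      _ = (n * m⁻¹)⁻¹ * (((n * m⁻¹) * b * (n * m⁻¹)⁻¹) * ((n * m⁻¹) * z i * (n * m⁻¹)⁻¹)) * (n * m⁻¹) := by
        rw [h2, h3]
      _ = b * z i := by group

/-- `|Δ : V| = 2` -/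
theorem Bs.two [Nonempty ι] {i : ι} {b : G} (H : Bs h i b) (hi : z i = W z0) {d : G} (hd : d ∈ h.Dl)
    (hdV : d ∉ V) : d * b ∈ V := by
  obtain ⟨b', v, H', hv, rfl⟩ := exists_bs h A hd hdV i
  have hvb : v * b = b * v := (h.TV b (h.Dl_le_T H.D) v hv).symm
  by_contra hc
  have hbb : Bs h i (b' * b) := by
    refine ⟨mul_mem H'.B H.B, mul_mem H'.D H.D, fun h1 => hc ?_⟩
    rw [mul_assoc, hvb, ← mul_assoc]
    exact mul_mem h1 hv
  obtain ⟨m, hm, hσ⟩ := A.full LabOf.tt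
  have h1 := Bs.tt h A H hi hm hσ
  have h2 := Bs.tt h A H' hi hm hσ
  have h3 := Bs.tt h A hbb hi hm hσ
  have h4 : m * (b' * b) * m⁻¹ = b' * b := by
    calc m * (b' * b) * m⁻¹ = (m * b' * m⁻¹) * (m * b * m⁻¹) := by group
      _ = (b' * z i) * (b * z i) := by rw [h1, h2]
      _ = b' * (z i * b) * z i := by group
      _ = b' * b * (z i * z i) := by rw [← Dl_z h A H.D i]; group
      _ = b' * b := by rw [h.sq, mul_one]
  rw [h4] at h3
  exact h.ne_one i (left_eq_mul.1 h3)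

/-- the cocycle -/
theorem Bs.coc [Nonempty ι] {i : ι} {b : G} (H : Bs h i b) : ∃ c : Equiv.Perm (Fin 5) → B4,
    ∀ m ∈ P, ∀ σ, Ovz W m σ → m * b * m⁻¹ = b * W (c σ) := by
  have hex : ∀ σ : Equiv.Perm (Fin 5), ∃ x : B4, ∀ m ∈ P, Ovz W m σ → m * b * m⁻¹ = b * W x := by
    intro σ
    obtain ⟨m, hm, hσ⟩ := A.full σ
    obtain ⟨x, hx⟩ := A.surj _ (comm_Dl_P h A hm H.D)
    refine ⟨x, fun n hn hτ => ?_⟩
    have hc : Ovz W (m⁻¹ * n) 1 := by
      have := (Ovz.inv hσ).mul hτ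
      rwa [inv_mul_cancel] at this
    have h2 := h.Dl_comm (mul_mem (inv_mem hm) hn) (comm_of_one A hc) H.D
    calc n * b * n⁻¹ = m * ((m⁻¹ * n) * b) * (m⁻¹ * n)⁻¹ * m⁻¹ := by group
      _ = m * b * m⁻¹ := by rw [h2]; group
      _ = b * W x := by rw [← hx]; group
  choose c hc using hex
  exact ⟨c, fun m hm σ hσ => hc σ m hm hσ⟩

/-- **the choice of `b = y₀₁`** -/
theorem exists_b [Nonempty ι] (hDl : ¬ h.Dl ≤ V) {i : ι} (hi : z i = W z0) : ∃ b, Bs h i b ∧
    (∀ m ∈ P, Ovz W m s0 → m * b * m⁻¹ = b) ∧ (∀ m ∈ P, Ovz W m s1 → m * b * m⁻¹ = b * W (dec 1)) ∧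
    (∀ m ∈ P, Ovz W m s2 → m * b * m⁻¹ = b) ∧ ∀ m ∈ P, Ovz W m s3 → m * b * m⁻¹ = b := by
  obtain ⟨d, hd, hdV⟩ := SetLike.not_le_iff_exists.1 hDl
  obtain ⟨b, v, H, hv, rfl⟩ := exists_bs h A hd hdV i
  obtain ⟨c, hc⟩ := Bs.coc h A H
  have hcan : ∀ x y : B4, b * W x = b * W y → x = y := fun x y e => A.inj _ _ (mul_left_cancel e)
  have c0 : ∀ σ, isF σ → c σ = b0 := by
    intro σ hF
    obtain ⟨m, hm, hσ⟩ := A.full σ
    apply hcan
    rw [← hc m hm σ hσ, Bs.F h A H hi hm hσ hF, A.zero, mul_one]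
  have cm : ∀ σ τ, c (σ * τ) = ad (c σ) (sA σ (c τ)) := by
    intro σ τ
    obtain ⟨m, hm, hσ⟩ := A.full σ
    obtain ⟨n, hn, hτ⟩ := A.full τ
    apply hcan
    rw [← hc (m * n) (mul_mem hm hn) _ (Ovz.mul hσ hτ), A.mul]
    calc m * n * b * (m * n)⁻¹ = m * (n * b * n⁻¹) * m⁻¹ := by group
      _ = m * (b * W (c τ)) * m⁻¹ := by rw [hc n hn τ hτ]
      _ = (m * b * m⁻¹) * (m * W (c τ) * m⁻¹) := by group
      _ = b * (W (c σ) * W (sA σ (c τ))) := by rw [hc m hm σ hσ, A.conj_eq hσ, mul_assoc]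
  have ct : c LabOf.tt = z0 := by
    obtain ⟨m, hm, hσ⟩ := A.full LabOf.tt
    apply hcan
    rw [← hc m hm _ hσ, Bs.tt h A H hi hm hσ, hi]
  have hs0 := c0 s0 (Or.inr (Or.inl rfl))
  have hs2 := c0 s2 (Or.inr (Or.inr (Or.inl rfl)))
  have had : ∀ x, ad b0 x = x := by decide
  have had' : ∀ x, ad x b0 = x := by decide
  have hsA0 : ∀ σ, sA σ b0 = b0 := fun σ => by
    rw [sA, lin]; rfl
  have e1 : sA s0 (c s3) = c s3 := by
    have h1 := cm s0 s3
    rw [s03, cm, hs0, had, hsA0, had'] at h1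
    exact h1.symm
  have e2 : ad (c s1) (sA s1 (c s3)) = ad (c s3) (sA s3 (c s1)) := by
    rw [← cm, ← cm, s13]
  have e3 : ad (c s1) (sA s1 (sA s0 (sA s2 (c s1)))) = z0 := by
    rw [← ct, ← tt_eq, cm, cm, cm, hs0, hs2, had, had]
  rcases code _ _ e1 e2 e3 with ⟨h1, h2⟩ | ⟨h1, h2⟩
  · refine ⟨b, H, ?_, ?_, ?_, ?_⟩
    · intro m hm hσ
      rw [hc m hm _ hσ, hs0, A.zero, mul_one]
    · intro m hm hσ
      rw [hc m hm _ hσ, h1]
    · intro m hm hσ
      rw [hc m hm _ hσ, hs2, A.zero, mul_one]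
    · intro m hm hσ
      rw [hc m hm _ hσ, h2, A.zero, mul_one]
  · have key : ∀ m ∈ P, ∀ σ, Ovz W m σ →
        m * (b * z i) * m⁻¹ = b * z i * W (ad z0 (ad (c σ) (sA σ z0))) := by
      intro m hm σ hσ
      calc m * (b * z i) * m⁻¹ = (m * b * m⁻¹) * (m * z i * m⁻¹) := by group
        _ = b * W (c σ) * W (sA σ z0) := by rw [hc m hm σ hσ, hi, A.conj_eq hσ]
        _ = b * z i * W (ad z0 (ad (c σ) (sA σ z0))) := by
          rw [A.mul, A.mul, ← hi]
          calc b * W (c σ) * W (sA σ z0) = b * (z i * z i) * (W (c σ) * W (sA σ z0)) := by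
                rw [h.sq, mul_one, mul_assoc]
            _ = _ := by group
    refine ⟨b * z i, Bs.mul_z h A H, ?_, ?_, ?_, ?_⟩
    · intro m hm hσ
      rw [key m hm _ hσ, hs0, had, sA_s0, ad_self, A.zero, mul_one]
    · intro m hm hσ
      rw [key m hm _ hσ, h1]
    · intro m hm hσ
      rw [key m hm _ hσ, hs2, had, sA_s2, ad_self, A.zero, mul_one]
    · intro m hm hσ
      rw [key m hm _ hσ, h2, A.zero, mul_one]

/-- the elements `y a b` are permuted by `P` -/
theorem ov_of [Nonempty ι] {i : ι} {b : G} (H : Bs h i b)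
    (hb0 : ∀ m ∈ P, Ovz W m s0 → m * b * m⁻¹ = b)
    (hb1 : ∀ m ∈ P, Ovz W m s1 → m * b * m⁻¹ = b * W (dec 1))
    (hb2 : ∀ m ∈ P, Ovz W m s2 → m * b * m⁻¹ = b)
    (hb3 : ∀ m ∈ P, Ovz W m s3 → m * b * m⁻¹ = b) (σ : Equiv.Perm (Fin 5)) :
    ∀ m ∈ P, Ovz W m σ → ∀ p q, p ≠ q →
      m * (b * W (kk p q)) * m⁻¹ = b * W (kk (σ p) (σ q)) := by
  let K : Submonoid (Equiv.Perm (Fin 5)) :=
    { carrier := {σ | ∀ m ∈ P, Ovz W m σ → ∀ p q, p ≠ q →
        m * (b * W (kk p q)) * m⁻¹ = b * W (kk (σ p) (σ q))}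
      mul_mem' := by
        intro σ τ hσ hτ m hm h1 p q hpq
        obtain ⟨n, hn, h2⟩ := A.full τ
        have h3 : Ovz W (m * n⁻¹) σ := by
          have := Ovz.mul h1 (Ovz.inv h2)
          rwa [mul_inv_cancel_right] at this
        have h4 := hτ n hn h2 p q hpq
        have h5 := hσ _ (mul_mem hm (inv_mem hn)) h3 (τ p) (τ q) (τ.injective.ne hpq)
        rw [← h4] at h5
        calc m * (b * W (kk p q)) * m⁻¹ =
            m * n⁻¹ * (n * (b * W (kk p q)) * n⁻¹) * (m * n⁻¹)⁻¹ := by group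
          _ = _ := h5
      one_mem' := by
        intro m hm h1 p q _
        have h2 := h.Dl_comm hm (comm_of_one A h1) (mul_mem H.D (h.V_le_Dl (A.mem (kk p q))))
        rw [h2, mul_inv_cancel_right]
        rfl }
  have hc : ∀ m (x y : B4) (u : G), m * b * m⁻¹ = u → m * W x * m⁻¹ = W y →
      m * (b * W x) * m⁻¹ = u * W y := by
    intro m x y u h1 h2
    rw [← h1, ← h2]; group
  have hK : K = ⊤ := by
    apply ind5
    · intro m hm h1 p q hpq
      rw [hc m _ _ _ (hb0 m hm h1) (A.conj_eq h1 _), kk_s0 p q hpq]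
    · intro m hm h1 p q hpq
      rw [hc m _ _ _ (hb1 m hm h1) (A.conj_eq h1 _), mul_assoc, ← A.mul, kk_s1 p q hpq]
    · intro m hm h1 p q hpq
      rw [hc m _ _ _ (hb2 m hm h1) (A.conj_eq h1 _), kk_s2 p q hpq]
    · intro m hm h1 p q hpq
      rw [hc m _ _ _ (hb3 m hm h1) (A.conj_eq h1 _), kk_s3 p q hpq]
  have hσ : σ ∈ K := by rw [hK]; trivial
  exact hσ

/-- **The labels** if `Δ > V`. -/
theorem exists_lab [Nonempty ι] (hinj : Function.Injective z) (hDl : ¬ h.Dl ≤ V) :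
    ∃ (y : Fin 5 → Fin 5 → G) (pt : Fin 5 → Fin 5 → Fin 5 → Fin 5 → ι), Lab h y pt := by
  classical
  obtain ⟨i, hi⟩ := exists_idx h A (x := z0) (by decide)
  obtain ⟨b, H, hb0, hb1, hb2, hb3⟩ := exists_b h A hDl hi
  have hov := ov_of h A H hb0 hb1 hb2 hb3
  -- the points
  obtain ⟨f, hf⟩ : ∃ f : B4 → ι, ∀ x, x ≠ b0 → z (f x) = W x := by
    have h1 : ∀ x : B4, ∃ i, x ≠ b0 → z i = W x := by
      intro x
      by_cases hx : x = b0
      · exact ⟨i, fun h' => absurd hx h'⟩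
      · obtain ⟨j, hj⟩ := exists_idx h A hx
        exact ⟨j, fun _ => hj⟩
    choose f hf using h1
    exact ⟨f, hf⟩
  have hpt : ∀ a b c d, D4 a b c d → z (f (tb a b c d)) = W (tb a b c d) :=
    fun a b c d hD => hf _ (tb_ne a b c d hD)
  have hi0 : f (tb 0 1 2 3) = i := hinj (by rw [hpt 0 1 2 3 (by decide), hi])
  set y : Fin 5 → Fin 5 → G := fun p q => b * W (kk p q) with hy
  have hyD : ∀ p q, y p q ∈ h.Dl := fun p q => mul_mem H.D (h.V_le_Dl (A.mem _))
  have hyV : ∀ p q, y p q ∉ V := fun p q hc => H.V (by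
    have h1 := mul_mem hc (inv_mem (A.mem (kk p q)))
    rwa [hy, mul_inv_cancel_right] at h1)
  have hb01 : y 0 1 = b := by
    rw [hy]; show b * W (kk 0 1) = b
    rw [kk_01, A.zero, mul_one]
  have hb23 : y 2 3 = b * z i := by
    rw [hy]; show b * W (kk 2 3) = b * z i
    rw [kk_23, hi]
  have hOv : ∀ m ∈ P, ∀ σ, Ovz W m σ → Ov P y σ m := fun m hm σ hσ =>
    ⟨hm, fun p q hpq => hov σ m hm hσ p q hpq⟩
  have hbV : ∀ x, b * W x = W x * b := fun x => h.TV b (h.Dl_le_T H.D) _ (A.mem x)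
  have hbb : b * b = 1 := h.Dl_sq H.D
  have hyy : ∀ p q r s, y p q * y r s = W (ad (kk p q) (kk r s)) := by
    intro p q r s
    rw [A.mul]
    show b * W (kk p q) * (b * W (kk r s)) = _
    calc b * W (kk p q) * (b * W (kk r s)) = (b * W (kk p q)) * b * W (kk r s) := by group
      _ = W (kk p q) * (b * b) * W (kk r s) := by rw [hbV]; group
      _ = _ := by rw [hbb, mul_one]
  -- transport
  have htr : ∀ a b c d m, D5 a b c d m → ∃ g ∈ P, ∃ σ : Equiv.Perm (Fin 5), Ovz W g σ ∧ Ov P y σ g ∧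
      σ 0 = a ∧ σ 1 = b ∧ σ 2 = c ∧ σ 3 = d ∧ σ 4 = m ∧ g * z i * g⁻¹ = z (f (tb a b c d)) := by
    intro a b c d m hD
    obtain ⟨σ, h0, h1, h2, h3, h4⟩ := exists_perm5 hD
    obtain ⟨g, hg, hσ⟩ := A.full σ
    refine ⟨g, hg, σ, hσ, hOv g hg σ hσ, h0, h1, h2, h3, h4, ?_⟩
    rw [hpt a b c d hD.1, hi]
    have := hσ 0 1 2 3 (by decide)
    rwa [h0, h1, h2, h3] at this
  have hB0 : ∀ x ∈ h.Dl, (x ∈ h.B i ↔ x = 1 ∨ x = z i ∨ x = y 0 1 ∨ x = y 2 3) := by
    intro x hx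
    rw [hb01, hb23]
    constructor
    · intro hxB
      by_cases hxV : x ∈ V
      · rcases BV h A hxB hxV with h1 | h1
        · exact Or.inl h1
        · exact Or.inr (Or.inl h1)
      · have h1 := Bs.two h A H hi hx hxV
        have hbi : b⁻¹ = b := inv_eq_of_mul_eq_one_left hbb
        rcases BV h A (mul_mem hxB H.B) h1 with h2 | h2
        · right; right; left
          rw [mul_eq_one_iff_eq_inv] at h2
          rw [h2, hbi]
        · right; right; right
          rw [Dl_z h A H.D i, ← h2, mul_assoc, hbb, mul_one]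
    · rintro (rfl | rfl | rfl | rfl)
      · exact one_mem _
      · exact z_mem_B h A i
      · exact H.B
      · exact mul_mem H.B (z_mem_B h A i)
  have hconjDl : ∀ g ∈ P, ∀ x ∈ h.Dl, g⁻¹ * x * g ∈ h.Dl := by
    intro g hg x hx
    have := norm_conj h.Dl_norm (inv_mem hg) hx
    rwa [inv_inv] at this
  have hBiff : ∀ a b c d, D4 a b c d → ∀ x ∈ h.Dl,
      (x ∈ h.B (f (tb a b c d)) ↔ x = 1 ∨ x = z (f (tb a b c d)) ∨ x = y a b ∨ x = y c d) := by
    intro a b' c d hD x hx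
    obtain ⟨m, hD5⟩ := exists_fifth a b' c d hD
    obtain ⟨g, hg, σ, -, hσ, h0, h1, h2, h3, h4, hz⟩ := htr a b' c d m hD5
    have e1 := hσ.2 0 1 (by decide)
    have e2 := hσ.2 2 3 (by decide)
    rw [h0, h1] at e1
    rw [h2, h3] at e2
    have h5 : x ∈ h.B (f (tb a b' c d)) ↔ g⁻¹ * x * g ∈ h.B i := by
      constructor
      · intro h6
        have := h.eqB (inv_mem hg) (Conf.back hz) h6
        rwa [inv_inv] at this
      · intro h6
        have := h.eqB hg hz h6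
        have e : g * (g⁻¹ * x * g) * g⁻¹ = x := by group
        rwa [e] at this
    rw [h5, hB0 _ (hconjDl g hg x hx), ← e1, ← e2, ← hz]
    have h6 : ∀ u, g⁻¹ * x * g = u ↔ x = g * u * g⁻¹ := by
      intro u
      constructor
      · rintro rfl; group
      · intro e; rw [e]; group
    rw [h6, h6, h6, h6, mul_one, mul_inv_cancel]
  have hconjQ : ∀ {a b c d m} (_ : D5 a b c d m) {g : G}, g ∈ P → g * z i * g⁻¹ = z (f (tb a b c d)) →
      ∀ x, x ∈ Q i ↔ g * x * g⁻¹ ∈ Q (f (tb a b c d)) := by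
    intro a b c d m _ g hg hz x
    constructor
    · exact h.eqQ g hg i _ hz x
    · intro h6
      have := h.eqQ _ (inv_mem hg) _ _ (Conf.back hz) _ h6
      have e : g⁻¹ * (g * x * g⁻¹) * g⁻¹⁻¹ = x := by group
      rwa [e] at this
  have hbQ : b ∈ Q i := h.B_Q i H.B
  refine ⟨y, fun a b c d => f (tb a b c d), ?_⟩
  exact
  { symm := fun p q => by
      show b * W (kk p q) = b * W (kk q p)
      rw [kk_symm]
    ne_one := fun p q _ h1 => hyV p q (h1 ▸ one_mem _)
    sq := fun p q _ => h.Dl_sq (hyD p q)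
    comm := fun p q r s _ _ => h.T_Dl (h.Dl_le_T (hyD p q)) (hyD r s)
    inj := fun p q r s hpq hrs e => kk_inj p q r s hpq hrs (A.inj _ _ (mul_left_cancel e))
    z_eq := fun p q r s hD => by rw [hpt p q r s hD, hyy, kk_tb p q r s hD]
    surj := by
      intro j
      obtain ⟨x, hx⟩ := A.surj _ (h.zV j)
      have hx0 : x ≠ b0 := by
        rintro rfl
        exact h.ne_one j (hx.trans A.zero)
      obtain ⟨p, q, r, s, hD, rfl⟩ := Tab.exists_pt x hx0
      exact ⟨p, q, r, s, hD, hinj (by rw [hx, hpt p q r s hD])⟩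
    rel := fun p q r s m hD => by rw [hyy, hyy, kk_rel p q r s m hD]
    notV := fun p q _ => hyV p q
    mem_iff := by
      intro p q _ x
      constructor
      · intro hx
        by_cases hxV : x ∈ V
        · exact Or.inl hxV
        · right
          have h1 := Bs.two h A H hi hx hxV
          show x * (b * W (kk p q)) ∈ V
          rw [← mul_assoc]
          exact mul_mem h1 (A.mem _)
      · rintro (hx | hx)
        · exact h.V_le_Dl hx
        · have h1 := mul_mem (h.V_le_Dl hx) (inv_mem (hyD p q))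
          rwa [mul_inv_cancel_right] at h1
    B_iff := hBiff
    yQ := by
      intro p q r s m hD
      refine ⟨h.B_Q _ ((hBiff p q r s hD.1 _ (hyD p q)).2 (Or.inr (Or.inr (Or.inl rfl)))), ?_⟩
      obtain ⟨g, hg, σ, -, hσ, h0, h1, h2, h3, h4, hz⟩ := htr p q r s m hD
      have e1 := hσ.2 0 4 (by decide)
      rw [h0, h4] at e1
      rw [← e1]
      exact (hconjQ hD hg hz _).1 (mul_mem hbQ ((mem_Q h A hi _).2 (by decide +kernel)))
    yQ' := by
      intro p q r s m hD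
      obtain ⟨g, hg, σ, -, hσ, h0, h1, h2, h3, h4, hz⟩ := htr p q r s m hD
      have e1 := hσ.2 0 2 (by decide)
      rw [h0, h2] at e1
      rw [← e1, ← hconjQ hD hg hz]
      intro hc
      have h5 := mul_mem (inv_mem hbQ) hc
      have h6 : b⁻¹ * y 0 2 = W (kk 0 2) := by
        show b⁻¹ * (b * W (kk 0 2)) = _
        group
      rw [h6, mem_Q h A hi] at h5
      exact absurd h5 (by decide +kernel)
    act := by
      intro m hm
      obtain ⟨σ, hσ⟩ := A.act m hm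
      exact ⟨σ, hOv m hm σ hσ⟩
    full := by
      intro σ
      obtain ⟨m, hm, hσ⟩ := A.full σ
      exact ⟨m, hOv m hm σ hσ⟩
    Qs_ov := by
      intro p q r s hD x hx
      obtain ⟨m, hD5⟩ := exists_fifth p q r s hD
      obtain ⟨g, hg, σ, hσ, -, h0, h1, h2, h3, h4, hz⟩ := htr p q r s m hD5
      have hx' : g⁻¹ * x * g⁻¹⁻¹ ∈ Qs i := h.eqQs _ (inv_mem hg) _ _ (Conf.back hz) x hx
      obtain ⟨τ, hτ⟩ := A.act _ (h.QsP i hx')
      have hF := Qs_F h A hi hx' hτ
      have hxo : Ovz W x (σ * τ * σ⁻¹) := by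
        have h5 := (Ovz.mul hσ hτ).mul (Ovz.inv hσ)
        have e : g * (g⁻¹ * x * g⁻¹⁻¹) * g⁻¹ = x := by group
        rwa [e] at h5
      have hO := hOv x (h.QsP _ hx) _ hxo
      have hc0 : σ * s0 * σ⁻¹ = Equiv.swap p q := by
        rw [← h0, ← h1, Equiv.swap_apply_apply]
      have hc2 : σ * s2 * σ⁻¹ = Equiv.swap r s := by
        rw [← h2, ← h3, Equiv.swap_apply_apply]
      rcases hF with rfl | rfl | rfl | rfl
      · left
        rwa [mul_one, mul_inv_cancel] at hO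
      · right; left
        rwa [hc0] at hO
      · right; right; left
        rwa [hc2] at hO
      · right; right; right
        have e : σ * (s0 * s2) * σ⁻¹ = (σ * s0 * σ⁻¹) * (σ * s2 * σ⁻¹) := by group
        rwa [e, hc0, hc2] at hO
    Qs_ex := by
      intro p q r s hD
      obtain ⟨m, hD5⟩ := exists_fifth p q r s hD
      obtain ⟨g, hg, σ, hσ, -, h0, h1, h2, h3, h4, hz⟩ := htr p q r s m hD5
      obtain ⟨x, hx, h5⟩ := Qs_ex h A hi (τ := s0) (Or.inr (Or.inl rfl))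
      refine ⟨g * x * g⁻¹, h.eqQs g hg i _ hz x hx, ?_⟩
      have hc0 : σ * s0 * σ⁻¹ = Equiv.swap p q := by
        rw [← h0, ← h1, Equiv.swap_apply_apply]
      rw [← hc0]
      exact hOv _ (mul_mem (mul_mem hg (h.QsP i hx)) (inv_mem hg)) _
        ((Ovz.mul hσ h5).mul (Ovz.inv hσ))
    opp_iff := by
      intro p q r s m hD j
      obtain ⟨g, hg, σ, hσ, -, h0, h1, h2, h3, h4, hz⟩ := htr p q r s m hD
      obtain ⟨x, hx⟩ := A.surj _ (h.conj_V (inv_mem hg) (h.zV j))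
      have hzj : z j = g * W x * g⁻¹ := by
        rw [← hx]; group
      have hpe : ∀ p' q' r' s', D4 p' q' r' s' → (j = f (tb (σ p') (σ q') (σ r') (σ s')) ↔
          x = tb p' q' r' s') := by
        intro p' q' r' s' hD'
        have h5 := hpt _ _ _ _ (Tab.D4.map hD' σ)
        have h6 := hσ p' q' r' s' hD'
        constructor
        · intro e
          apply A.inj
          have h7 : g * W x * g⁻¹ = g * W (tb p' q' r' s') * g⁻¹ := by
            rw [← hzj, h6, ← h5, ← e]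
          exact mul_left_cancel (mul_right_cancel h7)
        · rintro rfl
          apply hinj
          rw [hzj, h6, h5]
      show opp (f (tb p q r s)) j ↔ _
      rw [h.opp_iff, hzj, ← hconjQ hD hg hz, mem_Q h A hi, Bool.not_eq_false, opp_code,
        ← hpe 0 2 1 4 (by decide), ← hpe 0 3 1 4 (by decide), ← hpe 1 2 0 4 (by decide),
        ← hpe 1 3 0 4 (by decide), ← hpe 0 2 3 4 (by decide), ← hpe 1 2 3 4 (by decide),
        ← hpe 0 3 2 4 (by decide), ← hpe 1 3 2 4 (by decide), h0, h1, h2, h3, h4]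
    pt1 := fun p q r s hD => by
      show f (tb p q r s) = f (tb q p r s)
      rw [tb_swap1 p q r s hD]
    pt2 := fun p q r s hD => by
      show f (tb p q r s) = f (tb r s p q)
      rw [tb_swap2 p q r s hD] }

end

end Cfsg.Agent.Omega.NOne.AG.LabOf

end

section


/-!
# THEOREM D0ag (bb #15001): `EndPlus2` from `|V / E| = 2` (helper537)
-/

set_option autoImplicit false

namespace Cfsg.Agent.Omega.NOne.AG.PlusEnd

open Subgroup Cfsg Cfsg.Agent.ZN Cfsg.Agent.Omega.MinPar Cfsg.Agent.Omega.Frame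
open Cfsg.Agent.Omega.NO1 (Cfg Plus2 Nat4 Sympl EE)
open Cfsg.Agent.Omega.NOne.AG.End (PlusBase PlusIdx)

universe u

/-- Type (γ): the configuration. -/
theorem plusBase : PlusBase.{u} := by
  intro G _ _ S P h z hz hE
  obtain ⟨C, QF, Qs, hp, -, hB⟩ := exists_base h hz.Z (hz.ne_one 0 0) (FactsPlus.card16 hz) hE
    (FactsPlus.facts h hz hE) (FactsPlus.stab h hz) (FactsPlus.ind h hz)
  exact ⟨Pts P (z 0 0), _, hp.opp, _, _, _, _, Pts.base P (z 0 0), rfl, hB⟩

/-- **`EndPlus2`** from `|V / E| = 2`. -/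
theorem endPlus2_of_idx (h1 : PlusIdx.{u}) : NO1.EndPlus2.{u} := by
  intro G _ _ S P h z hz
  obtain ⟨ι, ζ, opp, C, Q, QF, Qs, i₀, e, hB⟩ := plusBase G S P h z hz (h1 G S P h z hz)
  rcases hB.caseV (hB.Dl_le_of_plus2 hz) with h4 | ⟨h4, h5⟩
  · rwa [e] at h4
  · exact (hB.false_of_plus h5 rfl hz).elim

end Cfsg.Agent.Omega.NOne.AG.PlusEnd

end

section


/-!
# THEOREM D0ag (bb #15001): the leaf `EndPlus2` of N1

See `AG/PlusEnd.lean` (`PlusEnd.plusBase`, `PlusEnd.endPlus2_of_idx`).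
-/

set_option autoImplicit false

namespace Cfsg.Agent.Omega.NOne.AG.End

universe u

/-- **`EndPlus2`** from `|V / E| = 2`. -/
theorem endPlus2 (h1 : PlusIdx.{u}) : NO1.EndPlus2.{u} := PlusEnd.endPlus2_of_idx h1

end Cfsg.Agent.Omega.NOne.AG.End

end

end
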