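import Mathlib.GroupTheory.OrderOfElement
import Mathlib.GroupTheory.Index
import Mathlib.Tactic
import Cfsg.Agent.Mrg.Omega.NOne.AG.Tools
import Cfsg.Agent.Mrg.Omega.NOne.LemmaT
import Cfsg.Agent.Involutions.BaerSuzuki
import Cfsg.Agent.Mrg.Omega.NOne.AG.TwoLab
import Mathlib.GroupTheory.Sylow
import Mathlib.GroupTheory.Nilpotent
import Mathlib.GroupTheory.PGroup
import Cfsg.Agent.Mrg.Omega.NOne.AG.Sympl
import Cfsg.Agent.Omega.NOne.AG.FiveEnd
import Mathlib.GroupTheory.Transfer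
import Mathlib.GroupTheory.Abelianization.Defs
import Cfsg.Agent.Mrg.Omega.NOne.AG.FactsPlus

-- merged: Cfsg.Agent.Omega.NOne.AG.GData
section

/-!
# D0ag: the element `g` inverted by `v` (abstract part); helper950

`E` elementary abelian of order 8, `z ∈ E`, `v` an involution centralising `E` and inverting the element `g` of odd
order, `E ∩ E^g = ⟨z⟩` in the form `ff`.  Then for `e ∈ E - ⟨z⟩` : `C_E(g e g⁻¹) = ⟨z, e⟩` and
`g⁻¹ e g ∈ (g e g⁻¹) e ⟨z⟩`.
-/

set_option autoImplicit false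

namespace Cfsg.Agent.Omega.NOne.AG.GData

variable {G : Type*} [Group G]

theorem comm_of_sq {a b : G} (ha : a * a = 1) (hb : b * b = 1) (hab : a * b * (a * b) = 1) : a * b = b * a := by
  have h1 : a⁻¹ = a := inv_eq_of_mul_eq_one_right ha
  have h2 : b⁻¹ = b := inv_eq_of_mul_eq_one_right hb
  calc a * b = (a * b)⁻¹ := (inv_eq_of_mul_eq_one_right hab).symm
    _ = b⁻¹ * a⁻¹ := mul_inv_rev a b
    _ = b * a := by rw [h1, h2]

/-- an odd power argument -/
theorem comm_of_odd {g e : G} (ho : Odd (orderOf g)) (h : g * g * e = e * (g * g)) : g * e = e * g := by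
  obtain ⟨k, hk⟩ := ho
  have h1 : g = (g * g) ^ (k + 1) := by
    rw [← pow_two, ← pow_mul, show 2 * (k + 1) = (2 * k + 1) + 1 by ring, pow_succ, ← hk, pow_orderOf_eq_one,
      one_mul]
  have h2 : Commute (g * g) e := h
  have h3 : Commute ((g * g) ^ (k + 1)) e := h2.pow_left _
  rw [← h1] at h3
  exact h3

/-- `δ` commutes with `g`, `g² w g⁻² = δ w`, `δ² = 1`, `g` of odd order: `δ = 1`. -/
theorem eq_one_of_odd {g w δ : G} (ho : Odd (orderOf g)) (hg : g * δ = δ * g) (hδ : δ * δ = 1)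
    (hw : g * g * w * (g * g)⁻¹ = δ * w) : δ = 1 := by
  have h1 : ∀ n : ℕ, (g * g) ^ n * w * ((g * g) ^ n)⁻¹ = δ ^ n * w := by
    intro n
    induction n with
    | zero => simp
    | succ n ih =>
      have hc : (g * g) ^ n * δ = δ * (g * g) ^ n := by
        have : Commute g δ := hg
        exact (this.mul_left this).pow_left n
      calc (g * g) ^ (n + 1) * w * ((g * g) ^ (n + 1))⁻¹
          = (g * g) ^ n * (g * g * w * (g * g)⁻¹) * ((g * g) ^ n)⁻¹ := by rw [pow_succ]; group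
        _ = ((g * g) ^ n * δ) * w * ((g * g) ^ n)⁻¹ := by rw [hw]; group
        _ = δ * ((g * g) ^ n * w * ((g * g) ^ n)⁻¹) := by rw [hc]; group
        _ = δ ^ (n + 1) * w := by rw [ih, pow_succ']; group
  obtain ⟨k, hk⟩ := ho
  have h2 := h1 (orderOf g)
  have h3 : (g * g) ^ orderOf g = 1 := by rw [← pow_two, ← pow_mul, mul_comm, pow_mul, pow_orderOf_eq_one, one_pow]
  have h4 : δ ^ orderOf g = δ := by rw [hk, pow_succ, pow_mul, pow_two, hδ, one_pow, one_mul]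
  rw [h3, h4, one_mul, inv_one, mul_one] at h2
  have h5 : 1 * w = δ * w := by rw [one_mul]; exact h2
  exact (mul_right_cancel h5).symm

structure GD (E : Subgroup G) (z v g : G) : Prop where
  z1 : z ≠ 1
  zE : z ∈ E
  Eab : ∀ a ∈ E, ∀ b ∈ E, a * b = b * a
  Esq : ∀ a ∈ E, a * a = 1
  cardE : Nat.card E = 8
  vv : v * v = 1
  vE : ∀ e ∈ E, v * e = e * v
  vg : v * g * v⁻¹ = g⁻¹
  odd : Odd (orderOf g)
  gz : g * z = z * g
  av : ∀ e ∈ E, v * (g * e * g⁻¹) * v⁻¹ * (g * e * g⁻¹)⁻¹ ∈ E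
  com : ∀ e ∈ E, ∀ e' ∈ E, e * (g * e' * g⁻¹) = (g * e' * g⁻¹) * e ∨
    e * (g * e' * g⁻¹) = z * ((g * e' * g⁻¹) * e)
  ff : ∀ e ∈ E, (∀ e' ∈ E, e' * (g * e * g⁻¹) = (g * e * g⁻¹) * e') → e = 1 ∨ e = z

namespace GD

variable {E : Subgroup G} {z v g : G} (h : GD E z v g)
include h

theorem zz : z * z = 1 := h.Esq z h.zE

theorem zi : z⁻¹ = z := inv_eq_of_mul_eq_one_right h.zz

theorem vi : v⁻¹ = v := inv_eq_of_mul_eq_one_right h.vv

theorem Einv {a : G} (ha : a ∈ E) : a⁻¹ = a := inv_eq_of_mul_eq_one_right (h.Esq a ha)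

/-- `τ(e)` -/
def tau (_h : GD E z v g) (e : G) : G := v * (g * e * g⁻¹) * v⁻¹ * (g * e * g⁻¹)⁻¹

theorem tau_mem {e : G} (he : e ∈ E) : h.tau e ∈ E := h.av e he

/-- `v (g e g⁻¹) v⁻¹ = g⁻¹ e g` -/
theorem conj_v {e : G} (he : e ∈ E) : v * (g * e * g⁻¹) * v⁻¹ = g⁻¹ * e * g := by
  have h1 : v * e * v⁻¹ = e := by rw [h.vE e he]; group
  have h2 : v * g⁻¹ * v⁻¹ = g := by
    have : v * g⁻¹ * v⁻¹ = (v * g * v⁻¹)⁻¹ := by group
    rw [this, h.vg, inv_inv]
  calc v * (g * e * g⁻¹) * v⁻¹ = (v * g * v⁻¹) * (v * e * v⁻¹) * (v * g⁻¹ * v⁻¹) := by group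
    _ = g⁻¹ * e * g := by rw [h.vg, h1, h2]

theorem conj_inv {e : G} (he : e ∈ E) : g⁻¹ * e * g = h.tau e * (g * e * g⁻¹) := by
  rw [← h.conj_v he, tau]; group

theorem sq_conj {e : G} (he : e ∈ E) : (g * e * g⁻¹) * (g * e * g⁻¹) = 1 := by
  calc (g * e * g⁻¹) * (g * e * g⁻¹) = g * (e * e) * g⁻¹ := by group
    _ = 1 := by rw [h.Esq e he]; group

theorem tau_comm {e : G} (he : e ∈ E) : h.tau e * (g * e * g⁻¹) = (g * e * g⁻¹) * h.tau e := by
  refine comm_of_sq (h.Esq _ (h.tau_mem he)) (h.sq_conj he) ?_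
  rw [← h.conj_inv he]
  calc g⁻¹ * e * g * (g⁻¹ * e * g) = g⁻¹ * (e * e) * g := by group
    _ = 1 := by rw [h.Esq e he]; group

/-- the pairing is symmetric -/
theorem symm {e e' : G} (he : e ∈ E) (he' : e' ∈ E) (hc : e * (g * e' * g⁻¹) = (g * e' * g⁻¹) * e) :
    e' * (g * e * g⁻¹) = (g * e * g⁻¹) * e' := by
  have h1 : (g⁻¹ * e * g) * e' = e' * (g⁻¹ * e * g) := by
    calc (g⁻¹ * e * g) * e' = g⁻¹ * (e * (g * e' * g⁻¹)) * g := by group
      _ = g⁻¹ * ((g * e' * g⁻¹) * e) * g := by rw [hc]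
      _ = e' * (g⁻¹ * e * g) := by group
  rw [h.conj_inv he] at h1
  have h2 : h.tau e * e' = e' * h.tau e := h.Eab _ (h.tau_mem he) _ he'
  have h3 : h.tau e * ((g * e * g⁻¹) * e') = h.tau e * (e' * (g * e * g⁻¹)) := by
    calc h.tau e * ((g * e * g⁻¹) * e') = h.tau e * (g * e * g⁻¹) * e' := by group
      _ = e' * (h.tau e * (g * e * g⁻¹)) := h1
      _ = (e' * h.tau e) * (g * e * g⁻¹) := by group
      _ = h.tau e * (e' * (g * e * g⁻¹)) := by rw [← h2]; group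
  exact (mul_left_cancel h3).symm

/-- `C_E(h)` for `h = g e g⁻¹`. -/
theorem card_cent {e : G} (he : e ∈ E) (h1 : e ≠ 1) (h2 : e ≠ z) :
    Nat.card ↥(E ⊓ Subgroup.centralizer {g * e * g⁻¹}) = 4 := by
  classical
  haveI : Finite E := Nat.finite_of_card_ne_zero (by rw [h.cardE]; norm_num)
  obtain ⟨d, hd, hdc⟩ : ∃ d ∈ E, ¬ d * (g * e * g⁻¹) = (g * e * g⁻¹) * d := by
    by_contra hcon
    push Not at hcon
    rcases h.ff e he hcon with h3 | h3
    · exact h1 h3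
    · exact h2 h3
  set w := g * e * g⁻¹ with hw
  set K := E ⊓ Subgroup.centralizer {w} with hK
  have hmK : ∀ x, x ∈ K ↔ x ∈ E ∧ x * w = w * x := by
    intro x; rw [hK, Subgroup.mem_inf, Subgroup.mem_centralizer_singleton_iff]
  have hzw : w * z = z * w := by
    rw [hw]
    calc g * e * g⁻¹ * z = g * e * (g⁻¹ * z * g) * g⁻¹ := by group
      _ = g * (e * z) * g⁻¹ := by
        have : g⁻¹ * z * g = z := by rw [mul_assoc, ← h.gz]; group
        rw [this]; group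
      _ = (g * z) * e * g⁻¹ := by rw [h.Eab e he z h.zE]; group
      _ = z * (g * e * g⁻¹) := by rw [h.gz]; group
  have hidx : (K.subgroupOf E).index = 2 := by
    rw [Subgroup.index_eq_two_iff]
    refine ⟨⟨d, hd⟩, fun b => ?_⟩
    have hkey : ∀ x ∈ E, ¬ x * w = w * x → x * w = z * (w * x) := fun x hx hn => (h.com x hx e he).resolve_left hn
    have hdw := hkey d hd hdc
    rw [Subgroup.mem_subgroupOf, Subgroup.mem_subgroupOf, hmK, hmK, Subgroup.coe_mul]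
    by_cases hb : (b : G) * w = w * b
    · right
      refine ⟨⟨b.2, hb⟩, fun hc => hdc ?_⟩
      have h3 : (b : G) * d * w = w * (b * d) := hc.2
      have h4 : (b : G) * (d * w) = b * (w * d) := by
        calc (b : G) * (d * w) = (b : G) * d * w := by group
          _ = w * (b * d) := h3
          _ = (w * b) * d := by group
          _ = b * (w * d) := by rw [← hb]; group
      exact mul_left_cancel h4
    · left
      refine ⟨⟨E.mul_mem b.2 hd, ?_⟩, fun hc => hb hc.2⟩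
      have hbw := hkey b b.2 hb
      show (b : G) * d * w = w * (b * d)
      calc (b : G) * d * w = (b : G) * (d * w) := by group
        _ = ((b : G) * z) * (w * d) := by rw [hdw]; group
        _ = z * ((b : G) * w) * d := by rw [h.Eab b b.2 z h.zE]; group
        _ = (z * z) * w * (b * d) := by rw [hbw]; group
        _ = w * (b * d) := by rw [h.zz, one_mul]
  have h3 := Subgroup.card_mul_index (K.subgroupOf E)
  have h4 : Nat.card (K.subgroupOf E) = Nat.card K :=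
    Nat.card_congr (Subgroup.subgroupOfEquivOfLe (inf_le_left : K ≤ E)).toEquiv
  rw [hidx, h.cardE, h4] at h3
  show Nat.card K = 4
  omega

/-- three independent elements of a group of order 4 -/
theorem mem_four {e a b : G} (he : e ∈ E) (h1 : e ≠ 1) (h2 : e ≠ z) (ha : a ∈ E)
    (hac : a * (g * e * g⁻¹) = (g * e * g⁻¹) * a) (ha1 : a ≠ 1) (haz : a ≠ z) (hb : b ∈ E)
    (hbc : b * (g * e * g⁻¹) = (g * e * g⁻¹) * b) : b = 1 ∨ b = z ∨ b = a ∨ b = a * z := by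
  classical
  haveI : Finite E := Nat.finite_of_card_ne_zero (by rw [h.cardE]; norm_num)
  by_contra hcon
  push Not at hcon
  obtain ⟨b1, b2, b3, b4⟩ := hcon
  set w := g * e * g⁻¹ with hw
  set K := E ⊓ Subgroup.centralizer {w} with hK
  have hzw : z * w = w * z := by
    rw [hw]
    have h5 : g⁻¹ * z * g = z := by rw [mul_assoc, ← h.gz]; group
    calc z * (g * e * g⁻¹) = (z * g) * e * g⁻¹ := by group
      _ = g * (z * e) * g⁻¹ := by rw [← h.gz]; group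
      _ = g * (e * z) * g⁻¹ := by rw [h.Eab z h.zE e he]
      _ = g * (e * (g⁻¹ * z * g)) * g⁻¹ := by rw [h5]
      _ = g * e * g⁻¹ * z := by group
  have hsub : ({1, z, a, a * z, b} : Set G) ⊆ (K : Set G) := by
    have hzK : z ∈ K := ⟨h.zE, Subgroup.mem_centralizer_singleton_iff.2 hzw⟩
    have haK : a ∈ K := ⟨ha, Subgroup.mem_centralizer_singleton_iff.2 hac⟩
    have hbK : b ∈ K := ⟨hb, Subgroup.mem_centralizer_singleton_iff.2 hbc⟩
    rintro x (rfl | rfl | rfl | rfl | rfl)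
    · exact K.one_mem
    · exact hzK
    · exact haK
    · exact K.mul_mem haK hzK
    · exact hbK
  have hKf : (K : Set G).Finite := Set.Finite.subset (Set.toFinite (E : Set G)) (inf_le_left : K ≤ E)
  have h5 := Set.ncard_le_ncard hsub hKf
  have h6 : (K : Set G).ncard = 4 := by rw [← Nat.card_coe_set_eq]; exact h.card_cent he h1 h2
  have h7 : a * z ≠ 1 := fun hc => haz (by
    have : a = z⁻¹ := eq_inv_of_mul_eq_one_left hc
    rw [this, h.zi])
  have h8 : a * z ≠ z := fun hc => ha1 (by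
    have : a * z = 1 * z := by rw [one_mul]; exact hc
    exact mul_right_cancel this)
  have h9 : a * z ≠ a := fun hc => h.z1 (by
    have : a * z = a * 1 := by rw [mul_one]; exact hc
    exact mul_left_cancel this)
  have h10 : ({1, z, a, a * z, b} : Set G).ncard = 5 := by
    rw [Set.ncard_insert_of_notMem, Set.ncard_insert_of_notMem, Set.ncard_insert_of_notMem,
      Set.ncard_insert_of_notMem, Set.ncard_singleton]
    · rw [Set.mem_singleton_iff]; exact fun hc => b4 hc.symm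
    · rintro (hc | hc)
      · exact h9 hc.symm
      · rw [Set.mem_singleton_iff] at hc; exact b3 hc.symm
    · rintro (hc | hc | hc)
      · exact haz hc.symm
      · exact h8 hc.symm
      · rw [Set.mem_singleton_iff] at hc; exact b2 hc.symm
    · rintro (hc | hc | hc | hc)
      · exact h.z1 hc.symm
      · exact ha1 hc.symm
      · exact h7 hc.symm
      · rw [Set.mem_singleton_iff] at hc; exact b1 hc.symm
  rw [h10, h6] at h5
  omega

theorem tau_ne {e : G} (he : e ∈ E) (h1 : e ≠ 1) (h2 : e ≠ z) : h.tau e ≠ 1 ∧ h.tau e ≠ z := by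
  have hc := h.conj_inv he
  have hz : g⁻¹ * z * g = z := by rw [mul_assoc, ← h.gz]; group
  constructor
  · intro ht
    rw [ht, one_mul] at hc
    have h3 : g * g * e = e * (g * g) := by
      calc g * g * e = g * (g * e * g⁻¹) * g := by group
        _ = g * (g⁻¹ * e * g) * g := by rw [hc]
        _ = e * (g * g) := by group
    have h4 := comm_of_odd h.odd h3
    have h5 : g * e * g⁻¹ = e := by rw [h4]; group
    rcases h.ff e he (fun e' he' => by rw [h5]; exact h.Eab _ he' _ he) with h6 | h6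
    · exact h1 h6
    · exact h2 h6
  · intro ht
    rw [ht] at hc
    have h3 : g * g * e * (g * g)⁻¹ = z * e := by
      have h4 : g * e * g⁻¹ = z * (g⁻¹ * e * g) := by rw [hc, ← mul_assoc, h.zz, one_mul]
      have h5 : g * z * g⁻¹ = z := by rw [h.gz]; group
      calc g * g * e * (g * g)⁻¹ = g * (g * e * g⁻¹) * g⁻¹ := by group
        _ = (g * z * g⁻¹) * (g * (g⁻¹ * e * g) * g⁻¹) := by rw [h4]; group
        _ = z * e := by rw [h5]; group
    exact h.z1 (eq_one_of_odd h.odd h.gz h.zz h3)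

/-- `g² e g⁻²` -/
theorem conj_sq {e : G} (he : e ∈ E) : g * g * e * (g * g)⁻¹ = (g * h.tau e * g⁻¹) * e := by
  have h1 : e = (g * h.tau e * g⁻¹) * (g * g * e * (g * g)⁻¹) := by
    calc e = g * (g⁻¹ * e * g) * g⁻¹ := by group
      _ = g * (h.tau e * (g * e * g⁻¹)) * g⁻¹ := by rw [h.conj_inv he]
      _ = _ := by group
  have h2 := h.sq_conj (h.tau_mem he)
  calc g * g * e * (g * g)⁻¹ = ((g * h.tau e * g⁻¹) * (g * h.tau e * g⁻¹)) * (g * g * e * (g * g)⁻¹) := by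
        rw [h2, one_mul]
    _ = (g * h.tau e * g⁻¹) * ((g * h.tau e * g⁻¹) * (g * g * e * (g * g)⁻¹)) := by rw [mul_assoc]
    _ = (g * h.tau e * g⁻¹) * e := by rw [← h1]

theorem tau_tau {e : G} (he : e ∈ E) (h1 : e ≠ 1) (h2 : e ≠ z) : h.tau (h.tau e) = e ∨ h.tau (h.tau e) = e * z := by
  obtain ⟨h3, h4⟩ := h.tau_ne he h1 h2
  have ht := h.tau_mem he
  obtain ⟨h5, h6⟩ := h.tau_ne ht h3 h4
  have h7 : e * (g * h.tau e * g⁻¹) = (g * h.tau e * g⁻¹) * e := h.symm ht he (h.tau_comm he)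
  rcases h.mem_four ht h3 h4 (h.tau_mem ht) (h.tau_comm ht) h5 h6 he h7 with h8 | h8 | h8 | h8
  · exact absurd h8 h1
  · exact absurd h8 h2
  · exact Or.inl h8.symm
  · right
    nth_rewrite 2 [h8]
    rw [mul_assoc, h.zz, mul_one]

/-- `g³ e g⁻³` -/
theorem conj_cube {e : G} (he : e ∈ E) (h1 : e ≠ 1) (h2 : e ≠ z) :
    g ^ 3 * e * (g ^ 3)⁻¹ = h.tau e ∨ g ^ 3 * e * (g ^ 3)⁻¹ = h.tau e * z := by
  have ht := h.tau_mem he
  have hgz : g * z * g⁻¹ = z := by rw [h.gz]; group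
  have h3 : g ^ 3 * e * (g ^ 3)⁻¹ = (g * h.tau (h.tau e) * g⁻¹) * h.tau e * (g * e * g⁻¹) := by
    calc g ^ 3 * e * (g ^ 3)⁻¹ = g * (g * g * e * (g * g)⁻¹) * g⁻¹ := by
          rw [show g ^ 3 = g * (g * g) by rw [pow_succ', pow_two]]; group
      _ = g * ((g * h.tau e * g⁻¹) * e) * g⁻¹ := by rw [h.conj_sq he]
      _ = (g * g * h.tau e * (g * g)⁻¹) * (g * e * g⁻¹) := by group
      _ = _ := by rw [h.conj_sq ht]
  have h4 : (g * e * g⁻¹) * h.tau e * (g * e * g⁻¹) = h.tau e := by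
    rw [← h.tau_comm he, mul_assoc, h.sq_conj he, mul_one]
  rcases h.tau_tau he h1 h2 with h5 | h5
  · left
    rw [h3, h5, h4]
  · right
    have h6 : g * (e * z) * g⁻¹ = z * (g * e * g⁻¹) := by
      rw [← h.Eab z h.zE e he]
      calc g * (z * e) * g⁻¹ = (g * z * g⁻¹) * (g * e * g⁻¹) := by group
        _ = _ := by rw [hgz]
    rw [h3, h5, h6]
    calc z * (g * e * g⁻¹) * h.tau e * (g * e * g⁻¹) = z * ((g * e * g⁻¹) * h.tau e * (g * e * g⁻¹)) := by group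
      _ = h.tau e * z := by rw [h4]; exact h.Eab _ h.zE _ ht

/-- **`τ = 1`** -/
theorem tau_eq {e : G} (he : e ∈ E) (h1 : e ≠ 1) (h2 : e ≠ z) : h.tau e = e ∨ h.tau e = e * z := by
  have ht := h.tau_mem he
  obtain ⟨h3, h4⟩ := h.tau_ne he h1 h2
  have hgz : Commute g z := h.gz
  have hz3 : ∀ x, g ^ 3 * (x * z) * (g ^ 3)⁻¹ = g ^ 3 * x * (g ^ 3)⁻¹ * z := by
    intro x
    have h5 : g ^ 3 * z = z * g ^ 3 := hgz.pow_left 3
    calc g ^ 3 * (x * z) * (g ^ 3)⁻¹ = g ^ 3 * x * (z * (g ^ 3)⁻¹) := by group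
      _ = g ^ 3 * x * ((g ^ 3)⁻¹ * (g ^ 3 * z) * (g ^ 3)⁻¹) := by group
      _ = g ^ 3 * x * ((g ^ 3)⁻¹ * (z * g ^ 3) * (g ^ 3)⁻¹) := by rw [h5]
      _ = _ := by group
  have ho3 : Odd (orderOf (g ^ 3)) := h.odd.of_dvd_nat (orderOf_pow_dvd 3)
  -- `u = g³`: `u e u⁻¹ = τ e z^a`, `u (τ e) u⁻¹ = e z^b`
  have hδ : ∃ δ : G, (δ = 1 ∨ δ = z) ∧ g ^ 3 * g ^ 3 * e * (g ^ 3 * g ^ 3)⁻¹ = δ * e := by
    have hze : e * z = z * e := h.Eab _ he _ h.zE
    have h6 : ∀ x, g ^ 3 * g ^ 3 * x * (g ^ 3 * g ^ 3)⁻¹ = g ^ 3 * (g ^ 3 * x * (g ^ 3)⁻¹) * (g ^ 3)⁻¹ := by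
      intro x; group
    have h7 : g ^ 3 * h.tau e * (g ^ 3)⁻¹ = e ∨ g ^ 3 * h.tau e * (g ^ 3)⁻¹ = z * e := by
      rcases h.conj_cube ht h3 h4 with h8 | h8 <;> rcases h.tau_tau he h1 h2 with h9 | h9
      · left; rw [h8, h9]
      · right; rw [h8, h9, hze]
      · right; rw [h8, h9, hze]
      · left; rw [h8, h9, mul_assoc, h.zz, mul_one]
    rcases h.conj_cube he h1 h2 with h8 | h8 <;> rcases h7 with h9 | h9
    · exact ⟨1, Or.inl rfl, by rw [h6, h8, h9, one_mul]⟩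
    · exact ⟨z, Or.inr rfl, by rw [h6, h8, h9]⟩
    · exact ⟨z, Or.inr rfl, by rw [h6, h8, hz3, h9, hze]⟩
    · exact ⟨1, Or.inl rfl, by rw [h6, h8, hz3, h9, one_mul, mul_assoc, hze, ← mul_assoc, h.zz, one_mul]⟩
  obtain ⟨δ, hδ1, hδ2⟩ := hδ
  have hδ0 : δ = 1 := by
    refine eq_one_of_odd ho3 ?_ ?_ hδ2
    · rcases hδ1 with rfl | rfl
      · rw [mul_one, one_mul]
      · exact hgz.pow_left 3
    · rcases hδ1 with rfl | rfl
      · exact one_mul 1
      · exact h.zz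
  rw [hδ0, one_mul] at hδ2
  have h10 : g ^ 3 * e = e * g ^ 3 := comm_of_odd ho3 (mul_inv_eq_iff_eq_mul.1 hδ2)
  have h11 : g ^ 3 * e * (g ^ 3)⁻¹ = e := by rw [h10]; group
  rcases h.conj_cube he h1 h2 with h8 | h8
  · left; rw [← h8, h11]
  · right
    rw [h11] at h8
    nth_rewrite 2 [h8]
    rw [mul_assoc, h.zz, mul_one]

/-- `g⁻¹ e g = (g e g⁻¹) e` modulo `⟨z⟩` -/
theorem third {e : G} (he : e ∈ E) (h1 : e ≠ 1) (h2 : e ≠ z) :
    g⁻¹ * e * g = (g * e * g⁻¹) * e ∨ g⁻¹ * e * g = (g * e * g⁻¹) * e * z := by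
  have hc := h.conj_inv he
  have hcm := h.tau_comm he
  rcases h.tau_eq he h1 h2 with h3 | h3
  · left; rw [hc, hcm, h3]
  · right; rw [hc, hcm, h3]; group

/-- `C_E(g e g⁻¹) = ⟨z, e⟩` -/
theorem perp {e e' : G} (he : e ∈ E) (h1 : e ≠ 1) (h2 : e ≠ z) (he' : e' ∈ E) :
    e' * (g * e * g⁻¹) = (g * e * g⁻¹) * e' ↔ e' = 1 ∨ e' = z ∨ e' = e ∨ e' = e * z := by
  have hcz : z * (g * e * g⁻¹) = (g * e * g⁻¹) * z := by
    have h5 : g⁻¹ * z * g = z := by rw [mul_assoc, ← h.gz]; group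
    calc z * (g * e * g⁻¹) = (z * g) * e * g⁻¹ := by group
      _ = g * (z * e) * g⁻¹ := by rw [← h.gz]; group
      _ = g * (e * z) * g⁻¹ := by rw [h.Eab z h.zE e he]
      _ = g * (e * (g⁻¹ * z * g)) * g⁻¹ := by rw [h5]
      _ = g * e * g⁻¹ * z := by group
  have hce : e * (g * e * g⁻¹) = (g * e * g⁻¹) * e := by
    have h4 := h.tau_comm he
    rcases h.tau_eq he h1 h2 with h3 | h3
    · rwa [h3] at h4
    · rw [h3] at h4
      have h5 : e * (g * e * g⁻¹) * z = (g * e * g⁻¹) * e * z := by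
        rw [mul_assoc, ← hcz, ← mul_assoc, h4, ← mul_assoc]
      exact mul_right_cancel h5
  constructor
  · intro hc
    exact h.mem_four he h1 h2 he hce h1 h2 he' hc
  · rintro (rfl | rfl | rfl | rfl)
    · rw [one_mul, mul_one]
    · exact hcz
    · exact hce
    · rw [mul_assoc, hcz, ← mul_assoc, hce, mul_assoc]

end GD

end Cfsg.Agent.Omega.NOne.AG.GData

end

-- merged: Cfsg.Agent.Mrg.Omega.NOne.AG.GOf
section

section


/-!
# D0ag: `Conf` gives the element `g` (`GD`); helper950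
-/

set_option autoImplicit false

namespace Cfsg.Agent.Omega.NOne.AG.Conf

open Subgroup Cfsg Cfsg.Agent.ZN Cfsg.Agent.Omega.NOne.AG.GData

universe u

variable {G : Type u} [Group G] {ι : Type*}
variable {P V T : Subgroup G} {z : ι → G} {opp : ι → ι → Prop} {C Q QF Qs : ι → Subgroup G}
variable (h : Conf P V T z opp C Q QF Qs)
include h

/-- `|V ∩ Q i| = 8` if `V ≰ Q i` -/
theorem card_VQ8 [Finite G] (i : ι) {v : G} (hv : v ∈ V) (hvQ : v ∉ Q i) : Nat.card ↥(V ⊓ Q i) = 8 := by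
  have hidx : ((V ⊓ Q i).subgroupOf V).index = 2 := by
    rw [Subgroup.index_eq_two_iff]
    refine ⟨⟨v, hv⟩, fun b => ?_⟩
    rw [Subgroup.mem_subgroupOf, Subgroup.mem_subgroupOf, mem_inf, mem_inf, Subgroup.coe_mul]
    by_cases hb : (b : G) ∈ Q i
    · right
      refine ⟨⟨b.2, hb⟩, fun hc => hvQ ?_⟩
      have h1 := mul_mem (inv_mem hb) hc.2
      rwa [inv_mul_cancel_left] at h1
    · left
      exact ⟨⟨mul_mem b.2 hv, h.VQ2 i b b.2 v hv hb hvQ⟩, fun hc => hb hc.2⟩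
  have h3 := Subgroup.card_mul_index ((V ⊓ Q i).subgroupOf V)
  have h4 : Nat.card ((V ⊓ Q i).subgroupOf V) = Nat.card ↥(V ⊓ Q i) :=
    Nat.card_congr (Subgroup.subgroupOfEquivOfLe inf_le_left).toEquiv
  rw [hidx, h.cardV, h4] at h3
  omega

/-- **the element `g`** -/
theorem exists_g [Finite G] (i : ι) {v : G} (hv : v ∈ V) (hvQ : v ∉ Q i) :
    ∃ g ∈ C i, GD (V ⊓ Q i) (z i) v g := by
  have hvC := h.VC i hv
  have hvv := h.Vsq v hv
  -- Baer–Suzuki
  obtain ⟨g, hgC, hg1, hgo, hgv⟩ : ∃ g ∈ C i, g ≠ 1 ∧ Odd (orderOf g) ∧ v * g * v⁻¹ = g⁻¹ := by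
    have h1 : ¬ IsPGroup 2 (Subgroup.normalClosure {(⟨v, hvC⟩ : C i)} : Subgroup (C i)) := by
      intro hp
      apply hvQ
      rw [h.Qo2 i]
      have h2 : (Subgroup.normalClosure {(⟨v, hvC⟩ : C i)}).map (C i).subtype ≤ o2 (C i) := by
        refine Cfsg.Agent.MinSimple.VModule.le_o2 ?_ (hp.map _) ?_
        · rintro _ ⟨x, -, rfl⟩; exact x.2
        · refine le_norm_of ?_
          rintro c hc _ ⟨x, hx, rfl⟩
          exact ⟨⟨c, hc⟩ * x * ⟨c, hc⟩⁻¹, Subgroup.Normal.conj_mem inferInstance x hx _, rfl⟩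
      exact h2 ⟨⟨v, hvC⟩, Subgroup.subset_normalClosure rfl, rfl⟩
    obtain ⟨g, hg1, hgo, hgv⟩ := Involutions.BaerSuzuki.exists_odd_inverted (⟨v, hvC⟩ : C i) (Subtype.ext hvv) h1
    refine ⟨g, g.2, fun hc => hg1 (Subtype.ext hc), ?_, congrArg Subtype.val hgv⟩
    rwa [Subgroup.orderOf_coe]
  set E : Subgroup G := V ⊓ Q i with hE
  have hmE : ∀ x, x ∈ E ↔ x ∈ V ∧ x ∈ Q i := fun x => mem_inf
  have hzE : z i ∈ E := (hmE _).2 ⟨h.zV i, h.z_mem_Q i⟩
  have hgz : g * z i = z i * g := h.Cz i g hgC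
  have hvi : v⁻¹ = v := inv_eq_of_mul_eq_one_right hvv
  have hEab : ∀ a ∈ E, ∀ b ∈ E, a * b = b * a := fun a ha b hb => h.Vab a ((hmE a).1 ha).1 b ((hmE b).1 hb).1
  have hEsq : ∀ a ∈ E, a * a = 1 := fun a ha => h.Vsq a ((hmE a).1 ha).1
  have hvE : ∀ e ∈ E, v * e = e * v := fun e he => h.Vab v hv e ((hmE e).1 he).1
  have hw : ∀ e ∈ E, g * e * g⁻¹ ∈ Qs i := fun e he =>
    norm_conj (h.nQs i) hgC (h.VQs i e ((hmE e).1 he).1 ((hmE e).1 he).2)
  have hQv : ∀ x ∈ Q i, v * x * v⁻¹ * x⁻¹ ∈ E := by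
    intro x hx
    refine (hmE _).2 ⟨?_, ?_⟩
    · have h1 : x * v⁻¹ * x⁻¹ ∈ V := h.conj_V (h.QP i hx) (V.inv_mem hv)
      have h2 := mul_mem hv h1
      rwa [show v * (x * v⁻¹ * x⁻¹) = v * x * v⁻¹ * x⁻¹ by group] at h2
    · have h1 := inv_mem (h.VQc i x hx v hv)
      rwa [show (x * v * x⁻¹ * v⁻¹)⁻¹ = v * x * v⁻¹ * x⁻¹ by group] at h1
  have hconjv : ∀ e ∈ E, v * (g * e * g⁻¹) * v⁻¹ = g⁻¹ * e * g := by
    intro e he
    have h1 : v * e * v⁻¹ = e := by rw [hvE e he]; group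
    have h2 : v * g⁻¹ * v⁻¹ = g := by
      have : v * g⁻¹ * v⁻¹ = (v * g * v⁻¹)⁻¹ := by group
      rw [this, hgv, inv_inv]
    calc v * (g * e * g⁻¹) * v⁻¹ = (v * g * v⁻¹) * (v * e * v⁻¹) * (v * g⁻¹ * v⁻¹) := by group
      _ = g⁻¹ * e * g := by rw [hgv, h1, h2]
  -- `v` commuting with `g e g⁻¹` gives `g e = e g`
  have hcg : ∀ e ∈ E, v * (g * e * g⁻¹) = (g * e * g⁻¹) * v → g * e = e * g := by
    intro e he hc
    have h1 : g⁻¹ * e * g = g * e * g⁻¹ := by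
      rw [← hconjv e he, hc]; group
    refine comm_of_odd hgo ?_
    calc g * g * e = g * (g * e * g⁻¹) * g := by group
      _ = g * (g⁻¹ * e * g) * g := by rw [h1]
      _ = e * (g * g) := by group
  have hcE : ∀ e ∈ E, (∀ e' ∈ E, e' * (g * e * g⁻¹) = (g * e * g⁻¹) * e') → g * e = e * g := by
    intro e he hc
    have h1 : g * e * g⁻¹ ∈ T := h.T_of_comm (hw e he) fun x hx hxQ => (hc x ((hmE x).2 ⟨hx, hxQ⟩)).symm
    exact hcg e he (h.TV _ h1 v hv).symm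
  -- `g⁻² = v (g v g⁻¹)`
  have hg2 : g⁻¹ * g⁻¹ = v * (g * v * g⁻¹) := by
    calc g⁻¹ * g⁻¹ = (v * g * v⁻¹) * g⁻¹ := by rw [hgv]
      _ = v * (g * v * g⁻¹) := by rw [hvi]; group
  have hgo' : Odd (orderOf g⁻¹) := by rw [orderOf_inv]; exact hgo
  have hgi : ∀ {x : G}, g * x = x * g → g⁻¹ * x = x * g⁻¹ := fun {x} hx => by
    rw [inv_mul_eq_iff_eq_mul, ← mul_assoc, hx, mul_inv_cancel_right]
  -- `C_E(g) = ⟨z⟩`
  have hCE : ∀ e ∈ E, g * e = e * g → e = 1 ∨ e = z i := by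
    intro e₀ he₀ hge₀
    by_contra hcon
    push Not at hcon
    obtain ⟨hn1, hn2⟩ := hcon
    -- `g` centralises `E`
    have hall : ∀ e ∈ E, g * e = e * g := by
      intro e he
      by_contra hne
      set w := g * e * g⁻¹ with hwd
      have hww : w * w = 1 := by
        calc w * w = g * (e * e) * g⁻¹ := by rw [hwd]; group
          _ = 1 := by rw [hEsq e he]; group
      obtain ⟨d, hd, hdw⟩ : ∃ d ∈ E, ¬ d * w = w * d := by
        by_contra hc
        push Not at hc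
        exact hne (hcE e he hc)
      have hcw : ∀ x, x ∈ E → g * x = x * g → x * w = w * x := by
        intro x hx hgx
        have h1 : g⁻¹ * x = x * g⁻¹ := hgi hgx
        calc x * w = (x * g) * e * g⁻¹ := by rw [hwd]; group
          _ = g * (x * e) * g⁻¹ := by rw [← hgx]; group
          _ = g * e * (x * g⁻¹) := by rw [hEab x hx e he]; group
          _ = w * x := by rw [← h1, hwd]; group
      have hzw := hcw _ hzE hgz
      have he₀w := hcw _ he₀ hge₀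
      set δ := v * w * v⁻¹ * w⁻¹ with hδd
      have hδE : δ ∈ E := hQv w (h.QsQ i (hw e he))
      have hvw : v * w * v⁻¹ = δ * w := by rw [hδd]; group
      have hδw : δ * w = w * δ := by
        refine comm_of_sq (hEsq δ hδE) hww ?_
        rw [← hvw]
        calc v * w * v⁻¹ * (v * w * v⁻¹) = v * (w * w) * v⁻¹ := by group
          _ = 1 := by rw [hww]; group
      -- `C_E(w)` has order 4
      have hδ4 : δ = 1 ∨ δ = z i ∨ δ = e₀ ∨ δ = e₀ * z i := by
        by_contra hc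
        push Not at hc
        obtain ⟨c1, c2, c3, c4⟩ := hc
        have hsub : ({1, z i, e₀, e₀ * z i, δ} : Set G) ⊆ ((E ⊓ centralizer {w} : Subgroup G) : Set G) := by
          have m1 : z i ∈ E ⊓ centralizer {w} := ⟨hzE, mem_centralizer_singleton_iff.2 hzw⟩
          have m2 : e₀ ∈ E ⊓ centralizer {w} := ⟨he₀, mem_centralizer_singleton_iff.2 he₀w⟩
          have m3 : δ ∈ E ⊓ centralizer {w} := ⟨hδE, mem_centralizer_singleton_iff.2 hδw⟩
          rintro x (rfl | rfl | rfl | rfl | rfl)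
          · exact one_mem _
          · exact m1
          · exact m2
          · exact mul_mem m2 m1
          · exact m3
        have h7 : e₀ * z i ≠ 1 := fun hc => hn2 (by
          have : e₀ = (z i)⁻¹ := eq_inv_of_mul_eq_one_left hc
          rw [this, h.zinv])
        have h8 : e₀ * z i ≠ z i := fun hc => hn1 (by
          have : e₀ * z i = 1 * z i := by rw [one_mul]; exact hc
          exact mul_right_cancel this)
        have h9 : e₀ * z i ≠ e₀ := fun hc => h.ne_one i (by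
          have : e₀ * z i = e₀ * 1 := by rw [mul_one]; exact hc
          exact mul_left_cancel this)
        have h10 : ({1, z i, e₀, e₀ * z i, δ} : Set G).ncard = 5 := by
          rw [Set.ncard_insert_of_notMem, Set.ncard_insert_of_notMem, Set.ncard_insert_of_notMem,
            Set.ncard_insert_of_notMem, Set.ncard_singleton]
          · rw [Set.mem_singleton_iff]; exact fun hc => c4 hc.symm
          · rintro (hc | hc)
            · exact h9 hc.symm
            · rw [Set.mem_singleton_iff] at hc; exact c3 hc.symm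
          · rintro (hc | hc | hc)
            · exact hn2 hc.symm
            · exact h8 hc.symm
            · rw [Set.mem_singleton_iff] at hc; exact c2 hc.symm
          · rintro (hc | hc | hc | hc)
            · exact h.ne_one i hc.symm
            · exact hn1 hc.symm
            · exact h7 hc.symm
            · rw [Set.mem_singleton_iff] at hc; exact c1 hc.symm
        have h11 := Set.ncard_le_ncard hsub (Set.toFinite _)
        rw [h10, ← Nat.card_coe_set_eq] at h11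
        have h12 : Nat.card ↥(E ⊓ centralizer {w}) ∣ Nat.card E := Subgroup.card_dvd_of_le inf_le_left
        rw [h.card_VQ8 i hv hvQ] at h12
        have h13 : Nat.card ↥(E ⊓ centralizer {w}) = 8 := by
          have h14 : Nat.card ↥(E ⊓ centralizer {w}) ≤ 8 := Nat.le_of_dvd (by norm_num) h12
          have h15 : 5 ≤ Nat.card ↥(E ⊓ centralizer {w}) := h11
          interval_cases hn : Nat.card ↥(E ⊓ centralizer {w}) <;> first | rfl | (exfalso; revert h12; decide)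
        have h14 : E ⊓ centralizer {w} = E :=
          Subgroup.eq_of_le_of_card_ge inf_le_left (by rw [h13, h.card_VQ8 i hv hvQ])
        apply hdw
        rw [← h14] at hd
        exact mem_centralizer_singleton_iff.1 (mem_inf.1 hd).2
      have hgδ : g * δ = δ * g := by
        rcases hδ4 with h1 | h1 | h1 | h1
        · rw [h1, mul_one, one_mul]
        · rw [h1]; exact hgz
        · rw [h1]; exact hge₀
        · rw [h1, ← mul_assoc, hge₀, mul_assoc, hgz, mul_assoc]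
      have hδ1 : δ = 1 := by
        refine eq_one_of_odd (g := g⁻¹) (w := w) hgo' (hgi hgδ) (hEsq δ hδE) ?_
        have h1 : (g * v * g⁻¹) * w * (g * v * g⁻¹)⁻¹ = w := by
          calc (g * v * g⁻¹) * w * (g * v * g⁻¹)⁻¹ = g * (v * e) * v⁻¹ * g⁻¹ := by rw [hwd]; group
            _ = w := by rw [hvE e he, hwd]; group
        calc g⁻¹ * g⁻¹ * w * (g⁻¹ * g⁻¹)⁻¹ = v * ((g * v * g⁻¹) * w * (g * v * g⁻¹)⁻¹) * v⁻¹ := by rw [hg2]; group
          _ = δ * w := by rw [h1, hvw]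
      rw [hδ1, one_mul] at hvw
      have hvw' : v * w = w * v := mul_inv_eq_iff_eq_mul.1 hvw
      exact hne (hcg e he hvw')
    -- so `g` centralises `Q i`
    have hgQ : g ∈ Q i := by
      refine h.char2 i g hgC fun x hx => ?_
      have hn := fun {y : G} (hy : y ∈ Q i) => norm_conj (h.nQ i) (inv_mem hgC) hy
      have h1 : g⁻¹ * x * g ∈ Q i := by
        have := hn hx
        rwa [inv_inv] at this
      set ε := v * (g⁻¹ * x * g) * v⁻¹ * (g⁻¹ * x * g)⁻¹ with hεd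
      have hε : ε ∈ E := hQv _ h1
      set ε' := v * x * v⁻¹ * x⁻¹ with hεd'
      have hε' : ε' ∈ E := hQv _ hx
      have h2 : (g * v * g⁻¹) * x * (g * v * g⁻¹)⁻¹ = ε * x := by
        calc (g * v * g⁻¹) * x * (g * v * g⁻¹)⁻¹ = g * (v * (g⁻¹ * x * g) * v⁻¹) * g⁻¹ := by group
          _ = g * (ε * (g⁻¹ * x * g)) * g⁻¹ := by rw [hεd]; group
          _ = (g * ε) * g⁻¹ * x := by group
          _ = ε * x := by rw [hall ε hε]; group
      have h3 : g⁻¹ * g⁻¹ * x * (g⁻¹ * g⁻¹)⁻¹ = (ε * ε') * x := by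
        calc g⁻¹ * g⁻¹ * x * (g⁻¹ * g⁻¹)⁻¹ = v * ((g * v * g⁻¹) * x * (g * v * g⁻¹)⁻¹) * v⁻¹ := by rw [hg2]; group
          _ = (v * ε) * x * v⁻¹ := by rw [h2]; group
          _ = ε * (v * x * v⁻¹) := by rw [hvE ε hε]; group
          _ = (ε * ε') * x := by rw [hεd']; group
      have hm := mul_mem hε hε'
      have h4 : ε * ε' = 1 :=
        eq_one_of_odd (g := g⁻¹) (w := x) hgo' (hgi (hall _ hm)) (hEsq _ hm) h3
      rw [h4, one_mul] at h3
      have h5 : g⁻¹ * g⁻¹ * x = x * (g⁻¹ * g⁻¹) := mul_inv_eq_iff_eq_mul.1 h3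
      have h6 := comm_of_odd hgo' h5
      rw [inv_mul_eq_iff_eq_mul] at h6
      calc g * x = (g * (x * g⁻¹)) * g := by group
        _ = x * g := by rw [← h6]
    -- odd order and 2-power order
    have hp : IsPGroup 2 (Q i) := by rw [h.Qo2 i]; exact Cfsg.Agent.MinSimple.VModule.o2_isPGroup _
    obtain ⟨k, hk⟩ := hp ⟨g, hgQ⟩
    have hk' : g ^ 2 ^ k = 1 := congrArg Subtype.val hk
    have h7 : orderOf g ∣ 2 ^ k := orderOf_dvd_of_pow_eq_one hk'
    obtain ⟨m, -, hm⟩ := (Nat.dvd_prime_pow Nat.prime_two).1 h7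
    rcases m with _ | m
    · rw [pow_zero] at hm
      exact hg1 (orderOf_eq_one_iff.1 hm)
    · rw [hm] at hgo
      rw [Nat.odd_iff, pow_succ] at hgo
      omega
  refine ⟨g, hgC, ?_⟩
  exact {
    z1 := h.ne_one i
    zE := hzE
    Eab := hEab
    Esq := hEsq
    cardE := h.card_VQ8 i hv hvQ
    vv := hvv
    vE := hvE
    vg := hgv
    odd := hgo
    gz := hgz
    av := fun e he => hQv _ (h.QsQ i (hw e he))
    com := fun e he e' he' =>
      h.com i e (h.VQs i e ((hmE e).1 he).1 ((hmE e).1 he).2) _ (h.QsQF i (hw e' he'))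
    ff := fun e he hc => hCE e he (hcE e he hc) }

end Cfsg.Agent.Omega.NOne.AG.Conf

end

section


/-!
# THEOREM D0ag (bb #15001): relabelling

`Lab.relabel π`; `Lab.exists_base i` : a labelling with `i = pt 0 1 2 3`.
-/

set_option autoImplicit false

namespace Cfsg.Agent.Omega.NOne.AG

open Subgroup Cfsg Cfsg.Agent.ZN

universe u

variable {G : Type u} [Group G] {ι : Type*}

theorem D4.map {a b c d : Fin 5} (h : D4 a b c d) (π : Equiv.Perm (Fin 5)) :
    D4 (π a) (π b) (π c) (π d) := by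
  obtain ⟨h1, h2, h3, h4, h5, h6⟩ := h
  refine ⟨?_, ?_, ?_, ?_, ?_, ?_⟩ <;> exact fun e => by simp_all

theorem D5.map {a b c d m : Fin 5} (h : D5 a b c d m) (π : Equiv.Perm (Fin 5)) :
    D5 (π a) (π b) (π c) (π d) (π m) := by
  obtain ⟨h0, h1, h2, h3, h4⟩ := h
  refine ⟨h0.map π, ?_, ?_, ?_, ?_⟩ <;> exact fun e => by simp_all

theorem swap_map (π : Equiv.Perm (Fin 5)) (a b x : Fin 5) :
    Equiv.swap (π a) (π b) (π x) = π (Equiv.swap a b x) := by
  have := congrArg (fun f : Equiv.Perm (Fin 5) => f (π x)) (Equiv.swap_apply_apply π a b)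
  simpa using this

theorem Ov.relabel {P : Subgroup G} {y : Fin 5 → Fin 5 → G} {σ σ' : Equiv.Perm (Fin 5)} {m : G}
    (h : Ov P y σ m) (π : Equiv.Perm (Fin 5)) (hs : ∀ x, σ (π x) = π (σ' x)) :
    Ov P (fun a b => y (π a) (π b)) σ' m :=
  ⟨h.1, fun a b hab => by
    show m * y (π a) (π b) * m⁻¹ = y (π (σ' a)) (π (σ' b))
    rw [← hs, ← hs]
    exact h.2 _ _ fun e => hab (π.injective e)⟩

namespace Lab

variable {P V T : Subgroup G} {z : ι → G} {opp : ι → ι → Prop} {C Q QF Qs : ι → Subgroup G}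
variable {h : Conf P V T z opp C Q QF Qs} {y : Fin 5 → Fin 5 → G}
  {pt : Fin 5 → Fin 5 → Fin 5 → Fin 5 → ι}

theorem relabel (L : Lab h y pt) (π : Equiv.Perm (Fin 5)) :
    Lab h (fun a b => y (π a) (π b)) (fun a b c d => pt (π a) (π b) (π c) (π d)) where
  symm := fun a b => L.symm _ _
  ne_one := fun a b hab => L.ne_one _ _ fun e => hab (π.injective e)
  sq := fun a b hab => L.sq _ _ fun e => hab (π.injective e)
  comm := fun a b c d hab hcd => L.comm _ _ _ _ (fun e => hab (π.injective e))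
    (fun e => hcd (π.injective e))
  inj := fun a b c d hab hcd e => by
    rcases L.inj _ _ _ _ (fun e => hab (π.injective e)) (fun e => hcd (π.injective e)) e with
      ⟨h1, h2⟩ | ⟨h1, h2⟩
    · exact Or.inl ⟨π.injective h1, π.injective h2⟩
    · exact Or.inr ⟨π.injective h1, π.injective h2⟩
  z_eq := fun a b c d hD => L.z_eq _ _ _ _ (hD.map π)
  surj := fun i => by
    obtain ⟨a, b, c, d, hD, rfl⟩ := L.surj i
    refine ⟨π.symm a, π.symm b, π.symm c, π.symm d, hD.map π.symm, ?_⟩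
    simp only [Equiv.apply_symm_apply]
  rel := fun a b c d m hD => L.rel _ _ _ _ _ (hD.map π)
  notV := fun a b hab => L.notV _ _ fun e => hab (π.injective e)
  mem_iff := fun a b hab x => L.mem_iff _ _ (fun e => hab (π.injective e)) x
  B_iff := fun a b c d hD x hx => L.B_iff _ _ _ _ (hD.map π) x hx
  yQ := fun a b c d m hD => L.yQ _ _ _ _ _ (hD.map π)
  yQ' := fun a b c d m hD => L.yQ' _ _ _ _ _ (hD.map π)
  act := fun m hm => by
    obtain ⟨σ, hσ⟩ := L.act m hm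
    exact ⟨π.symm * σ * π |> fun s => s, hσ.relabel π fun x => by simp⟩
  full := fun σ => by
    obtain ⟨m, hm⟩ := L.full (π * σ * π.symm)
    exact ⟨m, hm.relabel π fun x => by simp⟩
  Qs_ov := fun a b c d hD x hx => by
    rcases L.Qs_ov _ _ _ _ (hD.map π) x hx with h1 | h1 | h1 | h1
    · exact Or.inl (h1.relabel π fun x => rfl)
    · exact Or.inr (Or.inl (h1.relabel π fun x => swap_map π a b x))
    · exact Or.inr (Or.inr (Or.inl (h1.relabel π fun x => swap_map π c d x)))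
    · refine Or.inr (Or.inr (Or.inr (h1.relabel π fun x => ?_)))
      rw [Equiv.Perm.mul_apply, Equiv.Perm.mul_apply, swap_map, swap_map]
  Qs_ex := fun a b c d hD => by
    obtain ⟨x, hx, h1⟩ := L.Qs_ex _ _ _ _ (hD.map π)
    exact ⟨x, hx, h1.relabel π fun x => swap_map π a b x⟩
  opp_iff := fun a b c d m hD i => L.opp_iff _ _ _ _ _ (hD.map π) i
  pt1 := fun a b c d hD => L.pt1 _ _ _ _ (hD.map π)
  pt2 := fun a b c d hD => L.pt2 _ _ _ _ (hD.map π)

theorem exists_perm : ∀ a b c d : Fin 5, D4 a b c d →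
    ∃ π : Equiv.Perm (Fin 5), π 0 = a ∧ π 1 = b ∧ π 2 = c ∧ π 3 = d := by
  intro a b c d hD
  obtain ⟨m, hm⟩ : ∃ m, D5 a b c d m := by revert a b c d; decide
  have hinj : Function.Injective (![a, b, c, d, m] : Fin 5 → Fin 5) := by
    revert a b c d m
    decide
  refine ⟨Equiv.ofBijective _ (Finite.injective_iff_bijective.1 hinj), ?_, ?_, ?_, ?_⟩ <;> rfl

/-- a labelling with `i = pt 0 1 2 3` -/
theorem exists_base (L : Lab h y pt) (i : ι) : ∃ π : Equiv.Perm (Fin 5),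
    Lab h (fun a b => y (π a) (π b)) (fun a b c d => pt (π a) (π b) (π c) (π d)) ∧
    i = pt (π 0) (π 1) (π 2) (π 3) := by
  obtain ⟨a, b, c, d, hD, rfl⟩ := L.surj i
  obtain ⟨π, rfl, rfl, rfl, rfl⟩ := exists_perm a b c d hD
  exact ⟨π, L.relabel π, rfl⟩

end Lab

end Cfsg.Agent.Omega.NOne.AG

end

section


/-!
# THEOREM D0ag (bb #15001), (6): the group theory in `C`

`SixD`: `Q = O₂(C)`, `[Q, Q] ≤ ⟨z⟩`, `E ≤ Q` elementary, `B ≤ Z(Q)`, `v` centralises `E` and `B`,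
`C_Q(v mod z) ≤ E B`, `[Q, v] ≤ E`, `v` inverts `g`, `C_E(g e g⁻¹) = ⟨z, e⟩`, `g⁻¹ e g ≡ (g e g⁻¹) e` and
`C = ⟨M, g⟩`, where the elements of `M` normalise `E`, `V` and `⟨z, a⟩`, `a ∈ E - ⟨z⟩`.

Then `U = ⟨B, a, g a g⁻¹⟩` is normal in `C`, and for `s ∈ M` one of `s`, `v s` is in `Q`.
-/

set_option autoImplicit false

namespace Cfsg.Agent.Omega.NOne.AG

open Subgroup Cfsg Cfsg.Agent.ZN

universe u

variable {G : Type u} [Group G]

/-- `x ≡ y` modulo `⟨z⟩` -/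
def Eqz (z x y : G) : Prop := x = y ∨ x = z * y

namespace Eqz

variable {z x y t : G}

theorem rfl' : Eqz z x x := Or.inl rfl

theorem symm (hz : z * z = 1) (h : Eqz z x y) : Eqz z y x := by
  rcases h with h | h
  · exact Or.inl h.symm
  · right
    rw [h, ← mul_assoc, hz, one_mul]

theorem trans (hz : z * z = 1) (h : Eqz z x y) (h' : Eqz z y t) : Eqz z x t := by
  rcases h with h | h <;> rcases h' with h' | h'
  · exact Or.inl (h.trans h')
  · exact Or.inr (h.trans h')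
  · right; rw [h, h']
  · left; rw [h, h', ← mul_assoc, hz, one_mul]

theorem mul_right (a : G) (h : Eqz z x y) : Eqz z (x * a) (y * a) := by
  rcases h with h | h
  · left; rw [h]
  · right; rw [h, mul_assoc]

theorem mul_left {a : G} (ha : a * z = z * a) (h : Eqz z x y) : Eqz z (a * x) (a * y) := by
  rcases h with h | h
  · left; rw [h]
  · right; rw [h, ← mul_assoc, ha, mul_assoc]

theorem conj {a : G} (ha : a * z = z * a) (h : Eqz z x y) : Eqz z (a * x * a⁻¹) (a * y * a⁻¹) :=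
  (h.mul_left ha).mul_right _

theorem of_eq_left (h : Eqz z x y) (e : x = t) : Eqz z t y := e ▸ h

theorem of_eq_right (h : Eqz z x y) (e : y = t) : Eqz z x t := e ▸ h

end Eqz

/-- The data of (6). -/
structure SixD (C Q E B : Subgroup G) (M : Set G) (z v a g : G) : Prop where
  Qo2 : Q = o2 C
  char2 : ∀ c ∈ C, (∀ x ∈ Q, c * x = x * c) → c ∈ Q
  Cz : ∀ c ∈ C, c * z = z * c
  z2 : z * z = 1
  zB : z ∈ B
  BQ : B ≤ Q
  BZ : ∀ b ∈ B, ∀ x ∈ Q, b * x = x * b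
  Bv : ∀ b ∈ B, b * v = v * b
  B2 : ∀ b ∈ B, b * b = 1
  CB : ∀ c ∈ C, ∀ b ∈ B, Eqz z (c * b * c⁻¹) b
  QQ : ∀ x ∈ Q, ∀ y ∈ Q, Eqz z (x * y) (y * x)
  EQ : E ≤ Q
  E2 : ∀ e ∈ E, e * e = 1
  EE : ∀ e ∈ E, ∀ f ∈ E, e * f = f * e
  Ev : ∀ e ∈ E, e * v = v * e
  vC : v ∈ C
  gC : g ∈ C
  vg : v * g * v⁻¹ = g⁻¹
  /-- `C_E(g e g⁻¹) = ⟨z, e⟩` -/
  gd1 : ∀ e ∈ E, ∀ f ∈ E, f * (g * e * g⁻¹) = g * e * g⁻¹ * f → Eqz z e 1 ∨ Eqz z f 1 ∨ Eqz z f e
  gd2 : ∀ e ∈ E, Eqz z (g⁻¹ * e * g) (g * e * g⁻¹ * e)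
  QvE : ∀ x ∈ Q, x * v * x⁻¹ * v⁻¹ ∈ E
  TQ : ∀ x ∈ Q, Eqz z (x * v) (v * x) → ∃ e ∈ E, ∃ b ∈ B, x = e * b
  MC : ∀ m ∈ M, m ∈ C
  Mv : ∀ m ∈ M, m * v * m⁻¹ * v⁻¹ ∈ E
  ME : ∀ m ∈ M, ∀ e ∈ E, m * e * m⁻¹ ∈ E
  Ma : ∀ m ∈ M, Eqz z (m * a * m⁻¹) a
  aE : a ∈ E
  a1 : ¬ Eqz z a 1
  gen : C ≤ closure (M ∪ {g})

namespace SixD

variable {C Q E B : Subgroup G} {M : Set G} {z v a g : G} (h : SixD C Q E B M z v a g)
include h

theorem QC : Q ≤ C := by rw [h.Qo2]; exact o2_le _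

theorem nQ : C ≤ normalizer (Q : Set G) := by rw [h.Qo2]; exact le_normalizer_o2 _

theorem Qz {x : G} (hx : x ∈ Q) : x * z = z * x := h.Cz x (h.QC hx)

theorem vz : v * z = z * v := h.Cz v h.vC

theorem aQ : a ∈ Q := h.EQ h.aE

theorem wQ : g * a * g⁻¹ ∈ Q := norm_conj h.nQ h.gC h.aQ

theorem w2 : (g * a * g⁻¹) * (g * a * g⁻¹) = 1 := by
  have e : (g * a * g⁻¹) * (g * a * g⁻¹) = g * (a * a) * g⁻¹ := by group
  rw [e, h.E2 a h.aE]; group

/-- `v (g e g⁻¹) v⁻¹ = g⁻¹ e g` -/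
theorem vw {e : G} (he : e ∈ E) : v * (g * e * g⁻¹) * v⁻¹ = g⁻¹ * e * g := by
  have h1 : v * e * v⁻¹ = e := by rw [← h.Ev e he]; group
  have h2 : v * g⁻¹ * v⁻¹ = g := by
    calc v * g⁻¹ * v⁻¹ = (v * g * v⁻¹)⁻¹ := by group
      _ = g := by rw [h.vg, inv_inv]
  calc v * (g * e * g⁻¹) * v⁻¹ = (v * g * v⁻¹) * (v * e * v⁻¹) * (v * g⁻¹ * v⁻¹) := by group
    _ = g⁻¹ * e * g := by rw [h.vg, h1, h2]

/-- `v w v⁻¹ ≡ w e`, `w = g e g⁻¹` -/
theorem vwe {e : G} (he : e ∈ E) : Eqz z (v * (g * e * g⁻¹) * v⁻¹) (g * e * g⁻¹ * e) := by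
  rw [h.vw he]; exact h.gd2 e he

/-- `e` commutes with `g e g⁻¹` -/
theorem ew {e : G} (he : e ∈ E) : e * (g * e * g⁻¹) = g * e * g⁻¹ * e := by
  have h0 : g⁻¹ * e * g * (g⁻¹ * e * g) = 1 := by
    calc g⁻¹ * e * g * (g⁻¹ * e * g) = g⁻¹ * (e * e) * g := by group
      _ = 1 := by rw [h.E2 e he]; group
  set w := g * e * g⁻¹ with hw
  have hwQ : w ∈ Q := norm_conj h.nQ h.gC (h.EQ he)
  have hw2 : w * w = 1 := by
    calc w * w = g * (e * e) * g⁻¹ := by rw [hw]; group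
      _ = 1 := by rw [h.E2 e he]; group
  have h1 : w * e * (w * e) = 1 := by
    rcases h.gd2 e he with h2 | h2
    · rw [← h2]; exact h0
    · rw [h2] at h0
      have h3 : z * (w * e) * (z * (w * e)) = w * e * (w * e) := by
        have h4 : w * e * z = z * (w * e) := h.Qz (mul_mem hwQ (h.EQ he))
        calc z * (w * e) * (z * (w * e)) = z * (w * e * z) * (w * e) := by group
          _ = z * z * (w * e) * (w * e) := by rw [h4]; group
          _ = w * e * (w * e) := by rw [h.z2, one_mul]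
      rwa [h3] at h0
  have hwi : w⁻¹ = w := inv_eq_of_mul_eq_one_left hw2
  have hei : e⁻¹ = e := inv_eq_of_mul_eq_one_left (h.E2 e he)
  have h5 : (w * e)⁻¹ = w * e := inv_eq_of_mul_eq_one_left h1
  rw [mul_inv_rev, hwi, hei] at h5
  exact h5

/-- `U = ⟨B, a, w⟩` -/
def U (_h : SixD C Q E B M z v a g) : Subgroup G := closure ((B : Set G) ∪ {a, g * a * g⁻¹})

theorem BU : B ≤ h.U := fun _ hb => subset_closure (Or.inl hb)

theorem aU : a ∈ h.U := subset_closure (Or.inr (Or.inl rfl))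

theorem wU : g * a * g⁻¹ ∈ h.U := subset_closure (Or.inr (Or.inr rfl))

theorem zU : z ∈ h.U := h.BU h.zB

theorem UQ : h.U ≤ Q := by
  refine (closure_le _).2 ?_
  rintro x (hx | hx | hx)
  · exact h.BQ hx
  · rw [hx]; exact h.aQ
  · rw [Set.mem_singleton_iff.1 hx]; exact h.wQ

/-- `e₂ ∈ {1, z, a, za}` is in `U` -/
theorem mem_U_of {x y : G} (hy : y ∈ h.U) (hxy : Eqz z x y) : x ∈ h.U := by
  rcases hxy with h1 | h1
  · rw [h1]; exact hy
  · rw [h1]; exact mul_mem h.zU hy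

/-- an element of `E` commuting with `w` is in `⟨z, a⟩` -/
theorem E_w {f : G} (hf : f ∈ E) (hc : f * (g * a * g⁻¹) = g * a * g⁻¹ * f) :
    Eqz z f 1 ∨ Eqz z f a := by
  rcases h.gd1 a h.aE f hf hc with h1 | h1 | h1
  · exact absurd h1 h.a1
  · exact Or.inl h1
  · exact Or.inr h1

theorem E_w_U {f : G} (hf : f ∈ E) (hc : f * (g * a * g⁻¹) = g * a * g⁻¹ * f) : f ∈ h.U := by
  rcases h.E_w hf hc with h1 | h1
  · exact h.mem_U_of (one_mem _) h1
  · exact h.mem_U_of h.aU h1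

/-- conjugates of `w` by `M`: `m w m⁻¹ = e b w`, `e ∈ ⟨z, a⟩` -/
theorem M_w {m : G} (hm : m ∈ M) : ∃ e ∈ E, ∃ b ∈ B, (Eqz z e 1 ∨ Eqz z e a) ∧
    m * (g * a * g⁻¹) * m⁻¹ = e * b * (g * a * g⁻¹) := by
  have hz := h.z2
  have hmC := h.MC m hm
  have hmz := h.Cz m hmC
  set w := g * a * g⁻¹ with hw
  have hwQ : w ∈ Q := h.wQ
  have hw2 : w * w = 1 := h.w2
  set w' := m * w * m⁻¹ with hw'
  have hw'Q : w' ∈ Q := norm_conj h.nQ hmC hwQ
  have hw'2 : w' * w' = 1 := by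
    calc w' * w' = m * (w * w) * m⁻¹ := by rw [hw']; group
      _ = 1 := by rw [hw2]; group
  set e₀ := m * v * m⁻¹ * v⁻¹ with he₀
  have he₀E : e₀ ∈ E := h.Mv m hm
  have h1 : Eqz z (v * w * v⁻¹) (w * a) := h.vwe h.aE
  -- `v' w' v'⁻¹ ≡ w' a`
  have h2 : Eqz z ((e₀ * v) * w' * (e₀ * v)⁻¹) (w' * a) := by
    have h3 := h1.conj hmz
    have e1 : m * (v * w * v⁻¹) * m⁻¹ = (e₀ * v) * w' * (e₀ * v)⁻¹ := by
      rw [he₀, hw']; group
    have e2 : m * (w * a) * m⁻¹ = w' * (m * a * m⁻¹) := by rw [hw']; group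
    rw [e1, e2] at h3
    exact h3.trans hz ((h.Ma m hm).mul_left (h.Qz hw'Q))
  -- `v w' v⁻¹ ≡ w' a`
  have he₀z : e₀ * z = z * e₀ := h.Qz (h.EQ he₀E)
  have he₀z' : e₀⁻¹ * z = z * e₀⁻¹ := h.Qz (inv_mem (h.EQ he₀E))
  have h4 : Eqz z (v * w' * v⁻¹) (w' * a) := by
    have h5 := h2.conj he₀z'
    have e1 : e₀⁻¹ * (e₀ * v * w' * (e₀ * v)⁻¹) * e₀⁻¹⁻¹ = v * w' * v⁻¹ := by group
    rw [e1] at h5
    refine h5.trans hz ?_
    have h6 : Eqz z (e₀⁻¹ * w') (w' * e₀⁻¹) := h.QQ _ (inv_mem (h.EQ he₀E)) _ hw'Q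
    have e2 : w' * e₀⁻¹ * (a * e₀⁻¹⁻¹) = w' * a := by
      have h7 := h.EE a h.aE e₀ he₀E
      calc w' * e₀⁻¹ * (a * e₀⁻¹⁻¹) = w' * e₀⁻¹ * (a * e₀) := by group
        _ = w' * e₀⁻¹ * (e₀ * a) := by rw [h7]
        _ = w' * a := by group
    have h8 := h6.mul_right (a * e₀⁻¹⁻¹)
    rw [e2] at h8
    exact h8.of_eq_left (by group)
  -- `x = w' w⁻¹` commutes with `v` mod `z`
  set x := w' * w⁻¹ with hx
  have hxQ : x ∈ Q := mul_mem hw'Q (inv_mem hwQ)
  have h9 : Eqz z (x * v) (v * x) := by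
    -- `v w⁻¹ v⁻¹ ≡ a⁻¹ w⁻¹`
    have h10 : Eqz z (v * w' * v⁻¹ * (v * w * v⁻¹)⁻¹) (w' * a * (v * w * v⁻¹)⁻¹) :=
      h4.mul_right _
    have h11 : Eqz z (w' * a * (v * w * v⁻¹)⁻¹) (w' * w⁻¹) := by
      rcases h1 with h12 | h12
      · left; rw [h12]; group
      · right
        rw [h12]
        have h13 : w' * w⁻¹ * z = z * (w' * w⁻¹) := h.Qz hxQ
        have hzi : z⁻¹ = z := inv_eq_of_mul_eq_one_left hz
        calc w' * a * (z * (w * a))⁻¹ = w' * w⁻¹ * z⁻¹ := by group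
          _ = w' * w⁻¹ * z := by rw [hzi]
          _ = z * (w' * w⁻¹) := h13
    have h14 := h10.trans hz h11
    have e1 : v * w' * v⁻¹ * (v * w * v⁻¹)⁻¹ = v * x * v⁻¹ := by rw [hx]; group
    rw [e1] at h14
    have h15 := h14.mul_right v
    have e2 : v * x * v⁻¹ * v = v * x := by group
    rw [e2] at h15
    exact h15.symm hz
  obtain ⟨e, he, b, hb, hxe⟩ := h.TQ x hxQ h9
  have h16 : w' = e * b * w := by
    rw [← hxe, hx]; group
  refine ⟨e, he, b, hb, ?_, h16⟩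
  -- `w'` is an involution
  refine h.E_w he ?_
  change e * w = w * e
  have hbw := h.BZ b hb w hwQ
  have hbe := h.BZ b hb e (h.EQ he)
  have h17 : e * w * (e * w) = 1 := by
    have hbp := h.BZ b hb (e * w) (mul_mem (h.EQ he) hwQ)
    have h16' : w' = b * (e * w) := by rw [h16, ← hbe, mul_assoc]
    rw [h16'] at hw'2
    calc e * w * (e * w) = (b * b) * (e * w * (e * w)) := by rw [h.B2 b hb, one_mul]
      _ = b * (b * (e * w)) * (e * w) := by group
      _ = b * ((e * w) * b) * (e * w) := by rw [hbp]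
      _ = b * (e * w) * (b * (e * w)) := by group
      _ = 1 := hw'2
  have h18 : (e * w)⁻¹ = e * w := inv_eq_of_mul_eq_one_left h17
  have hwi : w⁻¹ = w := inv_eq_of_mul_eq_one_left hw2
  have hei : e⁻¹ = e := inv_eq_of_mul_eq_one_left (h.E2 e he)
  rw [mul_inv_rev, hwi, hei] at h18
  exact h18.symm

theorem conj_U {m : G} (hmC : m ∈ C) (ha : m * a * m⁻¹ ∈ h.U) (hw : m * (g * a * g⁻¹) * m⁻¹ ∈ h.U)
    {x : G} (hx : x ∈ h.U) : m * x * m⁻¹ ∈ h.U := by
  have h1 : h.U ≤ h.U.comap (MulAut.conj m).toMonoidHom := by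
    conv_lhs => rw [U]
    refine (closure_le _).2 ?_
    rintro y (hy | hy | hy)
    · exact h.mem_U_of (h.BU hy) (h.CB m hmC y hy)
    · rw [hy]; exact ha
    · rw [Set.mem_singleton_iff.1 hy]; exact hw
  exact h1 hx

/-- `U` is normal in `C` -/
theorem nU [Finite G] : C ≤ normalizer (h.U : Set G) := by
  refine h.gen.trans ((closure_le _).2 ?_)
  rintro m (hm | hm)
  · refine mem_normalizer_fintype fun x hx => h.conj_U (h.MC m hm)
      (h.mem_U_of h.aU (h.Ma m hm)) ?_ hx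
    obtain ⟨e, he, b, hb, h1, h2⟩ := h.M_w hm
    rw [h2]
    refine mul_mem (mul_mem ?_ (h.BU hb)) h.wU
    rcases h1 with h1 | h1
    · exact h.mem_U_of (one_mem _) h1
    · exact h.mem_U_of h.aU h1
  · rw [Set.mem_singleton_iff] at hm
    rw [hm]
    refine mem_normalizer_fintype fun x hx => h.conj_U h.gC h.wU ?_ hx
    -- `g w g⁻¹ ≡ a w⁻¹`
    have h1 : Eqz z (g * (g⁻¹ * a * g) * g⁻¹) (g * (g * a * g⁻¹ * a) * g⁻¹) :=
      (h.gd2 a h.aE).conj (h.Cz g h.gC)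
    have e1 : g * (g⁻¹ * a * g) * g⁻¹ = a := by group
    have e2 : g * (g * a * g⁻¹ * a) * g⁻¹ = g * (g * a * g⁻¹) * g⁻¹ * (g * a * g⁻¹) := by group
    rw [e1, e2] at h1
    have h2 := h1.mul_right (g * a * g⁻¹)⁻¹
    rw [mul_inv_cancel_right] at h2
    exact h.mem_U_of (mul_mem h.aU (inv_mem h.wU)) (h2.symm h.z2)

/-- an element of `Q` commuting with `a` and `w` is in `U` -/
theorem cent_U {t : G} (ht : t ∈ Q) (hta : t * a = a * t)
    (htw : t * (g * a * g⁻¹) = g * a * g⁻¹ * t) : t ∈ h.U := by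
  have hz := h.z2
  set e := t * v * t⁻¹ * v⁻¹ with he
  have heE : e ∈ E := h.QvE t ht
  set w' := g * e * g⁻¹ with hw'
  have hw'Q : w' ∈ Q := norm_conj h.nQ h.gC (h.EQ heE)
  have h1 : Eqz z (v * w' * v⁻¹) (w' * e) := h.vwe heE
  have hew : e * w' = w' * e := h.ew heE
  have hee : e * e = 1 := h.E2 e heE
  -- `w'⁻¹ v ≡ e v w'⁻¹`
  have h2 : Eqz z (v * w') (w' * e * v) := by
    have h3 := h1.mul_right v
    rwa [inv_mul_cancel_right] at h3
  -- `t v = e v t`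
  have h4 : t * v = e * (v * t) := by rw [he]; group
  have h5 : Eqz z (t * w'⁻¹ * v) (v * (t * w'⁻¹)) := by
    -- `w'⁻¹ v ≡ e v w'⁻¹`
    have hwz : w'⁻¹ * z = z * w'⁻¹ := h.Qz (inv_mem hw'Q)
    have h6 : Eqz z (w'⁻¹ * v) (e * v * w'⁻¹) := by
      have h7 := (h2.mul_left hwz).mul_right w'⁻¹
      have e1 : w'⁻¹ * (v * w') * w'⁻¹ = w'⁻¹ * v := by group
      have e2 : w'⁻¹ * (w' * e * v) * w'⁻¹ = e * v * w'⁻¹ := by group
      rwa [e1, e2] at h7
    have h7 : Eqz z (t * w'⁻¹ * v) (t * e * v * w'⁻¹) := by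
      have h8 := h6.mul_left (h.Qz ht)
      have e1 : t * (w'⁻¹ * v) = t * w'⁻¹ * v := by group
      have e2 : t * (e * v * w'⁻¹) = t * e * v * w'⁻¹ := by group
      rwa [e1, e2] at h8
    have h9 : Eqz z (t * e * v * w'⁻¹) (v * (t * w'⁻¹)) := by
      have h10 : Eqz z (t * e) (e * t) := h.QQ t ht e (h.EQ heE)
      have h11 := h10.mul_right (v * w'⁻¹)
      have e1 : t * e * (v * w'⁻¹) = t * e * v * w'⁻¹ := by group
      have e2 : e * t * (v * w'⁻¹) = v * (t * w'⁻¹) := by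
        calc e * t * (v * w'⁻¹) = e * (t * v) * w'⁻¹ := by group
          _ = (e * e) * (v * t) * w'⁻¹ := by rw [h4]; group
          _ = v * (t * w'⁻¹) := by rw [hee]; group
      rwa [e1, e2] at h11
    exact h7.trans hz h9
  obtain ⟨f, hf, b, hb, hfb⟩ := h.TQ _ (mul_mem ht (inv_mem hw'Q)) h5
  have h6 : t = f * b * w' := by rw [← hfb]; group
  -- `w'` commutes with `a`
  have hbw' := h.BZ b hb
  have hfa := h.EE f hf a h.aE
  have h7 : a * w' = w' * a := by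
    rw [h6] at hta
    have e1 : f * b * w' * a = f * b * (w' * a) := by group
    have e2 : a * (f * b * w') = f * b * (a * w') := by
      calc a * (f * b * w') = (a * f) * (b * w') := by group
        _ = f * (a * b) * w' := by rw [← hfa]; group
        _ = f * b * (a * w') := by rw [← h.BZ b hb a h.aQ]; group
    rw [e1, e2] at hta
    exact (mul_left_cancel hta).symm
  have h8 : Eqz z e 1 ∨ Eqz z e a := by
    rcases h.gd1 e heE a h.aE h7 with h9 | h9 | h9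
    · exact Or.inl h9
    · exact absurd h9 h.a1
    · exact Or.inr (h9.symm hz)
  have hgz := h.Cz g h.gC
  -- `w' ∈ ⟨z, w⟩`
  have h9 : Eqz z w' 1 ∨ Eqz z w' (g * a * g⁻¹) := by
    rcases h8 with h10 | h10
    · left
      have h11 := h10.conj hgz
      rwa [mul_one, mul_inv_cancel] at h11
    · exact Or.inr (h10.conj hgz)
  have hw'U : w' ∈ h.U := by
    rcases h9 with h10 | h10
    · exact h.mem_U_of (one_mem _) h10
    · exact h.mem_U_of h.wU h10
  have hww : w' * (g * a * g⁻¹) = g * a * g⁻¹ * w' := by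
    have hwz := h.Qz h.wQ
    rcases h9 with (h10 | h10) | (h10 | h10)
    · rw [h10, one_mul, mul_one]
    · rw [h10, mul_one]; exact hwz.symm
    · rw [h10]
    · rw [h10, ← mul_assoc (g * a * g⁻¹) z, hwz]
  have h12 : f * (g * a * g⁻¹) = g * a * g⁻¹ * f := by
    rw [h6] at htw
    set w := g * a * g⁻¹ with hw
    have hbw := h.BZ b hb w h.wQ
    have e1 : f * b * w' * w = f * w * (b * w') := by
      calc f * b * w' * w = f * b * (w' * w) := by group
        _ = f * (b * w) * w' := by rw [hww]; group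
        _ = f * w * (b * w') := by rw [hbw]; group
    have e2 : w * (f * b * w') = w * f * (b * w') := by group
    rw [e1, e2] at htw
    exact mul_right_cancel htw
  rw [h6]
  exact mul_mem (mul_mem (h.E_w_U hf h12) (h.BU hb)) hw'U

/-- **(6)**: an element of `C` centralising `a` mod `z` and `w` mod `B` is in `Q` -/
theorem mem_Q [Finite G] {s : G} (hs : s ∈ C) (hsa : Eqz z (s * a * s⁻¹) a)
    (hsw : s * (g * a * g⁻¹) * s⁻¹ * (g * a * g⁻¹)⁻¹ ∈ B) : s ∈ Q := by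
  have hz := h.z2
  have hzi : z⁻¹ = z := inv_eq_of_mul_eq_one_left hz
  have h0 := h.Qo2
  -- `s` centralises `U / B`
  have hUB : ∀ x ∈ h.U, s * x * s⁻¹ * x⁻¹ ∈ B := by
    let W : Subgroup G :=
      { carrier := {x | x ∈ Q ∧ s * x * s⁻¹ * x⁻¹ ∈ B}
        one_mem' := ⟨one_mem _, by simp⟩
        mul_mem' := by
          rintro x y ⟨hx0, hx⟩ ⟨hy0, hy⟩
          refine ⟨mul_mem hx0 hy0, ?_⟩
          have h1 := h.BZ _ hy x hx0
          have e : s * (x * y) * s⁻¹ * (x * y)⁻¹ =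
              s * x * s⁻¹ * ((s * y * s⁻¹ * y⁻¹) * x⁻¹) := by group
          rw [e, h.BZ _ hy _ (inv_mem hx0)]
          have e2 : s * x * s⁻¹ * (x⁻¹ * (s * y * s⁻¹ * y⁻¹)) =
              (s * x * s⁻¹ * x⁻¹) * (s * y * s⁻¹ * y⁻¹) := by group
          rw [e2]
          exact mul_mem hx hy
        inv_mem' := by
          rintro x ⟨hx0, hx⟩
          refine ⟨inv_mem hx0, ?_⟩
          have e : s * x⁻¹ * s⁻¹ * x⁻¹⁻¹ = x⁻¹ * ((s * x * s⁻¹ * x⁻¹)⁻¹ * x) := by group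
          rw [e, h.BZ _ (inv_mem hx) _ hx0]
          have e2 : x⁻¹ * (x * (s * x * s⁻¹ * x⁻¹)⁻¹) = (s * x * s⁻¹ * x⁻¹)⁻¹ := by group
          rw [e2]
          exact inv_mem hx }
    have hW : h.U ≤ W := by
      conv_lhs => rw [U]
      refine (closure_le _).2 ?_
      rintro x (hx | hx | hx)
      · refine ⟨h.BQ hx, mul_mem ?_ (inv_mem hx)⟩
        rcases h.CB s hs x hx with h1 | h1
        · rw [h1]; exact hx
        · rw [h1]; exact mul_mem h.zB hx
      · rw [hx]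
        refine ⟨h.aQ, ?_⟩
        rcases hsa with h1 | h1
        · rw [h1, mul_inv_cancel]; exact one_mem _
        · rw [h1, mul_inv_cancel_right]; exact h.zB
      · rw [Set.mem_singleton_iff.1 hx]
        exact ⟨h.wQ, hsw⟩
    exact fun x hx => (hW hx).2
  -- `s` centralises `Q / U`
  have hQU : ∀ x ∈ Q, s * x * s⁻¹ * x⁻¹ ∈ h.U := by
    intro x hx
    set t := s * x * s⁻¹ * x⁻¹ with ht
    have hsx : s * x * s⁻¹ ∈ Q := norm_conj h.nQ hs hx
    have htQ : t ∈ Q := mul_mem hsx (inv_mem hx)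
    have hsz := h.Cz s hs
    have key : ∀ u ∈ h.U, t * u = u * t := by
      intro u hu
      have huQ := h.UQ hu
      have hb := hUB u hu
      set b := s * u * s⁻¹ * u⁻¹ with hb'
      have e1 : s * u * s⁻¹ = b * u := by rw [hb']; group
      have e2 : s * x * s⁻¹ = t * x := by rw [ht]; group
      have hbt := h.BZ b hb t htQ
      have hbx := h.BZ b hb x hx
      have htz := h.Qz htQ
      -- conjugate the commutation of `x`, `u`
      have e3 : s * (x * u) * s⁻¹ = b * (t * (x * u)) := by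
        calc s * (x * u) * s⁻¹ = (s * x * s⁻¹) * (s * u * s⁻¹) := by group
          _ = t * (x * b) * u := by rw [e1, e2]; group
          _ = (t * b) * x * u := by rw [← hbx]; group
          _ = b * (t * (x * u)) := by rw [← hbt]; group
      have e4 : s * (u * x) * s⁻¹ = b * (u * t * x) := by
        calc s * (u * x) * s⁻¹ = (s * u * s⁻¹) * (s * x * s⁻¹) := by group
          _ = b * (u * t * x) := by rw [e1, e2]; group
      rcases h.QQ x hx u huQ with h1 | h1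
      · rw [h1, e4] at e3
        have h2 := mul_left_cancel e3
        have h3 : u * t * x = t * u * x := by rw [h2]; group
        exact (mul_right_cancel h3).symm
      · have e5 : s * (x * u) * s⁻¹ = z * (s * (u * x) * s⁻¹) := by
          rw [h1]
          calc s * (z * (u * x)) * s⁻¹ = (s * z) * (u * x) * s⁻¹ := by group
            _ = z * (s * (u * x) * s⁻¹) := by rw [hsz]; group
        rw [e5, e4, h1] at e3
        have e6 : z * (b * (u * t * x)) = b * (z * (u * t * x)) := by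
          rw [← mul_assoc, ← h.Qz (h.BQ hb), mul_assoc]
        rw [e6] at e3
        have h2 := mul_left_cancel e3
        have e7 : t * (z * (u * x)) = z * (t * u * x) := by
          rw [← mul_assoc, htz]; group
        rw [e7] at h2
        have h3 := mul_left_cancel h2
        exact (mul_right_cancel h3).symm
    exact h.cent_U htQ (key a h.aU) (key _ h.wU)
  -- (K)
  have hzn : ∀ c ∈ C, ∀ k ∈ zpowers z, c * k * c⁻¹ = k := by
    rintro c hc _ ⟨n, rfl⟩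
    have h1 : Commute c z := h.Cz c hc
    change c * z ^ n * c⁻¹ = z ^ n
    rw [(h1.zpow_right n).eq]; group
  let N : ℕ → Subgroup G := fun k => match k with
    | 0 => Q
    | 1 => h.U
    | 2 => B
    | 3 => zpowers z
    | _ + 4 => ⊥
  rw [h.Qo2]
  refine chain_mem (C := C) (by rw [← h.Qo2]; exact h.char2) 4 N h.Qo2 rfl ?_ ?_ hs ?_
  · intro k
    match k with
    | 0 => exact h.nQ
    | 1 => exact h.nU
    | 2 =>
      refine le_norm_of fun c hc x hx => ?_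
      change c * x * c⁻¹ ∈ B
      rcases h.CB c hc x hx with h1 | h1
      · rw [h1]; exact hx
      · rw [h1]; exact mul_mem h.zB hx
    | 3 =>
      refine le_norm_of fun c hc x hx => ?_
      change c * x * c⁻¹ ∈ zpowers z
      rw [hzn c hc x hx]; exact hx
    | _ + 4 =>
      refine le_norm_of fun c hc x hx => ?_
      change c * x * c⁻¹ ∈ (⊥ : Subgroup G)
      rw [mem_bot.1 hx]; simp
  · intro k
    match k with
    | 0 => exact h.UQ
    | 1 => exact h.BU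
    | 2 => exact (zpowers_le).2 h.zB
    | 3 => exact bot_le
    | _ + 4 => exact le_rfl
  · intro k
    match k with
    | 0 => exact hQU
    | 1 => exact hUB
    | 2 =>
      intro x hx
      change s * x * s⁻¹ * x⁻¹ ∈ zpowers z
      rcases h.CB s hs x hx with h1 | h1
      · rw [h1, mul_inv_cancel]; exact one_mem _
      · rw [h1, mul_inv_cancel_right]; exact mem_zpowers z
    | 3 =>
      intro x hx
      change s * x * s⁻¹ * x⁻¹ ∈ (⊥ : Subgroup G)
      rw [hzn s hs x hx, mul_inv_cancel]; exact one_mem _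
    | _ + 4 =>
      intro x hx
      change s * x * s⁻¹ * x⁻¹ ∈ (⊥ : Subgroup G)
      rw [mem_bot.1 hx]; simp

/-- **(6)**: the elements of `M` centralise `E / ⟨z⟩`. -/
theorem main [Finite G] {s e : G} (hs : s ∈ M) (he : e ∈ E) : Eqz z (s * e * s⁻¹) e := by
  have hz := h.z2
  have hsC := h.MC s hs
  obtain ⟨f, hf, b, hb, h1, h2⟩ := h.M_w hs
  set w := g * a * g⁻¹ with hw
  have hwQ : w ∈ Q := h.wQ
  have hQE : ∀ {x : G}, x ∈ Q → Eqz z (x * e * x⁻¹) e := by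
    intro x hx
    have h3 := (h.QQ x hx e (h.EQ he)).mul_right x⁻¹
    rwa [mul_inv_cancel_right] at h3
  rcases h1 with h1 | h1
  · refine hQE (h.mem_Q hsC (h.Ma s hs) ?_)
    change s * w * s⁻¹ * w⁻¹ ∈ B
    rw [h2, mul_inv_cancel_right]
    refine mul_mem ?_ hb
    rcases h1 with h1 | h1
    · rw [h1]; exact one_mem _
    · rw [h1, mul_one]; exact h.zB
  · have h3 : v * s ∈ Q := by
      refine h.mem_Q (mul_mem h.vC hsC) ?_ ?_
      · have h4 := (h.Ma s hs).conj h.vz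
        have e1 : v * (s * a * s⁻¹) * v⁻¹ = v * s * a * (v * s)⁻¹ := by group
        have e2 : v * a * v⁻¹ = a := by rw [← h.Ev a h.aE]; group
        rwa [e1, e2] at h4
      · change v * s * w * (v * s)⁻¹ * w⁻¹ ∈ B
        have e1 : v * s * w * (v * s)⁻¹ * w⁻¹ = v * (s * w * s⁻¹) * v⁻¹ * w⁻¹ := by group
        rw [e1, h2]
        have e2 : v * (f * b * w) * v⁻¹ * w⁻¹ = f * b * (v * w * v⁻¹) * w⁻¹ := by
          calc v * (f * b * w) * v⁻¹ * w⁻¹ = (v * f) * b * w * v⁻¹ * w⁻¹ := by group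
            _ = f * (v * b) * w * v⁻¹ * w⁻¹ := by rw [← h.Ev f hf]; group
            _ = f * b * (v * w * v⁻¹) * w⁻¹ := by rw [← h.Bv b hb]; group
        rw [e2]
        have hfz : f * b * z = z * (f * b) := h.Qz (mul_mem (h.EQ hf) (h.BQ hb))
        have haw : a * w = w * a := h.ew h.aE
        have hba := h.BZ b hb a h.aQ
        have h4 : Eqz z (f * b * (v * w * v⁻¹) * w⁻¹) (f * b * (w * a) * w⁻¹) :=
          ((h.vwe h.aE).mul_left hfz).mul_right _
        have e3 : f * b * (w * a) * w⁻¹ = f * a * b := by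
          calc f * b * (w * a) * w⁻¹ = f * (b * a) := by rw [← haw]; group
            _ = f * a * b := by rw [hba]; group
        rw [e3] at h4
        have h5 : Eqz z (f * a * b) b := by
          have h6 := h1.mul_right (a * b)
          have e4 : a * (a * b) = b := by rw [← mul_assoc, h.E2 a h.aE, one_mul]
          rw [e4] at h6
          rwa [← mul_assoc] at h6
        rcases h4.trans hz h5 with h6 | h6
        · rw [h6]; exact hb
        · rw [h6]; exact mul_mem h.zB hb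
    have h4 : Eqz z (v * s * e * (v * s)⁻¹) e := hQE h3
    have h5 := h4.conj (a := v⁻¹) (by rw [inv_comm' h.vz])
    have e1 : v⁻¹ * (v * s * e * (v * s)⁻¹) * v⁻¹⁻¹ = s * e * s⁻¹ := by group
    have e2 : v⁻¹ * e * v⁻¹⁻¹ = e := by
      have := h.Ev e he
      calc v⁻¹ * e * v⁻¹⁻¹ = v⁻¹ * (e * v) := by group
        _ = e := by rw [this]; group
    rwa [e1, e2] at h5

end SixD

end Cfsg.Agent.Omega.NOne.AG

end

section


/-!
# THEOREM D0ag (bb #15001), (6): `Δ > V`, `T₀ = Δ`, image `F` (`Q i = QF i`) is impossible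

The hypothesis `hgen` is the minimality of `C i`: `C i = ⟨P ∩ C, d⟩` for every element `d ≠ 1` of odd order
inverted by an element of `V - Q i`.
-/

set_option autoImplicit false

namespace Cfsg.Agent.Omega.NOne.AG

open Subgroup Cfsg Cfsg.Agent.ZN Cfsg.Agent.Omega.NOne.AG.GData

universe u

variable {G : Type u} [Group G] {ι : Type*}

namespace Lab

variable {P V T : Subgroup G} {z : ι → G} {opp : ι → ι → Prop} {C Q QF Qs : ι → Subgroup G}
  {h : Conf P V T z opp C Q QF Qs} {y : Fin 5 → Fin 5 → G} {pt : Fin 5 → Fin 5 → Fin 5 → Fin 5 → ι}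
  (L : Lab h y pt)
include L

/-- the six `y_e` in `Q i` -/
theorem y_mem_Q {p q r s m : Fin 5} (hD : D5 p q r s m) :
    y p q ∈ Q (pt p q r s) ∧ y r s ∈ Q (pt p q r s) ∧ y p m ∈ Q (pt p q r s) ∧
      y q m ∈ Q (pt p q r s) ∧ y r m ∈ Q (pt p q r s) ∧ y s m ∈ Q (pt p q r s) := by
  obtain ⟨⟨h1, h2, h3, h4, h5, h6⟩, m1, m2, m3, m4⟩ := hD
  have hD4 : D4 p q r s := ⟨h1, h2, h3, h4, h5, h6⟩
  obtain ⟨e1, e2, e3⟩ := L.pt' hD4
  have hD4' : D4 r s p q := ⟨h6, h2.symm, h4.symm, h3.symm, h5.symm, h1⟩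
  obtain ⟨f1, f2, f3⟩ := L.pt' hD4'
  have a1 := L.yQ p q r s m ⟨hD4, m1, m2, m3, m4⟩
  have a2 := L.yQ q p r s m ⟨⟨h1.symm, h4, h5, h2, h3, h6⟩, m2, m1, m3, m4⟩
  have a3 := L.yQ r s p q m ⟨hD4', m3, m4, m1, m2⟩
  have a4 := L.yQ s r p q m ⟨⟨h6.symm, h3.symm, h5.symm, h2.symm, h4.symm, h1⟩, m4, m3, m1, m2⟩
  rw [e1] at a2
  rw [e3] at a3
  rw [f1, e3] at a4
  exact ⟨a1.1, a3.1, a1.2, a2.2, a3.2, a4.2⟩

/-- `z_{pr|qs} = y_{mp} y_{mr}` -/
theorem z_pr {p q r s m : Fin 5} (hD : D5 p q r s m) :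
    z (pt p r q s) = y m p * y m r := by
  obtain ⟨⟨h1, h2, h3, h4, h5, h6⟩, m1, m2, m3, m4⟩ := hD
  rw [L.rel m p q s r ⟨⟨m1, m2, m4, h1, h3, h5⟩, m3.symm, h2.symm, h4.symm, h6⟩,
    L.z_eq p r q s ⟨h2, h1, h3, h4.symm, h6, h5⟩]
  exact L.comm p r q s h2 h5

/-- `z_{pq|rs} = y_{mp} y_{mq}` -/
theorem z_pq {p q r s m : Fin 5} (hD : D5 p q r s m) :
    z (pt p q r s) = y m p * y m q := by
  obtain ⟨⟨h1, h2, h3, h4, h5, h6⟩, m1, m2, m3, m4⟩ := hD
  rw [L.rel m p r s q ⟨⟨m1, m3, m4, h2, h3, h6⟩, m2.symm, h1.symm, h4, h5⟩,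
    L.z_eq p q r s ⟨h1, h2, h3, h4, h5, h6⟩]
  exact L.comm p q r s h1 h6

/-- `z_{pq|rs} ≠ z_{pr|qs}` -/
theorem z_ne {p q r s m : Fin 5} (hD : D5 p q r s m) : z (pt p r q s) ≠ z (pt p q r s) := by
  intro he
  rw [L.z_pq hD, L.z_pr hD] at he
  obtain ⟨⟨h1, h2, h3, h4, h5, h6⟩, m1, m2, m3, m4⟩ := hD
  rcases L.inj m r m q m3 m2 (mul_left_cancel he) with ⟨-, h7⟩ | ⟨h7, -⟩
  · exact h4 h7.symm
  · exact m2 h7

/-- `z_{ps|qr} = z_{pq|rs} z_{pr|qs}` -/
theorem z_ps {p q r s m : Fin 5} (hD : D5 p q r s m) :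
    z (pt p s q r) = z (pt p q r s) * z (pt p r q s) := by
  have hD' := hD
  obtain ⟨⟨h1, h2, h3, h4, h5, h6⟩, m1, m2, m3, m4⟩ := hD'
  have hp : D5 p q s r m := ⟨⟨h1, h3, h2, h5, h4, h6.symm⟩, m1, m2, m4, m3⟩
  rw [L.z_pr hp, L.z_pq hD, L.z_pr hD]
  -- `y_mp y_mq y_mp y_mr = y_mq y_mr = y_ps y_qr`
  have e1 : y m q * y m r = y p s * y q r :=
    L.rel m q p s r ⟨⟨m2, m1, m4, h1.symm, h5, h3⟩, m3.symm, h4.symm, h2.symm, h6⟩
  have e2 : y m p * y m s = y q r * y p s :=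
    L.rel m p q r s ⟨⟨m1, m2, m3, h1, h2, h4⟩, m4.symm, h3.symm, h5.symm, h6.symm⟩
  have e3 : y m p * y m q * (y m p * y m r) = y m q * y m r := by
    have h7 := L.comm m p m q m1 m2
    calc y m p * y m q * (y m p * y m r) = (y m p * y m q) * y m p * y m r := by group
      _ = y m q * (y m p * y m p) * y m r := by rw [h7]; group
      _ = y m q * y m r := by rw [L.sq m p m1, mul_one]
  rw [e3, e1, e2]
  exact L.comm q r p s h4 h3

/-- elements of `P ∩ C(z i)` fix `z_{pr|qs}` modulo `z i` -/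
theorem Ma [Finite G] {p q r s m : Fin 5} (hD : D5 p q r s m) {k : G} (hk : k ∈ P)
    (hkz : k * z (pt p q r s) = z (pt p q r s) * k) :
    Eqz (z (pt p q r s)) (k * z (pt p r q s) * k⁻¹) (z (pt p r q s)) := by
  have hD' := hD
  obtain ⟨⟨h1, h2, h3, h4, h5, h6⟩, m1, m2, m3, m4⟩ := hD'
  have hD4 : D4 p q r s := ⟨h1, h2, h3, h4, h5, h6⟩
  obtain ⟨σ, -, hσ⟩ := L.act k hk
  have hkC := h.PC _ k hk hkz
  have hinj : ∀ {x : G}, x ≠ 1 → k * x * k⁻¹ ≠ 1 := by
    intro x hx hc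
    apply hx
    calc x = k⁻¹ * (k * x * k⁻¹) * k := by group
      _ = 1 := by rw [hc]; group
  have hkz' : k * z (pt p q r s) * k⁻¹ = z (pt p q r s) := comm_conj' hkz
  have hB : ∀ {x : G}, x ∈ h.B (pt p q r s) → x ≠ 1 → x ≠ z (pt p q r s) →
      k * x * k⁻¹ = y p q ∨ k * x * k⁻¹ = y r s := by
    intro x hx hx1 hxz
    have h7 := norm_conj (h.B_norm _) hkC hx
    rcases (L.B_eq hD4).1 h7 with h8 | h8 | h8 | h8
    · exact absurd h8 (hinj hx1)
    · exfalso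
      apply hxz
      calc x = k⁻¹ * (k * x * k⁻¹) * k := by group
        _ = k⁻¹ * (k * z (pt p q r s) * k⁻¹) * k := by rw [h8, hkz']
        _ = z (pt p q r s) := by group
    · exact Or.inl h8
    · exact Or.inr h8
  have hz := L.z_eq p q r s hD4
  have hzy : ∀ {a b c d : Fin 5}, a ≠ b → c ≠ d → y a b ≠ y a b * y c d := by
    intro a b c d _ hcd hc
    exact L.ne_one c d hcd (mul_left_cancel (a := y a b) (by rw [mul_one]; exact hc.symm))
  have hy1 : k * y p q * k⁻¹ = y p q ∨ k * y p q * k⁻¹ = y r s :=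
    hB (L.y_mem_B hD4) (L.ne_one p q h1) (by rw [hz]; exact hzy h1 h6)
  have hy2 : k * y r s * k⁻¹ = y p q ∨ k * y r s * k⁻¹ = y r s :=
    hB (L.y_mem_B' hD4) (L.ne_one r s h6) (by
      rw [hz, L.comm p q r s h1 h6]; exact hzy h6 h1)
  rw [hσ p q h1] at hy1
  rw [hσ r s h6] at hy2
  have hs : ∀ {a b : Fin 5}, a ≠ b → σ a ≠ σ b := fun hab hc => hab (σ.injective hc)
  have hpq : (σ p = p ∧ σ q = q) ∨ (σ p = q ∧ σ q = p) ∨ (σ p = r ∧ σ q = s) ∨
      (σ p = s ∧ σ q = r) := by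
    rcases hy1 with h7 | h7
    · rcases L.inj _ _ _ _ (hs h1) h1 h7 with h8 | h8
      · exact Or.inl h8
      · exact Or.inr (Or.inl h8)
    · rcases L.inj _ _ _ _ (hs h1) h6 h7 with h8 | h8
      · exact Or.inr (Or.inr (Or.inl h8))
      · exact Or.inr (Or.inr (Or.inr h8))
  have hrs : (σ r = p ∧ σ s = q) ∨ (σ r = q ∧ σ s = p) ∨ (σ r = r ∧ σ s = s) ∨
      (σ r = s ∧ σ s = r) := by
    rcases hy2 with h7 | h7
    · rcases L.inj _ _ _ _ (hs h6) h1 h7 with h8 | h8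
      · exact Or.inl h8
      · exact Or.inr (Or.inl h8)
    · rcases L.inj _ _ _ _ (hs h6) h6 h7 with h8 | h8
      · exact Or.inr (Or.inr (Or.inl h8))
      · exact Or.inr (Or.inr (Or.inr h8))
  -- the two values
  have hpr : z (pt p r q s) = y p r * y q s := L.z_eq p r q s ⟨h2, h1, h3, h4.symm, h6, h5⟩
  have hps : z (pt p q r s) * z (pt p r q s) = y p s * y q r := by
    rw [← L.z_ps hD]
    exact L.z_eq p s q r ⟨h3, h1, h2, h5.symm, h6.symm, h4⟩
  have hval : k * z (pt p r q s) * k⁻¹ = y (σ p) (σ r) * y (σ q) (σ s) := by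
    rw [hpr, ← hσ p r h2, ← hσ q s h5]; group
  have c1 : y q s * y p r = y p r * y q s := L.comm q s p r h5 h2
  have c2 : y q r * y p s = y p s * y q r := L.comm q r p s h4 h3
  rw [Eqz, hval, hps, hpr]
  have n1 := hs h2
  have n2 := hs h3
  rcases hpq with ⟨a1, a2⟩ | ⟨a1, a2⟩ | ⟨a1, a2⟩ | ⟨a1, a2⟩ <;>
    rcases hrs with ⟨b1, b2⟩ | ⟨b1, b2⟩ | ⟨b1, b2⟩ | ⟨b1, b2⟩ <;>
    rw [a1, b1] at n1 <;> rw [a1, b2] at n2 <;> rw [a1, a2, b1, b2] <;>
    first
    | exact absurd rfl n1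
    | exact absurd rfl n2
    | exact Or.inl rfl
    | exact Or.inr rfl
    | exact Or.inl c1
    | exact Or.inr c2
    | (left; rw [L.symm r p, L.symm s q]; exact c1)
    | (left; rw [L.symm r p, L.symm s q]; done)
    | (right; rw [L.symm r q, L.symm s p]; exact c2)
    | (right; rw [L.symm s p, L.symm r q]; done)

/-- **(6)**, for a given `g` -/
theorem six [Finite G] (hT : h.T0 ≤ h.Dl) {p q r s m : Fin 5} (hD : D5 p q r s m)
    (hQF : ∀ x ∈ Q (pt p q r s), x ∈ QF (pt p q r s)) {v g : G} (hv : v ∈ V)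
    (hvQ : v ∉ Q (pt p q r s)) (hgC : g ∈ C (pt p q r s))
    (hg : GD (V ⊓ Q (pt p q r s)) (z (pt p q r s)) v g)
    (hgen : g ≠ 1 →
      C (pt p q r s) ≤ closure ({k | k ∈ P ∧ k * z (pt p q r s) = z (pt p q r s) * k} ∪ {g})) :
    False := by
  have hD' := hD
  obtain ⟨⟨h1, h2, h3, h4, h5, h6⟩, m1, m2, m3, m4⟩ := hD'
  have hD4 : D4 p q r s := ⟨h1, h2, h3, h4, h5, h6⟩
  have := L.nonempty
  obtain ⟨q1, q2, q3, q4, q5, q6⟩ := L.y_mem_Q hD
  set i := pt p q r s with hi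
  have hzz := h.sq i
  have hzB : z i ∈ h.B i := h.Zs_B i (h.z_mem_Zs i)
  have hyB : y p q ∈ h.B i := L.y_mem_B hD4
  have hyT : y p q ∈ T := L.y_mem_T h1
  have hQz : ∀ {x : G}, x ∈ Q i → x * z i = z i * x := fun hx => h.Qcomm_z hx
  -- `B` is central
  have hBZ : ∀ b ∈ h.B i, ∀ x ∈ Q i, b * x = x * b := by
    intro b hb x hx
    obtain ⟨w, hw, hxw⟩ := L.QF_eq hD4 (hQF x hx)
    have hbw := (h.mem_B.1 hb).2 w hw
    have hby := L.y_T h1 (h.B_T i hb)
    rcases hxw with rfl | rfl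
    · exact hbw
    · calc b * (w * y p q) = (b * w) * y p q := by group
        _ = w * (b * y p q) := by rw [hbw]; group
        _ = w * y p q * b := by rw [hby]; group
  -- `x = w` or `w y_pq`
  have hyQ : ∀ {x : G}, x ∈ Q i → ∃ w ∈ Qs i, ∃ b ∈ h.B i, x = w * b := by
    intro x hx
    obtain ⟨w, hw, hxw⟩ := L.QF_eq hD4 (hQF x hx)
    rcases hxw with rfl | rfl
    · exact ⟨x, hw, 1, one_mem _, (mul_one _).symm⟩
    · exact ⟨w, hw, _, hyB, rfl⟩
  have hQQ : ∀ x ∈ Q i, ∀ x' ∈ Q i, Eqz (z i) (x * x') (x' * x) := by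
    intro x hx x' hx'
    obtain ⟨w, hw, b, hb, rfl⟩ := hyQ hx
    obtain ⟨w', hw', b', hb', rfl⟩ := hyQ hx'
    have e1 : w * b * (w' * b') = w * w' * (b * b') := by
      calc w * b * (w' * b') = w * (b * w') * b' := by group
        _ = w * w' * (b * b') := by rw [hBZ b hb w' (h.QsQ i hw')]; group
    have e2 : w' * b' * (w * b) = w' * w * (b * b') := by
      calc w' * b' * (w * b) = w' * (b' * (w * b)) := by group
        _ = w' * ((w * b) * b') := by rw [hBZ b' hb' _ hx]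
        _ = w' * w * (b * b') := by group
    rw [e1, e2]
    exact Eqz.mul_right _ (h.Qs_comm hw hw')
  -- `T ∩ Q = E B`
  have hTE : ∀ {x : G}, x ∈ Q i → x ∈ T → ∃ e ∈ V ⊓ Q i, ∃ b ∈ h.B i, x = e * b := by
    intro x hx hxT
    have h7 : x ∈ h.Dl := hT (h.Tt_le_T0 i (h.mem_Tt.2 ⟨hxT, hx⟩))
    rcases (L.mem_iff p q h1 x).1 h7 with h8 | h8
    · exact ⟨x, ⟨h8, hx⟩, 1, one_mem _, (mul_one _).symm⟩
    · refine ⟨x * y p q, ⟨h8, mul_mem hx q1⟩, y p q, hyB, ?_⟩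
      rw [mul_assoc, L.sq p q h1, mul_one]
  have hTQ : ∀ x ∈ Q i, Eqz (z i) (x * v) (v * x) → ∃ e ∈ V ⊓ Q i, ∃ b ∈ h.B i, x = e * b := by
    intro x hx hxv
    refine hTE hx ?_
    obtain ⟨w, hw, b, hb, rfl⟩ := hyQ hx
    refine mul_mem (h.kv i w hw v hv hvQ ?_) (h.B_T i hb)
    have hbv := h.B_V hb v hv
    have e1 : w * b * v = w * v * b := by
      calc w * b * v = w * (b * v) := by group
        _ = w * v * b := by rw [hbv]; group
    rw [e1, ← mul_assoc] at hxv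
    rcases hxv with h7 | h7
    · exact Or.inl (mul_right_cancel h7)
    · rw [← mul_assoc] at h7
      exact Or.inr (mul_right_cancel h7)
  have hvC := h.VC i hv
  have hwz := L.z_ne hD
  have haE : z (pt p r q s) ∈ V ⊓ Q i := by
    refine mem_inf.2 ⟨h.zV _, ?_⟩
    rw [L.z_pr hD, L.symm m p, L.symm m r]
    exact mul_mem q3 q5
  have hg1 : g ≠ 1 := by
    intro hg1
    have h7 : ∀ e' ∈ V ⊓ Q i, e' * (g * z (pt p r q s) * g⁻¹) = g * z (pt p r q s) * g⁻¹ * e' := by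
      intro e' he'
      have e1 : g * z (pt p r q s) * g⁻¹ = z (pt p r q s) := by rw [hg1]; group
      rw [e1]
      exact h.Vab e' (mem_inf.1 he').1 _ (mem_inf.1 haE).1
    rcases hg.ff _ haE h7 with h8 | h8
    · exact h.ne_one _ h8
    · exact hwz h8
  have hDt : SixD (C i) (Q i) (V ⊓ Q i) (h.B i)
      {k | k ∈ P ∧ k * z i = z i * k} (z i) v (z (pt p r q s)) g := by
    refine
      { Qo2 := h.Qo2 i
        char2 := h.char2 i
        Cz := h.Cz i
        z2 := hzz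
        zB := hzB
        BQ := h.B_Q i
        BZ := hBZ
        Bv := fun b hb => h.B_V hb v hv
        B2 := fun b hb => h.B_sq L.two hb
        CB := ?_
        QQ := hQQ
        EQ := inf_le_right
        E2 := fun e he => h.Vsq e he.1
        EE := fun e he f hf => h.Vab e he.1 f hf.1
        Ev := fun e he => h.Vab e he.1 v hv
        vC := hvC
        gC := hgC
        vg := hg.vg
        gd1 := ?_
        gd2 := ?_
        QvE := ?_
        TQ := hTQ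
        MC := fun k hk => h.PC i k hk.1 hk.2
        Mv := ?_
        ME := ?_
        Ma := fun k hk => L.Ma hD hk.1 hk.2
        aE := haE
        a1 := ?_
        gen := hgen hg1 }
    · -- `CB`
      intro c hc b hb
      have h7 := norm_conj (h.B_norm i) hc hb
      have hcz : c * z i * c⁻¹ = z i := comm_conj' (h.Cz i c hc)
      have hzy : z i = y p q * y r s := L.z_eq p q r s hD4
      have hy2 := L.sq p q h1
      have hy3 : z i * y p q = y r s := by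
        rw [hzy, L.comm p q r s h1 h6, mul_assoc, hy2, mul_one]
      have hy4 : z i * y r s = y p q := by
        rw [hzy, mul_assoc, L.sq r s h6, mul_one]
      have hback : ∀ {x x' : G}, c * x * c⁻¹ = x' → x = c⁻¹ * x' * c := by
        rintro x _ rfl; group
      have hne : ∀ {x : G}, c * x * c⁻¹ = z i → x = z i := by
        intro x hx
        exact mul_left_cancel (mul_right_cancel (hx.trans hcz.symm))
      rcases (L.B_eq hD4).1 hb with h8 | h8 | h8 | h8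
      · rw [h8]; left; group
      · rw [h8]; left; exact hcz
      · rcases (L.B_eq hD4).1 h7 with h9 | h9 | h9 | h9
        · exfalso
          have := hback h9
          rw [mul_one, inv_mul_cancel] at this
          exact L.ne_one p q h1 (h8 ▸ this)
        · exfalso
          have := hne h9
          rw [h8] at this
          rw [this] at hy3
          rw [hzz] at hy3
          exact L.ne_one r s h6 hy3.symm
        · left; rw [h9, h8]
        · right; rw [h9, h8, hy3]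
      · rcases (L.B_eq hD4).1 h7 with h9 | h9 | h9 | h9
        · exfalso
          have := hback h9
          rw [mul_one, inv_mul_cancel] at this
          exact L.ne_one r s h6 (h8 ▸ this)
        · exfalso
          have := hne h9
          rw [h8] at this
          rw [this] at hy4
          rw [hzz] at hy4
          exact L.ne_one p q h1 hy4.symm
        · right; rw [h9, h8, hy4]
        · left; rw [h9, h8]
    · -- `gd1`
      intro e he f hf hc
      by_cases he1 : e = 1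
      · exact Or.inl (Or.inl he1)
      by_cases hez : e = z i
      · exact Or.inl (Or.inr (by rw [mul_one]; exact hez))
      rcases (hg.perp he he1 hez hf).1 hc with h7 | h7 | h7 | h7
      · exact Or.inr (Or.inl (Or.inl h7))
      · exact Or.inr (Or.inl (Or.inr (by rw [mul_one]; exact h7)))
      · exact Or.inr (Or.inr (Or.inl h7))
      · exact Or.inr (Or.inr (Or.inr (by rw [h7]; exact hQz he.2)))
    · -- `gd2`
      intro e he
      by_cases he1 : e = 1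
      · rw [he1]; left; group
      by_cases hez : e = z i
      · rw [hez]
        have hgz := hg.gz
        have e1 : g⁻¹ * z i * g = z i := by rw [mul_assoc, ← hgz]; group
        have e2 : g * z i * g⁻¹ = z i := by rw [hgz]; group
        rw [e1, e2]
        right; rw [hzz, mul_one]
      rcases hg.third he he1 hez with h7 | h7
      · exact Or.inl h7
      · right
        rw [h7]
        exact hQz (mul_mem (norm_conj (h.nQ i) hgC he.2) he.2)
    · -- `QvE`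
      intro x hx
      exact mem_inf.2 ⟨mul_mem (h.conj_V (h.QP i hx) hv) (inv_mem hv), h.VQc i x hx v hv⟩
    · -- `Mv`
      rintro k ⟨hk, hkz⟩
      have hkC := h.PC i k hk hkz
      have h7 : k * v * k⁻¹ ∈ V := h.conj_V hk hv
      refine mem_inf.2 ⟨mul_mem h7 (inv_mem hv), ?_⟩
      refine h.VQ2 i _ h7 _ (inv_mem hv) (fun hc => hvQ ?_) (fun hc => hvQ ((inv_mem_iff).1 hc))
      have h8 := norm_conj (h.nQ i) (inv_mem hkC) hc
      have e1 : k⁻¹ * (k * v * k⁻¹) * k⁻¹⁻¹ = v := by group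
      rwa [e1] at h8
    · -- `ME`
      rintro k ⟨hk, hkz⟩ e he
      exact mem_inf.2 ⟨h.conj_V hk he.1, norm_conj (h.nQ i) (h.PC i k hk hkz) he.2⟩
    · -- `a1`
      rintro (h7 | h7)
      · exact h.ne_one _ h7
      · rw [mul_one] at h7
        exact hwz h7
  -- the transposition
  obtain ⟨k, hkP, hk⟩ := L.full (Equiv.swap p r * Equiv.swap q s)
  have s1 : (Equiv.swap p r * Equiv.swap q s) p = r := by
    rw [Equiv.Perm.mul_apply, Equiv.swap_apply_of_ne_of_ne h1 h3, Equiv.swap_apply_left]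
  have s2 : (Equiv.swap p r * Equiv.swap q s) q = s := by
    rw [Equiv.Perm.mul_apply, Equiv.swap_apply_left, Equiv.swap_apply_of_ne_of_ne h3.symm h6.symm]
  have s3 : (Equiv.swap p r * Equiv.swap q s) r = p := by
    rw [Equiv.Perm.mul_apply, Equiv.swap_apply_of_ne_of_ne h4.symm h6, Equiv.swap_apply_right]
  have s4 : (Equiv.swap p r * Equiv.swap q s) s = q := by
    rw [Equiv.Perm.mul_apply, Equiv.swap_apply_right, Equiv.swap_apply_of_ne_of_ne h1.symm h4]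
  have s5 : (Equiv.swap p r * Equiv.swap q s) m = m := by
    rw [Equiv.Perm.mul_apply, Equiv.swap_apply_of_ne_of_ne m2 m4,
      Equiv.swap_apply_of_ne_of_ne m1 m3]
  have hzy : z i = y p q * y r s := L.z_eq p q r s hD4
  have hkz : k * z i = z i * k := by
    apply conj_comm'
    have e1 : k * z i * k⁻¹ = (k * y p q * k⁻¹) * (k * y r s * k⁻¹) := by rw [hzy]; group
    rw [e1, hk p q h1, hk r s h6, s1, s2, s3, s4, hzy]
    exact L.comm r s p q h6 h1
  have hem : y p q * y r m = z (pt p q r m) :=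
    (L.z_eq p q r m ⟨h1, h2, m1.symm, h4, m2.symm, m3.symm⟩).symm
  have heE : y p q * y r m ∈ V ⊓ Q i := ⟨by rw [hem]; exact h.zV _, mul_mem q1 q5⟩
  have h7 := hDt.main (s := k) (e := y p q * y r m) ⟨hkP, hkz⟩ heE
  have e1 : k * (y p q * y r m) * k⁻¹ = y r s * y p m := by
    have e2 : k * (y p q * y r m) * k⁻¹ = (k * y p q * k⁻¹) * (k * y r m * k⁻¹) := by group
    rw [e2, hk p q h1, hk r m m3.symm, s1, s2, s3, s5]
  rw [e1] at h7
  rcases h7 with h7 | h7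
  · -- `y_rs y_pm = y_pq y_rm`: then `z_{pq|rs} = z_{pr|qs}`
    apply hwz
    have hc := L.comm p m r m m1.symm m3.symm
    rw [L.z_pr hD, hzy, L.symm m p, L.symm m r, hc]
    -- `y_rm y_pm = y_pq y_rs`
    have e3 : y p q * (y r s * y p m) = y r m := by
      rw [h7, ← mul_assoc, L.sq p q h1, one_mul]
    have e4 : y r m * y p m = y p q * y r s := by
      rw [← e3]
      calc y p q * (y r s * y p m) * y p m = y p q * y r s * (y p m * y p m) := by group
        _ = y p q * y r s := by rw [L.sq p m m1.symm, mul_one]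
    exact e4
  · -- `y_rs y_pm = y_rs y_rm`
    have e3 : z i * (y p q * y r m) = y r s * y r m := by
      rw [hzy, L.comm p q r s h1 h6]
      calc y r s * y p q * (y p q * y r m) = y r s * (y p q * y p q) * y r m := by group
        _ = y r s * y r m := by rw [L.sq p q h1, mul_one]
    rw [e3] at h7
    rcases L.inj p m r m m1.symm m3.symm (mul_left_cancel h7) with ⟨h8, -⟩ | ⟨h8, -⟩
    · exact h2 h8
    · exact m1 h8.symm

/-- **(6)**: `Δ > V`, `T₀ = Δ` and `Q i = QF i` is impossible. -/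
theorem six_false [Finite G] (hT : h.T0 ≤ h.Dl) (i : ι) (hQF : ∀ x ∈ Q i, x ∈ QF i)
    (hgen : ∀ v ∈ V, v ∉ Q i → ∀ d ∈ C i, d ≠ 1 → Odd (orderOf d) → v * d * v⁻¹ = d⁻¹ →
      C i ≤ closure ({m | m ∈ P ∧ m * z i = z i * m} ∪ {d})) : False := by
  obtain ⟨j, k, hij, -, -⟩ := h.tri i
  have hjQ : z j ∉ Q i := (h.opp_iff i j).1 hij
  obtain ⟨g, hgC, hg⟩ := h.exists_g i (h.zV j) hjQ
  obtain ⟨p, q, r, s, hD, rfl⟩ := L.surj i
  obtain ⟨m, hm⟩ := ex_fifth p q r s hD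
  exact L.six hT hm hQF (h.zV j) hjQ hgC hg fun hg1 =>
    hgen _ (h.zV j) hjQ g hgC hg1 hg.odd hg.vg

end Lab

end Cfsg.Agent.Omega.NOne.AG

end

section


/-!
# THEOREM D0ag (#15001), section (7): the group `C_1` when `Q_1` induces `D₈`; helper950

`SevD C Q QF Qs B E z v g a` : the local situation at the point `z`.
* `SevD.fix_a` : an element of `C` fixing `a B` is in `Q ∪ v Q`;
* `SevD.all` : `C = {1, g, g⁻¹} {1, v} Q`.
-/

set_option autoImplicit false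

namespace Cfsg.Agent.Omega.NOne.AG.Seven

open Subgroup Cfsg Cfsg.Agent.ZN Cfsg.Agent.Omega.NOne.AG.GData

universe u

variable {G : Type u} [Group G]

/-- the local situation -/
structure SevD (C Q QF Qs B E : Subgroup G) (z v g a : G) : Prop where
  gd : GD E z v g
  gC : g ∈ C
  vC : v ∈ C
  Cz : ∀ c ∈ C, c * z = z * c
  hC : C ⊓ centralizer (o2 C : Set G) ≤ o2 C
  Qo2 : Q = o2 C
  QFQ : QF ≤ Q
  QsQF : Qs ≤ QF
  BQF : B ≤ QF
  nQ : ∀ c ∈ C, ∀ x ∈ Q, c * x * c⁻¹ ∈ Q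
  nQF : ∀ c ∈ C, ∀ x ∈ QF, c * x * c⁻¹ ∈ QF
  nQs : ∀ c ∈ C, ∀ x ∈ Qs, c * x * c⁻¹ ∈ Qs
  nB : ∀ c ∈ C, ∀ x ∈ B, c * x * c⁻¹ ∈ B
  EQs : E ≤ Qs
  nE : ∀ q ∈ Q, ∀ e ∈ E, q * e * q⁻¹ ∈ E
  com : ∀ x ∈ Qs, ∀ y ∈ QF, x * y = y * x ∨ x * y = z * (y * x)
  QFB : ∀ x ∈ QF, ∀ b ∈ B, x * b = b * x
  dec : ∀ x ∈ QF, ∃ e ∈ E, ∃ e' ∈ E, ∃ b ∈ B, x = e * (g * e' * g⁻¹) * b
  BE : ∀ b ∈ B, b ∈ E → b = 1 ∨ b = z
  zB : z ∈ B
  Bz : ∀ c ∈ C, ∀ b ∈ B, c * b * c⁻¹ * b⁻¹ = 1 ∨ c * b * c⁻¹ * b⁻¹ = z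
  aE : a ∈ E
  a1 : a ≠ 1
  az : a ≠ z
  QF2 : ∀ x ∈ Q, ∀ y ∈ Q, x ∉ QF → y ∉ QF → x * y ∈ QF
  fix : ∀ s ∈ Q, s ∉ QF → ∀ e ∈ E, (s * e * s⁻¹ = e ∨ s * e * s⁻¹ = e * z) →
    e = 1 ∨ e = z ∨ e = a ∨ e = a * z
  fa : ∀ q ∈ Q, q * a * q⁻¹ = a ∨ q * a * q⁻¹ = a * z
  ex : ∃ s ∈ Q, s ∉ QF

namespace SevD

variable {C Q QF Qs B E : Subgroup G} {z v g a : G} (h : SevD C Q QF Qs B E z v g a)
include h

theorem QC : Q ≤ C := by rw [h.Qo2]; exact o2_le _

theorem QFC : QF ≤ C := h.QFQ.trans h.QC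

theorem BC : B ≤ C := h.BQF.trans h.QFC

theorem QsC : Qs ≤ C := h.QsQF.trans h.QFC

theorem EC : E ≤ C := h.EQs.trans h.QsC

theorem gi {c x : G} {H : Subgroup G} (hn : ∀ c ∈ C, ∀ x ∈ H, c * x * c⁻¹ ∈ H) (hc : c ∈ C) (hx : x ∈ H) :
    c⁻¹ * x * c ∈ H := by
  have := hn c⁻¹ (inv_mem hc) x hx
  rwa [inv_inv] at this

theorem gE {e : G} (he : e ∈ E) : g * e * g⁻¹ ∈ Qs := h.nQs g h.gC e (h.EQs he)

theorem zc {x : G} (hx : x ∈ E) : x = 1 ∨ x = z → g * x * g⁻¹ = x := by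
  rintro (rfl | rfl)
  · group
  · rw [h.Cz g h.gC]; group

/-- directness -/
theorem dir {e e' b : G} (he : e ∈ E) (he' : e' ∈ E) (hb : b ∈ B) (heq : e * (g * e' * g⁻¹) = b) :
    (e = 1 ∨ e = z) ∧ (e' = 1 ∨ e' = z) := by
  have h1 : ∀ x ∈ E, x * (g * e' * g⁻¹) = (g * e' * g⁻¹) * x := by
    intro x hx
    have h2 : g * e' * g⁻¹ = e⁻¹ * b := by rw [← heq]; group
    have h3 : x * e⁻¹ = e⁻¹ * x := h.gd.Eab _ hx _ (inv_mem he)
    have h4 : x * b = b * x := h.QFB _ (h.QsQF (h.EQs hx)) _ hb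
    rw [h2, ← mul_assoc, h3, mul_assoc, h4, mul_assoc]
  have h2 := h.gd.ff e' he' h1
  refine ⟨?_, h2⟩
  have h3 := h.zc he' h2
  rw [h3] at heq
  have h4 : e' ∈ B := by
    rcases h2 with rfl | rfl
    · exact one_mem _
    · exact h.zB
  have h5 : e ∈ B := by
    have : e = b * e'⁻¹ := by rw [← heq]; group
    rw [this]; exact mul_mem hb (inv_mem h4)
  exact h.BE e h5 he

/-- directness, second form -/
theorem dir2 {e₁ e₁' b₁ e₂ e₂' b₂ : G} (h1 : e₁ ∈ E) (h1' : e₁' ∈ E) (hb1 : b₁ ∈ B) (h2 : e₂ ∈ E)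
    (h2' : e₂' ∈ E) (hb2 : b₂ ∈ B) (heq : e₁ * (g * e₁' * g⁻¹) * b₁ = e₂ * (g * e₂' * g⁻¹) * b₂) :
    (e₁ = e₂ ∨ e₁ = e₂ * z) ∧ (e₁' = e₂' ∨ e₁' = e₂' * z) := by
  have h3 : (e₂⁻¹ * e₁) * (g * (e₁' * e₂'⁻¹) * g⁻¹) = b₂ * b₁⁻¹ := by
    have h4 : (g * e₂' * g⁻¹) * (b₂ * b₁⁻¹) = (b₂ * b₁⁻¹) * (g * e₂' * g⁻¹) :=
      h.QFB _ (h.QsQF (h.gE h2')) _ (mul_mem hb2 (inv_mem hb1))
    calc (e₂⁻¹ * e₁) * (g * (e₁' * e₂'⁻¹) * g⁻¹)
        = e₂⁻¹ * (e₁ * (g * e₁' * g⁻¹) * b₁) * b₁⁻¹ * (g * e₂'⁻¹ * g⁻¹) := by group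
      _ = ((g * e₂' * g⁻¹) * (b₂ * b₁⁻¹)) * (g * e₂'⁻¹ * g⁻¹) := by rw [heq]; group
      _ = b₂ * b₁⁻¹ := by rw [h4]; group
  obtain ⟨h4, h5⟩ := h.dir (mul_mem (inv_mem h2) h1) (mul_mem h1' (inv_mem h2'))
    (mul_mem hb2 (inv_mem hb1)) h3
  constructor
  · rcases h4 with h6 | h6
    · left; rw [inv_mul_eq_one] at h6; exact h6.symm
    · right; rw [← h6]; group
  · rcases h5 with h6 | h6
    · left; rw [mul_inv_eq_one] at h6; exact h6
    · right
      rw [mul_inv_eq_iff_eq_mul] at h6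
      rw [h6]; exact (h.Cz _ (h.EC h2')).symm

/-- the subgroup `R = C_QF(Q mod B)` -/
def R (h : SevD C Q QF Qs B E z v g a) : Subgroup G := QF ⊓ K.st C Q B h.nB

theorem mem_R {x : G} : x ∈ h.R ↔ x ∈ QF ∧ ∀ q ∈ Q, x * q * x⁻¹ * q⁻¹ ∈ B := by
  rw [R, mem_inf, K.mem_st]
  exact ⟨fun hx => ⟨hx.1, hx.2.2⟩, fun hx => ⟨hx.1, h.QFC hx.1, hx.2⟩⟩

theorem nR : ∀ c ∈ C, ∀ x ∈ h.R, c * x * c⁻¹ ∈ h.R := by
  intro c hc x hx
  obtain ⟨h1, h2⟩ := mem_inf.1 hx
  exact mem_inf.2 ⟨h.nQF c hc x h1, K.st_conj h.nQ hc h2⟩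

theorem RQF : h.R ≤ QF := inf_le_left

/-- `⟨z, a⟩` -/
theorem R_dec {x : G} (hx : x ∈ h.R) : ∃ e e' : G, (e = 1 ∨ e = z ∨ e = a ∨ e = a * z) ∧
    (e' = 1 ∨ e' = z ∨ e' = a ∨ e' = a * z) ∧ ∃ b ∈ B, x = e * (g * e' * g⁻¹) * b := by
  obtain ⟨s, hs, hsF⟩ := h.ex
  obtain ⟨hxF, hxq⟩ := h.mem_R.1 hx
  obtain ⟨e, he, e', he', b, hb, hxe⟩ := h.dec x hxF
  refine ⟨e, e', ?_, ?_, b, hb, hxe⟩
  all_goals
    have hgs : g⁻¹ * s * g ∈ Q := h.gi h.nQ h.gC hs
    have hgsF : g⁻¹ * s * g ∉ QF := fun hc => hsF (by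
      have := h.nQF g h.gC _ hc
      rwa [show g * (g⁻¹ * s * g) * g⁻¹ = s by group] at this)
    have h1 := hxq s hs
    obtain ⟨β, h3, h2⟩ : ∃ β ∈ B, s * x * s⁻¹ = x * β :=
      ⟨x⁻¹ * (x * s * x⁻¹ * s⁻¹)⁻¹ * x, h.gi h.nB (h.QFC hxF) (inv_mem h1), by group⟩
    have h4 : s * x * s⁻¹ = (s * e * s⁻¹) * (g * ((g⁻¹ * s * g) * e' * (g⁻¹ * s * g)⁻¹) * g⁻¹) * (s * b * s⁻¹) := by
      rw [hxe]; group
    rw [h4, hxe, mul_assoc (e * (g * e' * g⁻¹)) b] at h2
    obtain ⟨h5, h6⟩ := h.dir2 (h.nE s hs e he) (h.nE _ hgs e' he') (h.nB s (h.QC hs) b hb) he he'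
      (mul_mem hb h3) h2
  · exact h.fix s hs hsF e he h5
  · exact h.fix _ hgs hgsF e' he' h6

theorem aa : a * a = 1 := h.gd.Esq a h.aE

theorem aR : a ∈ h.R := by
  refine h.mem_R.2 ⟨h.QsQF (h.EQs h.aE), fun q hq => ?_⟩
  have h1 : a * q * a⁻¹ * q⁻¹ = a * (q * a * q⁻¹)⁻¹ := by group
  rw [h1]
  rcases h.fa q hq with h2 | h2
  · rw [h2, mul_inv_cancel]; exact one_mem _
  · rw [h2, h.Cz a (h.EC h.aE), mul_inv_rev, ← mul_assoc, mul_inv_cancel, one_mul]
    exact inv_mem h.zB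

theorem bR : g * a * g⁻¹ ∈ h.R := h.nR g h.gC a h.aR

theorem ab : a * (g * a * g⁻¹) = (g * a * g⁻¹) * a := (h.gd.perp h.aE h.a1 h.az h.aE).2 (Or.inr (Or.inr (Or.inl rfl)))

/-- the elements `x ∈ C` with `c x c⁻¹ ∈ x B` -/
theorem mul_B {c x x' : G} (hx : x ∈ C) (h1 : c * x * c⁻¹ * x⁻¹ ∈ B)
    (h2 : c * x' * c⁻¹ * x'⁻¹ ∈ B) : c * (x * x') * c⁻¹ * (x * x')⁻¹ ∈ B := by
  have e : c * (x * x') * c⁻¹ * (x * x')⁻¹ =
      (c * x * c⁻¹ * x⁻¹) * (x * (c * x' * c⁻¹ * x'⁻¹) * x⁻¹) := by group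
  rw [e]
  exact mul_mem h1 (h.nB x hx _ h2)

/-- `R = ⟨a, b⟩ B` is centralised mod `B` by the elements fixing `a B`, `b B` -/
theorem R_B {c : G} (hc : c ∈ C) (h1 : c * a * c⁻¹ * a⁻¹ ∈ B)
    (h2 : c * (g * a * g⁻¹) * c⁻¹ * (g * a * g⁻¹)⁻¹ ∈ B) {x : G} (hx : x ∈ h.R) : c * x * c⁻¹ * x⁻¹ ∈ B := by
  obtain ⟨e, e', he, he', b, hb, rfl⟩ := h.R_dec hx
  have hz : ∀ c ∈ C, c * z * c⁻¹ * z⁻¹ = 1 := fun c hc => by rw [h.Cz c hc]; group
  have hzC : z ∈ C := h.BC h.zB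
  have key : ∀ w : G, w ∈ C → (c * w * c⁻¹ * w⁻¹ ∈ B) → c * (w * z) * c⁻¹ * (w * z)⁻¹ ∈ B := by
    intro w hw h3
    exact h.mul_B hw h3 (by rw [hz c hc]; exact one_mem _)
  have haC := h.EC h.aE
  have hbC : g * a * g⁻¹ ∈ C := h.RQF.trans h.QFC h.bR
  have k1 : e ∈ C ∧ c * e * c⁻¹ * e⁻¹ ∈ B := by
    rcases he with rfl | rfl | rfl | rfl
    · exact ⟨one_mem _, by simp⟩
    · exact ⟨hzC, by rw [hz c hc]; exact one_mem _⟩
    · exact ⟨haC, h1⟩
    · exact ⟨mul_mem haC hzC, key _ haC h1⟩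
  have k2 : g * e' * g⁻¹ ∈ C ∧ c * (g * e' * g⁻¹) * c⁻¹ * (g * e' * g⁻¹)⁻¹ ∈ B := by
    have hgz : g * z * g⁻¹ = z := by rw [h.Cz g h.gC]; group
    rcases he' with rfl | rfl | rfl | rfl
    · rw [mul_one, mul_inv_cancel]; exact ⟨one_mem _, by simp⟩
    · rw [hgz]; exact ⟨hzC, by rw [hz c hc]; exact one_mem _⟩
    · exact ⟨hbC, h2⟩
    · have e5 : g * (a * z) * g⁻¹ = (g * a * g⁻¹) * z := by
        calc g * (a * z) * g⁻¹ = (g * a * g⁻¹) * (g * z * g⁻¹) := by group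
          _ = _ := by rw [hgz]
      rw [e5]
      exact ⟨mul_mem hbC hzC, key _ hbC h2⟩
  refine h.mul_B (mul_mem k1.1 k2.1) (h.mul_B k1.1 k1.2 k2.2) ?_
  exact mul_mem (h.nB c hc b hb) (inv_mem hb)

/-- an element of `QF` commuting with `a`, `b` is in `R` -/
theorem R_of_comm {x : G} (hx : x ∈ QF) (h1 : a * x = x * a) (h2 : (g * a * g⁻¹) * x = x * (g * a * g⁻¹)) :
    x ∈ h.R := by
  obtain ⟨e, he, e', he', b, hb, rfl⟩ := h.dec x hx
  have haF := h.QsQF (h.EQs h.aE)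
  have hbF := h.RQF h.bR
  have hab : a * b = b * a := h.QFB a haF b hb
  have hbb : (g * a * g⁻¹) * b = b * (g * a * g⁻¹) := h.QFB _ hbF b hb
  have hae : a * e = e * a := h.gd.Eab _ h.aE _ he
  have hae' : a * e' = e' * a := h.gd.Eab _ h.aE _ he'
  have hbe' : (g * a * g⁻¹) * (g * e' * g⁻¹) = (g * e' * g⁻¹) * (g * a * g⁻¹) := by
    calc (g * a * g⁻¹) * (g * e' * g⁻¹) = g * (a * e') * g⁻¹ := by group
      _ = _ := by rw [hae']; group
  -- `a` commutes with `g e' g⁻¹`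
  have h3 : a * (g * e' * g⁻¹) = (g * e' * g⁻¹) * a := by
    have h4 : e * (a * (g * e' * g⁻¹)) * b = e * ((g * e' * g⁻¹) * a) * b := by
      calc e * (a * (g * e' * g⁻¹)) * b = (e * a) * (g * e' * g⁻¹) * b := by group
        _ = a * (e * (g * e' * g⁻¹) * b) := by rw [← hae]; group
        _ = e * (g * e' * g⁻¹) * (b * a) := by rw [h1]; group
        _ = _ := by rw [← hab]; group
    exact mul_left_cancel (mul_right_cancel h4)
  have h4 := (h.gd.perp h.aE h.a1 h.az he').1 (h.gd.symm h.aE he' h3)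
  have h5 : e * (g * a * g⁻¹) = (g * a * g⁻¹) * e := by
    have h6 : ((g * a * g⁻¹) * e) * ((g * e' * g⁻¹) * b) = (e * (g * a * g⁻¹)) * ((g * e' * g⁻¹) * b) := by
      calc ((g * a * g⁻¹) * e) * ((g * e' * g⁻¹) * b) = (g * a * g⁻¹) * (e * (g * e' * g⁻¹) * b) := by group
        _ = e * (g * e' * g⁻¹) * (b * (g * a * g⁻¹)) := by rw [h2]; group
        _ = e * ((g * e' * g⁻¹) * (g * a * g⁻¹)) * b := by rw [← hbb]; group
        _ = _ := by rw [← hbe']; group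
    exact (mul_right_cancel h6).symm
  have h6 := (h.gd.perp h.aE h.a1 h.az he).1 h5
  -- membership
  have hzR : z ∈ h.R := h.mem_R.2 ⟨h.BQF h.zB, fun q hq => by
    have : z * q * z⁻¹ * q⁻¹ = 1 := by
      rw [← h.Cz q (h.QC hq)]; group
    rw [this]; exact one_mem _⟩
  have hBR : b ∈ h.R := h.mem_R.2 ⟨h.BQF hb, fun q hq => by
    have : b * q * b⁻¹ * q⁻¹ = b * (q * b⁻¹ * q⁻¹) := by group
    rw [this]
    exact mul_mem hb (h.nB q (h.QC hq) _ (inv_mem hb))⟩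
  have k : ∀ w : G, (w = 1 ∨ w = z ∨ w = a ∨ w = a * z) → w ∈ h.R := by
    rintro w (rfl | rfl | rfl | rfl)
    · exact one_mem _
    · exact hzR
    · exact h.aR
    · exact mul_mem h.aR hzR
  exact mul_mem (mul_mem (k e h6) (h.nR g h.gC _ (k e' h4))) hBR

/-- **`J ≤ Q`** -/
theorem mem_Q_of_J [Finite G] {c : G} (hc : c ∈ C) (h1 : c * a * c⁻¹ * a⁻¹ ∈ B)
    (h2 : c * (g * a * g⁻¹) * c⁻¹ * (g * a * g⁻¹)⁻¹ ∈ B) : c ∈ Q := by
  have hzz := h.gd.zz
  have hzi := h.gd.zi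
  rw [h.Qo2]
  refine K.chain5 h.hC (R := QF) (U := h.R) (W := B) (Z := zpowers z) h.nQF h.nR h.nB ?_
    (by rw [← h.Qo2]; exact h.QFQ) (by rw [← h.Qo2]; exact h.RQF.trans h.QFQ)
    (by rw [← h.Qo2]; exact h.BQF.trans h.QFQ) (by rw [← h.Qo2, zpowers_le]; exact h.QFQ (h.BQF h.zB)) hc ?_ ?_ ?_ ?_ ?_
  · intro c hc x hx
    obtain ⟨k, rfl⟩ := mem_zpowers_iff.1 hx
    have h3 : Commute c z := h.Cz c hc
    rw [(h3.zpow_right k).eq, mul_inv_cancel_right]
    exact zpow_mem (mem_zpowers z) k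
  · intro x hx
    rw [← h.Qo2] at hx
    by_cases hxF : x ∈ QF
    · exact mul_mem (h.nQF c hc x hxF) (inv_mem hxF)
    · refine h.QF2 _ (h.nQ c hc x hx) _ (inv_mem hx) (fun hcon => hxF ?_) fun hcon => hxF (inv_mem_iff.1 hcon)
      have := h.gi h.nQF hc hcon
      rwa [show c⁻¹ * (c * x * c⁻¹) * c = x by group] at this
  · -- `QF / R`
    intro x hx
    have key : ∀ r ∈ Qs, c * r * c⁻¹ * r⁻¹ ∈ B →
        r * (c * x * c⁻¹ * x⁻¹) = (c * x * c⁻¹ * x⁻¹) * r := by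
      intro r hr hrB
      obtain ⟨b, hb, hcr⟩ : ∃ b ∈ B, c⁻¹ * r * c = r * b := by
        refine ⟨r⁻¹ * (c⁻¹ * (c * r * c⁻¹ * r⁻¹)⁻¹ * c) * r, ?_, by group⟩
        exact h.gi h.nB (h.QsC hr) (h.gi h.nB hc (inv_mem hrB))
      have hxb : x * b = b * x := h.QFB x hx b hb
      obtain ⟨ζ, hζz, hζ⟩ : ∃ ζ : G, (ζ = 1 ∨ ζ = z) ∧ x * r * x⁻¹ = ζ * r := by
        rcases h.com r hr x hx with h3 | h3
        · exact ⟨1, Or.inl rfl, by rw [← h3]; group⟩
        · refine ⟨z, Or.inr rfl, ?_⟩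
          have h4 : x * r = z * (r * x) := by rw [h3, ← mul_assoc, hzz, one_mul]
          rw [h4]; group
      have hζc : ∀ w ∈ C, w * ζ = ζ * w := by
        intro w hw
        rcases hζz with rfl | rfl
        · rw [mul_one, one_mul]
        · exact h.Cz w hw
      have hζ2 : ζ * ζ = 1 := by
        rcases hζz with rfl | rfl
        · exact one_mul 1
        · exact hzz
      have hxC := h.QFC hx
      -- `(c x c⁻¹) r (c x c⁻¹)⁻¹ = ζ r`
      have h5 : (c * x * c⁻¹) * r * (c * x * c⁻¹)⁻¹ = ζ * r := by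
        calc (c * x * c⁻¹) * r * (c * x * c⁻¹)⁻¹ = c * (x * (c⁻¹ * r * c) * x⁻¹) * c⁻¹ := by group
          _ = c * (x * r * (b * x⁻¹)) * c⁻¹ := by rw [hcr]; group
          _ = c * (x * r * (x⁻¹ * b)) * c⁻¹ := by rw [inv_comm' hxb]
          _ = c * ((x * r * x⁻¹) * b) * c⁻¹ := by group
          _ = (c * ζ) * (r * b) * c⁻¹ := by rw [hζ]; group
          _ = ζ * c * (c⁻¹ * r * c) * c⁻¹ := by rw [hζc c hc, hcr]
          _ = ζ * r := by group
      have h6 : x⁻¹ * r * x = ζ * r := by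
        have h7 : x⁻¹ * (ζ * r) * x = r := by rw [← hζ]; group
        calc x⁻¹ * r * x = (ζ * ζ) * (x⁻¹ * r * x) := by rw [hζ2, one_mul]
          _ = ζ * ((ζ * x⁻¹) * r * x) := by group
          _ = ζ * ((x⁻¹ * ζ) * r * x) := by rw [hζc _ (inv_mem hxC)]
          _ = ζ * (x⁻¹ * (ζ * r) * x) := by group
          _ = ζ * r := by rw [h7]
      have h8 : (c * x * c⁻¹ * x⁻¹) * r * (c * x * c⁻¹ * x⁻¹)⁻¹ = r := by
        have hxcC : c * x * c⁻¹ ∈ C := mul_mem (mul_mem hc hxC) (inv_mem hc)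
        calc (c * x * c⁻¹ * x⁻¹) * r * (c * x * c⁻¹ * x⁻¹)⁻¹
            = (c * x * c⁻¹) * (x⁻¹ * r * x) * (c * x * c⁻¹)⁻¹ := by group
          _ = ((c * x * c⁻¹) * ζ) * r * (c * x * c⁻¹)⁻¹ := by rw [h6]; group
          _ = ζ * ((c * x * c⁻¹) * r * (c * x * c⁻¹)⁻¹) := by rw [hζc _ hxcC]; group
          _ = r := by rw [h5, ← mul_assoc, hζ2, one_mul]
      exact (mul_inv_eq_iff_eq_mul.1 h8).symm
    refine h.R_of_comm (mul_mem (h.nQF c hc x hx) (inv_mem hx)) (key a (h.EQs h.aE) h1) (key _ (h.gE h.aE) h2)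
  · exact fun x hx => h.R_B hc h1 h2 hx
  · intro x hx
    rcases h.Bz c hc x hx with h3 | h3
    · rw [h3]; exact one_mem _
    · rw [h3]; exact mem_zpowers z
  · intro x hx
    obtain ⟨k, rfl⟩ := mem_zpowers_iff.1 hx
    have h3 : Commute c z := h.Cz c hc
    exact (h3.zpow_right k).eq

/-- the elements of `R` mod `B` -/
theorem R_cases {x : G} (hx : x ∈ h.R) : ∃ b ∈ B, x = b ∨ x = a * b ∨ x = (g * a * g⁻¹) * b ∨
    x = a * (g * a * g⁻¹) * b := by
  obtain ⟨e, e', he, he', b, hb, hxe⟩ := h.R_dec hx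
  have hgz : g * z * g⁻¹ = z := by rw [h.Cz g h.gC]; group
  have hbC : g * a * g⁻¹ ∈ C := h.RQF.trans h.QFC h.bR
  have k1 : ∃ α ζ : G, (α = 1 ∨ α = a) ∧ ζ ∈ B ∧ (ζ = 1 ∨ ζ = z) ∧ e = α * ζ := by
    rcases he with h1 | h1 | h1 | h1
    · exact ⟨1, 1, Or.inl rfl, one_mem _, Or.inl rfl, by rw [h1, mul_one]⟩
    · exact ⟨1, z, Or.inl rfl, h.zB, Or.inr rfl, by rw [h1, one_mul]⟩
    · exact ⟨a, 1, Or.inr rfl, one_mem _, Or.inl rfl, by rw [h1, mul_one]⟩
    · exact ⟨a, z, Or.inr rfl, h.zB, Or.inr rfl, h1⟩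
  have k2 : ∃ α ζ : G, (α = 1 ∨ α = g * a * g⁻¹) ∧ ζ ∈ B ∧ g * e' * g⁻¹ = α * ζ := by
    rcases he' with h1 | h1 | h1 | h1
    · exact ⟨1, 1, Or.inl rfl, one_mem _, by rw [h1]; group⟩
    · exact ⟨1, z, Or.inl rfl, h.zB, by rw [h1, one_mul, hgz]⟩
    · exact ⟨g * a * g⁻¹, 1, Or.inr rfl, one_mem _, by rw [h1, mul_one]⟩
    · refine ⟨g * a * g⁻¹, z, Or.inr rfl, h.zB, ?_⟩
      calc g * e' * g⁻¹ = (g * a * g⁻¹) * (g * z * g⁻¹) := by rw [h1]; group
        _ = _ := by rw [hgz]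
  obtain ⟨α, ζ, hα, hζB, hζ, rfl⟩ := k1
  obtain ⟨α', ζ', hα', hζB', hζ'⟩ := k2
  have hα'C : α' ∈ C := by
    rcases hα' with h1 | h1
    · rw [h1]; exact one_mem _
    · rw [h1]; exact hbC
  have hζc : ζ * α' = α' * ζ := by
    rcases hζ with h1 | h1
    · rw [h1, one_mul, mul_one]
    · rw [h1]; exact (h.Cz _ hα'C).symm
  have hx2 : x = α * α' * (ζ * ζ' * b) := by
    rw [hxe, hζ']
    calc α * ζ * (α' * ζ') * b = α * (ζ * α') * ζ' * b := by group
      _ = _ := by rw [hζc]; group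
  refine ⟨ζ * ζ' * b, mul_mem (mul_mem hζB hζB') hb, ?_⟩
  rcases hα with h1 | h1 <;> rcases hα' with h2 | h2
  · left; rw [hx2, h1, h2]; group
  · right; right; left; rw [hx2, h1, h2, one_mul]
  · right; left; rw [hx2, h1, h2, mul_one]
  · right; right; right; rw [hx2, h1, h2]

theorem not_a {b : G} (hb : b ∈ B) : a ≠ b := by
  rintro rfl
  rcases h.BE a hb h.aE with h1 | h1
  · exact h.a1 h1
  · exact h.az h1

/-- `g⁻¹ a g ∈ a b B` -/
theorem ginv : ∃ β ∈ B, g⁻¹ * a * g = (g * a * g⁻¹) * a * β := by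
  rcases h.gd.third h.aE h.a1 h.az with h1 | h1
  · exact ⟨1, one_mem _, by rw [h1, mul_one]⟩
  · exact ⟨z, h.zB, h1⟩

/-- **an element of `C` fixing `a B` is in `Q ∪ v Q`** -/
theorem fix_a [Finite G] {c : G} (hc : c ∈ C) (h1 : c * a * c⁻¹ * a⁻¹ ∈ B) : c ∈ Q ∨ v * c ∈ Q := by
  have hbR := h.nR c hc _ h.bR
  have hbC : g * a * g⁻¹ ∈ C := h.RQF.trans h.QFC h.bR
  have haC := h.EC h.aE
  obtain ⟨b, hb, h2⟩ := h.R_cases hbR
  rcases h2 with h2 | h2 | h2 | h2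
  · exfalso
    have h3 : a = (c * g)⁻¹ * b * (c * g) := by rw [← h2]; group
    exact h.not_a (h.gi h.nB (mul_mem hc h.gC) hb) h3
  · exfalso
    -- `a⁻¹ (g a g⁻¹) ∈ B`
    have h4 : a⁻¹ * (g * a * g⁻¹) = c⁻¹ * ((c * a * c⁻¹)⁻¹ * (c * (g * a * g⁻¹) * c⁻¹)) * c := by group
    have h5 : (c * a * c⁻¹)⁻¹ * (c * (g * a * g⁻¹) * c⁻¹) ∈ B := by
      have h6 : (c * a * c⁻¹)⁻¹ * (c * (g * a * g⁻¹) * c⁻¹) =
          a⁻¹ * (c * a * c⁻¹ * a⁻¹)⁻¹ * a * b := by rw [h2]; group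
      rw [h6]
      exact mul_mem (h.gi h.nB haC (inv_mem h1)) hb
    have h7 : a⁻¹ * (g * a * g⁻¹) ∈ B := by rw [h4]; exact h.gi h.nB hc h5
    obtain ⟨h8, -⟩ := h.dir (inv_mem h.aE) h.aE h7 rfl
    rw [inv_eq_one, h.gd.Einv h.aE] at h8
    exact h8.elim h.a1 h.az
  · left
    refine h.mem_Q_of_J hc h1 ?_
    rw [h2]
    exact h.nB _ hbC _ hb
  · right
    obtain ⟨β, hβ, h3⟩ := h.ginv
    have hva : v * a * v⁻¹ = a := by rw [h.gd.vE a h.aE]; group
    have hvb : v * (g * a * g⁻¹) * v⁻¹ = (g * a * g⁻¹) * a * β := by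
      rw [h.gd.conj_v h.aE, h3]
    refine h.mem_Q_of_J (mul_mem h.vC hc) ?_ ?_
    · have h4 : v * c * a * (v * c)⁻¹ * a⁻¹ = v * (c * a * c⁻¹ * a⁻¹) * v⁻¹ * (v * a * v⁻¹ * a⁻¹) := by group
      rw [h4, hva, mul_inv_cancel, mul_one]
      exact h.nB v h.vC _ h1
    · have h4 : v * c * (g * a * g⁻¹) * (v * c)⁻¹ = (g * a * g⁻¹) * (β * (v * b * v⁻¹)) := by
        calc v * c * (g * a * g⁻¹) * (v * c)⁻¹ = v * (c * (g * a * g⁻¹) * c⁻¹) * v⁻¹ := by group
          _ = (v * a * v⁻¹) * (v * (g * a * g⁻¹) * v⁻¹) * (v * b * v⁻¹) := by rw [h2]; group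
          _ = a * ((g * a * g⁻¹) * a) * β * (v * b * v⁻¹) := by rw [hva, hvb]; group
          _ = (a * a) * (g * a * g⁻¹) * (β * (v * b * v⁻¹)) := by rw [← h.ab]; group
          _ = _ := by rw [h.aa, one_mul]
      rw [h4]
      exact h.nB _ hbC _ (mul_mem hβ (h.nB v h.vC b hb))

/-- **`C = {1, g, g⁻¹} {1, v} Q`** -/
theorem all [Finite G] {c : G} (hc : c ∈ C) :
    ∃ k : G, (k = 1 ∨ k = g ∨ k = g⁻¹) ∧ (k * c ∈ Q ∨ v * (k * c) ∈ Q) := by
  have haC := h.EC h.aE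
  obtain ⟨b, hb, h2⟩ := h.R_cases (h.nR c hc _ h.aR)
  rcases h2 with h2 | h2 | h2 | h2
  · exfalso
    have h3 : a = c⁻¹ * b * c := by rw [← h2]; group
    exact h.not_a (h.gi h.nB hc hb) h3
  · refine ⟨1, Or.inl rfl, ?_⟩
    rw [one_mul]
    refine h.fix_a hc ?_
    rw [h2]
    exact h.nB a haC b hb
  · refine ⟨g⁻¹, Or.inr (Or.inr rfl), h.fix_a (mul_mem (inv_mem h.gC) hc) ?_⟩
    have h3 : g⁻¹ * c * a * (g⁻¹ * c)⁻¹ * a⁻¹ = a * (g⁻¹ * b * g) * a⁻¹ := by
      calc g⁻¹ * c * a * (g⁻¹ * c)⁻¹ * a⁻¹ = g⁻¹ * (c * a * c⁻¹) * g * a⁻¹ := by group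
        _ = _ := by rw [h2]; group
    rw [h3]
    exact h.nB a haC _ (h.gi h.nB h.gC hb)
  · refine ⟨g, Or.inr (Or.inl rfl), h.fix_a (mul_mem h.gC hc) ?_⟩
    have hw : (g * a * g⁻¹) * (g * a * g⁻¹) = 1 := h.gd.sq_conj h.aE
    have hgz : g * z * g⁻¹ = z := by rw [h.Cz g h.gC]; group
    obtain ⟨ζ, hζ, h4⟩ : ∃ ζ ∈ B, g * h.gd.tau a * g⁻¹ = (g * a * g⁻¹) * ζ := by
      rcases h.gd.tau_eq h.aE h.a1 h.az with h5 | h5
      · exact ⟨1, one_mem _, by rw [h5, mul_one]⟩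
      · refine ⟨z, h.zB, ?_⟩
        rw [h5]
        calc g * (a * z) * g⁻¹ = (g * a * g⁻¹) * (g * z * g⁻¹) := by group
          _ = _ := by rw [hgz]
    have h3 : g * c * a * (g * c)⁻¹ * a⁻¹ = ζ * (a * (g * b * g⁻¹) * a⁻¹) := by
      calc g * c * a * (g * c)⁻¹ * a⁻¹ = g * (c * a * c⁻¹) * g⁻¹ * a⁻¹ := by group
        _ = (g * a * g⁻¹) * (g * g * a * (g * g)⁻¹) * (g * b * g⁻¹) * a⁻¹ := by rw [h2]; group
        _ = (g * a * g⁻¹) * ((g * a * g⁻¹) * ζ * a) * (g * b * g⁻¹) * a⁻¹ := by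
            rw [h.gd.conj_sq h.aE, h4]
        _ = ((g * a * g⁻¹) * (g * a * g⁻¹)) * ζ * (a * (g * b * g⁻¹) * a⁻¹) := by group
        _ = _ := by rw [hw, one_mul]
    rw [h3]
    exact mul_mem hζ (h.nB a haC _ (h.nB g h.gC b hb))

/-- `Qs = E^g E` -/
theorem Qs_W [Finite G] (gen : Qs ≤ closure {x | ∃ c ∈ C, ∃ e ∈ E, x = c * e * c⁻¹}) {x : G} (hx : x ∈ Qs) :
    ∃ e' ∈ E, ∃ e ∈ E, x = (g * e' * g⁻¹) * e := by
  have hW : ∀ {x}, x ∈ E.map (MulAut.conj g).toMonoidHom ⊔ E ↔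
      ∃ a ∈ E.map (MulAut.conj g).toMonoidHom, ∃ b ∈ E, x = a * b := fun {x} => by
    refine mem_sup_iff ?_
    rintro _ ⟨e, he, rfl⟩ b hb
    exact h.nE _ (h.QFQ (h.QsQF (h.gE he))) b hb
  have h1 : ∀ e ∈ E, g * e * g⁻¹ ∈ E.map (MulAut.conj g).toMonoidHom := fun e he => ⟨e, he, rfl⟩
  have h2 : Qs ≤ E.map (MulAut.conj g).toMonoidHom ⊔ E := by
    refine gen.trans ((closure_le _).2 ?_)
    rintro _ ⟨c, hc, e, he, rfl⟩
    obtain ⟨k, hk, hkc⟩ := h.all hc
    obtain ⟨e₁, he₁, h3⟩ : ∃ e₁ ∈ E, c * e * c⁻¹ = k⁻¹ * e₁ * k := by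
      rcases hkc with h4 | h4
      · exact ⟨_, h.nE _ h4 e he, by group⟩
      · refine ⟨_, h.nE _ h4 e he, ?_⟩
        have h5 := h.nE _ h4 e he
        have h6 : v⁻¹ * ((v * (k * c)) * e * (v * (k * c))⁻¹) * v = (v * (k * c)) * e * (v * (k * c))⁻¹ := by
          have h7 := h.gd.vE _ h5
          rw [mul_assoc, ← h7]; group
        rw [← h6]; group
    rw [SetLike.mem_coe, h3]
    rcases hk with rfl | rfl | rfl
    · rw [inv_one, one_mul, mul_one]; exact mem_sup_right he₁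
    · by_cases h4 : e₁ = 1
      · subst h4
        rw [mul_one, inv_mul_cancel]; exact one_mem _
      by_cases h5 : e₁ = z
      · subst h5
        have : k⁻¹ * e₁ * k = e₁ := by rw [mul_assoc, ← h.Cz k h.gC]; group
        rw [this]; exact mem_sup_right he₁
      rcases h.gd.third he₁ h4 h5 with h6 | h6
      · rw [h6]; exact mul_mem (mem_sup_left (h1 _ he₁)) (mem_sup_right he₁)
      · rw [h6]
        exact mul_mem (mul_mem (mem_sup_left (h1 _ he₁)) (mem_sup_right he₁)) (mem_sup_right h.gd.zE)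
    · rw [inv_inv]; exact mem_sup_left (h1 _ he₁)
  obtain ⟨_, ⟨e', he', rfl⟩, e, he, rfl⟩ := hW.1 (h2 hx)
  exact ⟨e', he', e, he, rfl⟩

/-- `C_Qs(E) = E` -/
theorem Qs_cent [Finite G] (gen : Qs ≤ closure {x | ∃ c ∈ C, ∃ e ∈ E, x = c * e * c⁻¹}) {x : G} (hx : x ∈ Qs)
    (hxE : ∀ e ∈ E, x * e = e * x) : x ∈ E := by
  obtain ⟨e', he', e, he, rfl⟩ := h.Qs_W gen hx
  have h1 : ∀ u ∈ E, u * (g * e' * g⁻¹) = (g * e' * g⁻¹) * u := by
    intro u hu
    have h2 := hxE u hu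
    have h3 : (g * e' * g⁻¹) * u * e = u * (g * e' * g⁻¹) * e := by
      calc (g * e' * g⁻¹) * u * e = (g * e' * g⁻¹) * e * u := by rw [mul_assoc, h.gd.Eab u hu e he, ← mul_assoc]
        _ = _ := by rw [h2]; group
    exact (mul_right_cancel h3).symm
  rcases h.gd.ff e' he' h1 with rfl | rfl
  · rw [mul_one, mul_inv_cancel, one_mul]; exact he
  · rw [h.Cz g h.gC, mul_inv_cancel_right]; exact mul_mem he' he

end SevD

end Cfsg.Agent.Omega.NOne.AG.Seven

end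

section


/-!
# N1, type (γ): `|V / E| = 2` (bb #14731, helper537 (1)-(3)): the group theory in `C`

`Y = ⟨E^C⟩ ≤ Z(Q)`, `E = ⟨z, e₀⟩`; `v₁`, `v₂` act on `Y` as transvections with centres `z e₀`, `e₀`, and
`w = v₁ v₂ ∉ Q = O₂(C)`.  By Baer-Suzuki some `w^g` satisfies the braid relation with `v₁` or `v₂` on `Y / ⟨z⟩`,
so `w^g` is conjugate to `v_i` modulo `Q`: contradiction (`|[Y, w]| = 4`).
-/

set_option autoImplicit false

namespace Cfsg.Agent.Omega.NOne.AG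

open Subgroup Cfsg Cfsg.Agent.ZN

universe u

section words

variable {H : Type*} [Group H]

theorem braid (a b : H ≃* H) {e e' y : H} (ee : e * e = 1) (ee' : e' * e' = 1) (c : e' * e = e * e')
    (ae : a e = e) (be' : b e' = e') (ae' : a e' = e * e') (be : b e = e' * e)
    (ay : a y = y ∨ a y = e * y) (hb : b y = y ∨ b y = e' * y) : a (b (a y)) = b (a (b y)) := by
  have r1 : ∀ x, e * (e * x) = x := fun x => by rw [← mul_assoc, ee, one_mul]
  have r2 : ∀ x, e' * (e' * x) = x := fun x => by rw [← mul_assoc, ee', one_mul]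
  have r3 : ∀ x, e' * (e * x) = e * (e' * x) := fun x => by rw [← mul_assoc, c, mul_assoc]
  rcases ay with ay | ay <;> rcases hb with hb | hb <;>
    simp only [ay, hb, map_mul, ae, be', ae', be, mul_assoc, r1, r2, r3]

theorem four (a b : H ≃* H) {e e' y : H} (ee : e * e = 1) (ee' : e' * e' = 1) (c : e' * e = e * e')
    (ae : a e = e) (be' : b e' = e') (be : b e = e) (ae' : a e' = e' ∨ a e' = e * e')
    (ay : a y = y ∨ a y = e * y) (hb : b y = y ∨ b y = e' * y) :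
    a (b (a (b (a (b (a (b y))))))) = y := by
  have r1 : ∀ x, e * (e * x) = x := fun x => by rw [← mul_assoc, ee, one_mul]
  have r2 : ∀ x, e' * (e' * x) = x := fun x => by rw [← mul_assoc, ee', one_mul]
  have r3 : ∀ x, e' * (e * x) = e * (e' * x) := fun x => by rw [← mul_assoc, c, mul_assoc]
  rcases ay with ay | ay <;> rcases hb with hb | hb <;> rcases ae' with ae' | ae' <;>
    simp only [ay, hb, map_mul, ae, be', ae', be, mul_assoc, r1, r2, r3]

end words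

variable {G : Type u} [Group G]

/-- The data. -/
structure IdxD (C Q Y : Subgroup G) (z e₀ v₁ v₂ : G) : Prop where
  Qo2 : Q = o2 C
  char2 : ∀ c ∈ C, (∀ x ∈ Q, c * x = x * c) → c ∈ Q
  Cz : ∀ c ∈ C, c * z = z * c
  z2 : z * z = 1
  z1 : z ≠ 1
  zY : z ∈ Y
  YQ : Y ≤ Q
  QY : ∀ x ∈ Q, ∀ y ∈ Y, x * y = y * x
  nY : C ≤ normalizer (Y : Set G)
  v1C : v₁ ∈ C
  v2C : v₂ ∈ C
  sq1 : v₁ * v₁ = 1
  sq2 : v₂ * v₂ = 1
  cv : v₁ * v₂ = v₂ * v₁
  QV1 : ∀ x ∈ Q, v₁ * x * v₁⁻¹ * x⁻¹ ∈ Y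
  QV2 : ∀ x ∈ Q, v₂ * x * v₂⁻¹ * x⁻¹ ∈ Y
  e0Y : e₀ ∈ Y
  e02 : e₀ * e₀ = 1
  ev1 : v₁ * e₀ = e₀ * v₁
  ev2 : v₂ * e₀ = e₀ * v₂
  t1 : ∀ y ∈ Y, v₁ * y * v₁⁻¹ = y ∨ v₁ * y * v₁⁻¹ = z * e₀ * y
  t2 : ∀ y ∈ Y, v₂ * y * v₂⁻¹ = y ∨ v₂ * y * v₂⁻¹ = e₀ * y
  y1 : ∃ y ∈ Y, v₁ * y * v₁⁻¹ = z * e₀ * y ∧ v₂ * y * v₂⁻¹ = y
  y2 : ∃ y ∈ Y, v₁ * y * v₁⁻¹ = y ∧ v₂ * y * v₂⁻¹ = e₀ * y

namespace IdxD

variable {C Q Y : Subgroup G} {z e₀ v₁ v₂ : G} (h : IdxD C Q Y z e₀ v₁ v₂)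
include h

theorem nQ : C ≤ normalizer (Q : Set G) := by rw [h.Qo2]; exact le_normalizer_o2 _

theorem YC : Y ≤ C := h.YQ.trans (by rw [h.Qo2]; exact o2_le _)

theorem Yz {y : G} (hy : y ∈ Y) : y * z = z * y := h.Cz y (h.YC hy)

/-- (1) -/
theorem K2 [Finite G] {c : G} (hc : c ∈ C) (h1 : ∀ x ∈ Q, c * x * c⁻¹ * x⁻¹ ∈ Y)
    (h2 : ∀ y ∈ Y, Eqz z (c * y * c⁻¹) y) : c ∈ Q := by
  have hzn : ∀ c ∈ C, ∀ k ∈ zpowers z, c * k * c⁻¹ = k := by
    rintro c hc _ ⟨n, rfl⟩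
    have h1 : Commute c z := h.Cz c hc
    change c * z ^ n * c⁻¹ = z ^ n
    rw [(h1.zpow_right n).eq]; group
  let N : ℕ → Subgroup G := fun k => match k with
    | 0 => Q
    | 1 => Y
    | 2 => zpowers z
    | _ + 3 => ⊥
  rw [h.Qo2]
  refine chain_mem (C := C) (by rw [← h.Qo2]; exact h.char2) 3 N h.Qo2 rfl ?_ ?_ hc ?_
  · intro k
    match k with
    | 0 => exact h.nQ
    | 1 => exact h.nY
    | 2 =>
      refine le_norm_of fun c hc x hx => ?_
      change c * x * c⁻¹ ∈ zpowers z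
      rw [hzn c hc x hx]; exact hx
    | _ + 3 =>
      refine le_norm_of fun c hc x hx => ?_
      change c * x * c⁻¹ ∈ (⊥ : Subgroup G)
      rw [mem_bot.1 hx]; simp
  · intro k
    match k with
    | 0 => exact h.YQ
    | 1 => exact (zpowers_le).2 h.zY
    | 2 => exact bot_le
    | _ + 3 => exact le_rfl
  · intro k
    match k with
    | 0 => exact h1
    | 1 =>
      intro x hx
      change c * x * c⁻¹ * x⁻¹ ∈ zpowers z
      rcases h2 x hx with h3 | h3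
      · rw [h3, mul_inv_cancel]; exact one_mem _
      · rw [h3, mul_inv_cancel_right]; exact mem_zpowers z
    | 2 =>
      intro x hx
      change c * x * c⁻¹ * x⁻¹ ∈ (⊥ : Subgroup G)
      rw [hzn c hc x hx, mul_inv_cancel]; exact one_mem _
    | _ + 3 =>
      intro x hx
      change c * x * c⁻¹ * x⁻¹ ∈ (⊥ : Subgroup G)
      rw [mem_bot.1 hx]; simp

/-- the centraliser of `Q / Y` in `C` -/
def L (_h : IdxD C Q Y z e₀ v₁ v₂) : Subgroup G where
  carrier := {c | c ∈ C ∧ ∀ x ∈ Q, c * x * c⁻¹ * x⁻¹ ∈ Y}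
  one_mem' := ⟨one_mem _, fun x _ => by simp⟩
  mul_mem' := by
    rintro a b ⟨ha0, ha⟩ ⟨hb0, hb⟩
    refine ⟨mul_mem ha0 hb0, fun x hx => ?_⟩
    have e : a * b * x * (a * b)⁻¹ * x⁻¹ = (a * (b * x * b⁻¹ * x⁻¹) * a⁻¹) * (a * x * a⁻¹ * x⁻¹) := by
      group
    rw [e]
    exact mul_mem (norm_conj _h.nY ha0 (hb x hx)) (ha x hx)
  inv_mem' := by
    rintro a ⟨ha0, ha⟩
    refine ⟨inv_mem ha0, fun x hx => ?_⟩
    have e : a⁻¹ * x * a⁻¹⁻¹ * x⁻¹ = a⁻¹ * (a * x * a⁻¹ * x⁻¹)⁻¹ * a⁻¹⁻¹ := by group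
    rw [e]
    exact norm_conj _h.nY (inv_mem ha0) (inv_mem (ha x hx))

theorem L_conj {c x : G} (hc : c ∈ C) (hx : x ∈ h.L) : c * x * c⁻¹ ∈ h.L := by
  refine ⟨mul_mem (mul_mem hc hx.1) (inv_mem hc), fun y hy => ?_⟩
  have h1 := norm_conj h.nY hc (hx.2 _ (norm_conj h.nQ (inv_mem hc) hy))
  have e : c * x * c⁻¹ * y * (c * x * c⁻¹)⁻¹ * y⁻¹ =
      c * (x * (c⁻¹ * y * c⁻¹⁻¹) * x⁻¹ * (c⁻¹ * y * c⁻¹⁻¹)⁻¹) * c⁻¹ := by group
  rw [e]; exact h1

theorem v1L : v₁ ∈ h.L := ⟨h.v1C, h.QV1⟩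

theorem v2L : v₂ ∈ h.L := ⟨h.v2C, h.QV2⟩

/-- **(3)** -/
theorem false [Finite G] (hw : v₁ * v₂ ∉ Q) : False := by
  set w := v₁ * v₂ with hwd
  have hwL : w ∈ h.L := mul_mem h.v1L h.v2L
  have hwC : w ∈ C := hwL.1
  have hw2 : w * w = 1 := by
    calc w * w = v₁ * (v₂ * v₁) * v₂ := by rw [hwd]; group
      _ = v₁ * (v₁ * v₂) * v₂ := by rw [h.cv]
      _ = (v₁ * v₁) * (v₂ * v₂) := by group
      _ = 1 := by rw [h.sq1, h.sq2, one_mul]
  -- Baer–Suzuki
  obtain ⟨g, hgC, hg1, hgo, hgv⟩ : ∃ g ∈ C, g ≠ 1 ∧ Odd (orderOf g) ∧ w * g * w⁻¹ = g⁻¹ := by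
    have h1 : ¬ IsPGroup 2 (Subgroup.normalClosure {(⟨w, hwC⟩ : C)} : Subgroup C) := by
      intro hp
      apply hw
      rw [h.Qo2]
      have h2 : (Subgroup.normalClosure {(⟨w, hwC⟩ : C)}).map C.subtype ≤ o2 C := by
        refine Cfsg.Agent.MinSimple.VModule.le_o2 ?_ (hp.map _) ?_
        · rintro _ ⟨x, -, rfl⟩; exact x.2
        · refine le_norm_of ?_
          rintro c hc _ ⟨x, hx, rfl⟩
          exact ⟨⟨c, hc⟩ * x * ⟨c, hc⟩⁻¹, Subgroup.Normal.conj_mem inferInstance x hx _, rfl⟩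
      exact h2 ⟨⟨w, hwC⟩, Subgroup.subset_normalClosure rfl, rfl⟩
    obtain ⟨g, hg1, hgo, hgv⟩ := Involutions.BaerSuzuki.exists_odd_inverted (⟨w, hwC⟩ : C)
      (Subtype.ext hw2) h1
    refine ⟨g, g.2, fun hc => hg1 (Subtype.ext hc), ?_, congrArg Subtype.val hgv⟩
    rwa [Subgroup.orderOf_coe]
  set w' := g * w * g⁻¹ with hw'
  have hw'L : w' ∈ h.L := h.L_conj hgC hwL
  have hw'C : w' ∈ C := hw'L.1
  have hww : w * w' = g⁻¹ * g⁻¹ := by
    calc w * w' = w * g * w⁻¹ * (w * w) * g⁻¹ := by rw [hw']; group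
      _ = g⁻¹ * g⁻¹ := by rw [hgv, hw2, mul_one]
  set e' := g * e₀ * g⁻¹ with he'
  have he'Y : e' ∈ Y := norm_conj h.nY hgC h.e0Y
  -- the quotient
  let zC : C := ⟨z, h.YC h.zY⟩
  have hzc : ∀ c : C, c * zC = zC * c := fun c => Subtype.ext (h.Cz c c.2)
  have hN : (zpowers zC).Normal := ⟨by
    rintro _ ⟨n, rfl⟩ c
    have h1 : Commute c zC := hzc c
    change c * zC ^ n * c⁻¹ ∈ _
    rw [(h1.zpow_right n).eq, mul_inv_cancel_right]
    exact ⟨n, rfl⟩⟩
  let π : C →* C ⧸ zpowers zC := QuotientGroup.mk' _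
  have hπ : ∀ a b : C, π a = π b ↔ Eqz z (a : G) b := by
    intro a b
    have hz2 : zC * zC = 1 := Subtype.ext h.z2
    have h2 : zC ^ (2 : ℤ) = 1 := by rw [zpow_two, hz2]
    have h0 : π a = π b ↔ a⁻¹ * b ∈ zpowers zC := QuotientGroup.eq
    have h01 : a⁻¹ * b ∈ zpowers zC ↔ a⁻¹ * b = 1 ∨ a⁻¹ * b = zC := by
      constructor
      · rintro ⟨k, hk⟩
        have hk' : zC ^ k = a⁻¹ * b := hk
        rcases Int.even_or_odd' k with ⟨m, hm | hm⟩
        · rw [hm, zpow_mul, h2, one_zpow] at hk'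
          exact Or.inl hk'.symm
        · rw [hm, zpow_add, zpow_mul, h2, one_zpow, one_mul, zpow_one] at hk'
          exact Or.inr hk'.symm
      · rintro (h3 | h3)
        · rw [h3]; exact one_mem _
        · rw [h3]; exact mem_zpowers _
    rw [h0, h01, inv_mul_eq_one, inv_mul_eq_iff_eq_mul]
    constructor
    · rintro (h3 | h3)
      · exact Or.inl (congrArg Subtype.val h3)
      · right
        have h4 : (b : G) = a * z := congrArg Subtype.val h3
        rw [h4, h.Cz _ a.2, ← mul_assoc, h.z2, one_mul]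
    · rintro (h3 | h3)
      · exact Or.inl (Subtype.ext h3)
      · right
        apply Subtype.ext
        change (b : G) = a * z
        rw [h3, mul_assoc, h.Cz _ b.2, ← mul_assoc, h.z2, one_mul]
  have hcj : ∀ c x : C, MulAut.conj (π c) (π x) = π (c * x * c⁻¹) := by
    intro c x
    rw [MulAut.conj_apply, map_mul, map_mul, map_inv]
  let ce : C := ⟨e₀, h.YC h.e0Y⟩
  let ce' : C := ⟨e', h.YC he'Y⟩
  let cw : C := ⟨w, hwC⟩
  let cw' : C := ⟨w', hw'C⟩
  have hee : π ce * π ce = 1 := by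
    rw [← map_mul, show ce * ce = 1 from Subtype.ext h.e02, map_one]
  have he'2 : e' * e' = 1 := by
    calc e' * e' = g * (e₀ * e₀) * g⁻¹ := by rw [he']; group
      _ = 1 := by rw [h.e02]; group
  have hee' : π ce' * π ce' = 1 := by
    rw [← map_mul, show ce' * ce' = 1 from Subtype.ext he'2, map_one]
  have hc0 : e' * e₀ = e₀ * e' := h.QY e' (h.YQ he'Y) e₀ h.e0Y
  have hc1 : π ce' * π ce = π ce * π ce' := by
    rw [← map_mul, ← map_mul, show ce' * ce = ce * ce' from Subtype.ext hc0]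
  have hconjY : ∀ {c y : G}, c ∈ C → y ∈ Y → c * y * c⁻¹ ∈ Y := fun hc hy => norm_conj h.nY hc hy
  -- (S1)
  have S1 : ∀ y ∈ Y, Eqz z (w * y * w⁻¹) y ∨ Eqz z (w * y * w⁻¹) (e₀ * y) := by
    intro y hy
    have e1 : w * y * w⁻¹ = v₁ * (v₂ * y * v₂⁻¹) * v₁⁻¹ := by rw [hwd]; group
    have e2 : v₁ * (e₀ * y) * v₁⁻¹ = e₀ * (v₁ * y * v₁⁻¹) := by
      calc v₁ * (e₀ * y) * v₁⁻¹ = (v₁ * e₀) * y * v₁⁻¹ := by group
        _ = e₀ * (v₁ * y * v₁⁻¹) := by rw [h.ev1]; group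
    have hze : e₀ * z = z * e₀ := h.Yz h.e0Y
    rcases h.t2 y hy with h2 | h2 <;> rcases h.t1 y hy with h1 | h1
    · left; left; rw [e1, h2, h1]
    · right; right; rw [e1, h2, h1, mul_assoc]
    · right; left; rw [e1, h2, e2, h1]
    · left; right
      rw [e1, h2, e2, h1, mul_assoc z, ← mul_assoc e₀ z, hze, mul_assoc z, ← mul_assoc e₀ e₀, h.e02,
        one_mul]
  have S2 : ∀ y ∈ Y, Eqz z (w' * y * w'⁻¹) y ∨ Eqz z (w' * y * w'⁻¹) (e' * y) := by
    intro y hy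
    have hy0 : g⁻¹ * y * g⁻¹⁻¹ ∈ Y := hconjY (inv_mem hgC) hy
    have e1 : w' * y * w'⁻¹ = g * (w * (g⁻¹ * y * g⁻¹⁻¹) * w⁻¹) * g⁻¹ := by rw [hw']; group
    rcases S1 _ hy0 with h1 | h1
    · left
      have h2 := h1.conj (h.Cz g hgC)
      rw [← e1] at h2
      exact h2.of_eq_right (by group)
    · right
      have h2 := h1.conj (h.Cz g hgC)
      rw [← e1] at h2
      exact h2.of_eq_right (by rw [he']; group)
  have hwe : w * e₀ * w⁻¹ = e₀ := by
    have e1 : w * e₀ * w⁻¹ = v₁ * (v₂ * e₀) * v₂⁻¹ * v₁⁻¹ := by rw [hwd]; group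
    rw [e1, h.ev2]
    calc v₁ * (e₀ * v₂) * v₂⁻¹ * v₁⁻¹ = (v₁ * e₀) * v₁⁻¹ := by group
      _ = e₀ := by rw [h.ev1]; group
  have hw'e' : w' * e' * w'⁻¹ = e' := by
    calc w' * e' * w'⁻¹ = g * (w * e₀ * w⁻¹) * g⁻¹ := by rw [hw', he']; group
      _ = e' := by rw [hwe]
  -- `x^4` is not in `Q`
  have hodd : ∀ {x : G}, x ∈ C → x ≠ 1 → Odd (orderOf x) → x * (x * (x * x)) ∈ Q → False := by
    intro x hx hx1 hxo hxQ
    have e1 : x * (x * (x * x)) = x ^ (2 ^ 2) := by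
      rw [show (2 : ℕ) ^ 2 = 3 + 1 from rfl, pow_succ', pow_succ', pow_two]
    rw [e1] at hxQ
    have hpQ : IsPGroup 2 Q := by rw [h.Qo2]; exact MinSimple.VModule.o2_isPGroup C
    obtain ⟨m, hm⟩ := LemmaT.exists_pow_eq_one hpQ
    have h2 := hm _ hxQ
    rw [← pow_mul, ← pow_add] at h2
    have h3 : orderOf x ∣ 2 ^ (2 + m) := orderOf_dvd_of_pow_eq_one h2
    have h5 : Nat.Coprime (orderOf x) (2 ^ (2 + m)) := hxo.coprime_two_right.pow_right _
    exact hx1 (orderOf_eq_one_iff.1 (Nat.Coprime.eq_one_of_dvd h5 h3))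
  have hgg : g * g ≠ 1 := by
    intro hc
    have h3 : orderOf g ∣ 2 := orderOf_dvd_of_pow_eq_one (by rw [pow_two, hc])
    exact hg1 (orderOf_eq_one_iff.1 (Nat.Coprime.eq_one_of_dvd hgo.coprime_two_right h3))
  have hoo : Odd (orderOf (g * g)) := by
    rw [← pow_two]
    exact hgo.of_dvd_nat (orderOf_pow_dvd 2)
  have hxL : w * w' ∈ h.L := mul_mem hwL hw'L
  have hxL' : w' * w ∈ h.L := mul_mem hw'L hwL
  have hx1 : w * w' ≠ 1 := by
    rw [hww, ← mul_inv_rev]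
    exact inv_ne_one.2 hgg
  have hxo : Odd (orderOf (w * w')) := by
    rw [hww, ← mul_inv_rev, orderOf_inv]
    exact hoo
  have hx' : w' * w = (w * w')⁻¹ := by
    have e1 : w⁻¹ = w := inv_eq_of_mul_eq_one_left hw2
    have e2 : w'⁻¹ = w' := by
      calc w'⁻¹ = g * w⁻¹ * g⁻¹ := by rw [hw', mul_inv_rev, mul_inv_rev, inv_inv, mul_assoc]
        _ = w' := by rw [e1]
    rw [mul_inv_rev, e1, e2]
  have hx1' : w' * w ≠ 1 := by rw [hx']; exact inv_ne_one.2 hx1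
  have hxo' : Odd (orderOf (w' * w)) := by rw [hx', orderOf_inv]; exact hxo
  -- translation
  have tr : ∀ {c y ε : G} (hc : c ∈ C) (hy : y ∈ Y) (hε : ε ∈ Y), Eqz z (c * y * c⁻¹) (ε * y) →
      MulAut.conj (π ⟨c, hc⟩) (π ⟨y, h.YC hy⟩) = π ⟨ε, h.YC hε⟩ * π ⟨y, h.YC hy⟩ := by
    intro c y ε hc hy hε h1
    rw [hcj, ← map_mul, hπ]
    exact h1
  have tr1 : ∀ {c y : G} (hc : c ∈ C) (hy : y ∈ Y), Eqz z (c * y * c⁻¹) y →
      MulAut.conj (π ⟨c, hc⟩) (π ⟨y, h.YC hy⟩) = π ⟨y, h.YC hy⟩ := by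
    intro c y hc hy h1
    rw [hcj, hπ]
    exact h1
  -- Case A
  by_cases hA : Eqz z (w' * e₀ * w'⁻¹) e₀
  · refine hodd hxL.1 hx1 hxo (h.K2 ?_ ?_ ?_)
    · exact mul_mem hxL.1 (mul_mem hxL.1 (mul_mem hxL.1 hxL.1))
    · exact (mul_mem hxL (mul_mem hxL (mul_mem hxL hxL))).2
    · intro y hy
      have h1 := four (MulAut.conj (π cw)) (MulAut.conj (π cw')) (e := π ce) (e' := π ce')
        (y := π ⟨y, h.YC hy⟩) hee hee' hc1 (tr1 hwC h.e0Y (Or.inl hwe)) (tr1 hw'C he'Y (Or.inl hw'e'))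
        (tr1 hw'C h.e0Y hA)
        ((S1 e' he'Y).imp (fun h2 => tr1 hwC he'Y h2) (fun h2 => tr hwC he'Y h.e0Y h2))
        ((S1 y hy).imp (fun h2 => tr1 hwC hy h2) (fun h2 => tr hwC hy h.e0Y h2))
        ((S2 y hy).imp (fun h2 => tr1 hw'C hy h2) (fun h2 => tr hw'C hy he'Y h2))
      have h2 : π ((cw * cw') * ((cw * cw') * ((cw * cw') * (cw * cw'))) * ⟨y, h.YC hy⟩ *
          ((cw * cw') * ((cw * cw') * ((cw * cw') * (cw * cw'))))⁻¹) = π ⟨y, h.YC hy⟩ := by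
        rw [← hcj]
        simp only [map_mul, MulAut.mul_apply]
        exact h1
      exact (hπ _ _).1 h2
  by_cases hB : Eqz z (w * e' * w⁻¹) e'
  · refine hodd hxL'.1 hx1' hxo' (h.K2 ?_ ?_ ?_)
    · exact mul_mem hxL'.1 (mul_mem hxL'.1 (mul_mem hxL'.1 hxL'.1))
    · exact (mul_mem hxL' (mul_mem hxL' (mul_mem hxL' hxL'))).2
    · intro y hy
      have h1 := four (MulAut.conj (π cw')) (MulAut.conj (π cw)) (e := π ce') (e' := π ce)
        (y := π ⟨y, h.YC hy⟩) hee' hee hc1.symm (tr1 hw'C he'Y (Or.inl hw'e'))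
        (tr1 hwC h.e0Y (Or.inl hwe))
        (tr1 hwC he'Y hB)
        ((S2 e₀ h.e0Y).imp (fun h2 => tr1 hw'C h.e0Y h2) (fun h2 => tr hw'C h.e0Y he'Y h2))
        ((S2 y hy).imp (fun h2 => tr1 hw'C hy h2) (fun h2 => tr hw'C hy he'Y h2))
        ((S1 y hy).imp (fun h2 => tr1 hwC hy h2) (fun h2 => tr hwC hy h.e0Y h2))
      have h2 : π ((cw' * cw) * ((cw' * cw) * ((cw' * cw) * (cw' * cw))) * ⟨y, h.YC hy⟩ *
          ((cw' * cw) * ((cw' * cw) * ((cw' * cw) * (cw' * cw))))⁻¹) = π ⟨y, h.YC hy⟩ := by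
        rw [← hcj]
        simp only [map_mul, MulAut.mul_apply]
        exact h1
      exact (hπ _ _).1 h2
  -- Case C: the braid relation
  have hA' : Eqz z (w' * e₀ * w'⁻¹) (e' * e₀) := (S2 e₀ h.e0Y).resolve_left hA
  -- `[Y, w] > 2`
  obtain ⟨y₁, hy₁, a1, a2⟩ := h.y1
  obtain ⟨y₂, hy₂, b1, b2⟩ := h.y2
  have e1 : w * y₁ * w⁻¹ = z * e₀ * y₁ := by
    calc w * y₁ * w⁻¹ = v₁ * (v₂ * y₁ * v₂⁻¹) * v₁⁻¹ := by rw [hwd]; group
      _ = z * e₀ * y₁ := by rw [a2, a1]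
  have e2 : w * y₂ * w⁻¹ = e₀ * y₂ := by
    calc w * y₂ * w⁻¹ = v₁ * (v₂ * y₂ * v₂⁻¹) * v₁⁻¹ := by rw [hwd]; group
      _ = (v₁ * e₀) * y₂ * v₁⁻¹ := by rw [b2]; group
      _ = e₀ * (v₁ * y₂ * v₁⁻¹) := by rw [h.ev1]; group
      _ = e₀ * y₂ := by rw [b1]
  have hgz := h.Cz g hgC
  have e3 : w' * (g * y₁ * g⁻¹) * w'⁻¹ = z * e' * (g * y₁ * g⁻¹) := by
    calc w' * (g * y₁ * g⁻¹) * w'⁻¹ = g * (w * y₁ * w⁻¹) * g⁻¹ := by rw [hw']; group
      _ = (g * z) * e₀ * y₁ * g⁻¹ := by rw [e1]; group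
      _ = z * e' * (g * y₁ * g⁻¹) := by rw [hgz, he']; group
  have e4 : w' * (g * y₂ * g⁻¹) * w'⁻¹ = e' * (g * y₂ * g⁻¹) := by
    calc w' * (g * y₂ * g⁻¹) * w'⁻¹ = g * (w * y₂ * w⁻¹) * g⁻¹ := by rw [hw']; group
      _ = e' * (g * y₂ * g⁻¹) := by rw [e2, he']; group
  have hze : e₀ * z = z * e₀ := h.Yz h.e0Y
  have he01 : ¬ Eqz z e₀ 1 := by
    intro hc
    apply hA
    rcases hc with hc | hc
    · left; rw [hc]; group
    · left
      rw [hc, mul_one, h.Cz w' hw'C]; group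
  have key : ∀ v ε : G, v ∈ h.L → v * e₀ = e₀ * v → (∀ y ∈ Y, v * y * v⁻¹ = y ∨ v * y * v⁻¹ = ε * y) →
      (ε = e₀ ∨ ε = z * e₀) → Eqz z (v * e' * v⁻¹) (e₀ * e') → False := by
    intro v ε hvL hve hv hε hve'
    have hvC := hvL.1
    have S3 : ∀ y ∈ Y, Eqz z (v * y * v⁻¹) y ∨ Eqz z (v * y * v⁻¹) (e₀ * y) := by
      intro y hy
      rcases hv y hy with h1 | h1
      · exact Or.inl (Or.inl h1)
      · right
        rcases hε with h2 | h2
        · left; rw [h1, h2]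
        · right; rw [h1, h2, mul_assoc]
    let cvv : C := ⟨v, hvC⟩
    -- `d`
    have hd : v * w' * v * (w' * v * w')⁻¹ ∈ Q := by
      have hdL : v * w' * v * (w' * v * w')⁻¹ ∈ h.L :=
        mul_mem (mul_mem (mul_mem hvL hw'L) hvL) (inv_mem (mul_mem (mul_mem hw'L hvL) hw'L))
      refine h.K2 hdL.1 hdL.2 ?_
      -- first for `y` replaced by its conjugate
      have key1 : ∀ y ∈ Y, Eqz z (v * w' * v * y * (v * w' * v)⁻¹) (w' * v * w' * y * (w' * v * w')⁻¹) := by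
        intro y hy
        have h1 := braid (MulAut.conj (π cvv)) (MulAut.conj (π cw')) (e := π ce) (e' := π ce')
          (y := π ⟨y, h.YC hy⟩) hee hee' hc1 (tr1 hvC h.e0Y (Or.inl (by rw [hve]; group)))
          (tr1 hw'C he'Y (Or.inl hw'e')) (tr hvC he'Y h.e0Y hve') (tr hw'C h.e0Y he'Y hA')
          ((S3 y hy).imp (fun h2 => tr1 hvC hy h2) (fun h2 => tr hvC hy h.e0Y h2))
          ((S2 y hy).imp (fun h2 => tr1 hw'C hy h2) (fun h2 => tr hw'C hy he'Y h2))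
        have h2 : π (cvv * cw' * cvv * ⟨y, h.YC hy⟩ * (cvv * cw' * cvv)⁻¹) =
            π (cw' * cvv * cw' * ⟨y, h.YC hy⟩ * (cw' * cvv * cw')⁻¹) := by
          rw [← hcj, ← hcj]
          simp only [map_mul, MulAut.mul_apply]
          exact h1
        exact (hπ _ _).1 h2
      intro y hy
      have hcc : w' * v * w' ∈ C := mul_mem (mul_mem hw'C hvC) hw'C
      have h3 := key1 _ (hconjY (inv_mem hcc) hy)
      exact (h3.of_eq_left (by group)).of_eq_right (by group)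
    -- `c v c⁻¹` and `w'` agree on `Y`
    have hag : ∀ y ∈ Y, (v * w') * v * (v * w')⁻¹ * y * ((v * w') * v * (v * w')⁻¹)⁻¹ = w' * y * w'⁻¹ := by
      intro y hy
      have h4 := h.QY _ hd _ (hconjY hw'C hy)
      have e5 : (v * w') * v * (v * w')⁻¹ * y * ((v * w') * v * (v * w')⁻¹)⁻¹ =
          v * w' * v * (w' * v * w')⁻¹ * (w' * y * w'⁻¹) * (v * w' * v * (w' * v * w')⁻¹)⁻¹ := by group
      rw [e5, h4, mul_inv_cancel_right]
    have hcc : v * w' ∈ C := mul_mem hvC hw'C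
    set δ := (v * w') * ε * (v * w')⁻¹ with hδ
    have hval : ∀ y ∈ Y, w' * y * w'⁻¹ = y ∨ w' * y * w'⁻¹ = δ * y := by
      intro y hy
      rw [← hag y hy]
      have hy0 := hconjY (inv_mem hcc) hy
      have e5 : (v * w') * v * (v * w')⁻¹ * y * ((v * w') * v * (v * w')⁻¹)⁻¹ =
          (v * w') * (v * ((v * w')⁻¹ * y * (v * w')⁻¹⁻¹) * v⁻¹) * (v * w')⁻¹ := by group
      rw [e5]
      rcases hv _ hy0 with h6 | h6
      · left; rw [h6]; group
      · right; rw [h6, hδ]; group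
    have he'1 : ¬ Eqz z e' 1 := by
      intro hc
      apply he01
      have h7 := hc.conj (a := g⁻¹) (by rw [inv_comm' hgz])
      exact (h7.of_eq_left (by rw [he']; group)).of_eq_right (by group)
    have f1 := hval _ (hconjY hgC hy₁)
    have f2 := hval _ (hconjY hgC hy₂)
    rw [e3] at f1
    rw [e4] at f2
    have g1 : z * e' = δ := by
      rcases f1 with f1 | f1
      · exfalso
        apply he'1
        have h8 : z * e' = 1 := mul_right_cancel (f1.trans (one_mul _).symm)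
        right
        rw [mul_one]
        have h9 : e' = z⁻¹ := eq_inv_of_mul_eq_one_right h8
        rw [h9]
        exact inv_eq_of_mul_eq_one_left h.z2
      · exact mul_right_cancel f1
    have g2 : e' = δ := by
      rcases f2 with f2 | f2
      · exact absurd (Or.inl (mul_right_cancel (f2.trans (one_mul _).symm))) he'1
      · exact mul_right_cancel f2
    exact h.z1 (mul_right_cancel ((g1.trans g2.symm).trans (one_mul _).symm))
  -- which `v`
  have hz2 := h.z2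
  rcases h.t1 e' he'Y with c1 | c1 <;> rcases h.t2 e' he'Y with c2 | c2
  · apply hB
    left
    calc w * e' * w⁻¹ = v₁ * (v₂ * e' * v₂⁻¹) * v₁⁻¹ := by rw [hwd]; group
      _ = e' := by rw [c2, c1]
  · exact key v₂ e₀ h.v2L h.ev2 h.t2 (Or.inl rfl) (Or.inl c2)
  · exact key v₁ (z * e₀) h.v1L h.ev1 h.t1 (Or.inr rfl) (Or.inr (by rw [c1, mul_assoc]))
  · apply hB
    right
    calc w * e' * w⁻¹ = v₁ * (v₂ * e' * v₂⁻¹) * v₁⁻¹ := by rw [hwd]; group
      _ = (v₁ * e₀) * e' * v₁⁻¹ := by rw [c2]; group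
      _ = e₀ * (v₁ * e' * v₁⁻¹) := by rw [h.ev1]; group
      _ = (e₀ * z) * e₀ * e' := by rw [c1]; group
      _ = z * (e₀ * e₀) * e' := by rw [hze]; group
      _ = z * e' := by rw [h.e02, mul_one]

end IdxD

end Cfsg.Agent.Omega.NOne.AG

end

end

-- merged: Cfsg.Agent.Omega.NOne.AG.LemY
section

/-!
# LEMMA Y of THEOREM D0ag ((4) of #15001, helper313); typed by helper950

`S` Sylow 2-subgroup of `G`, `Ω₁ Z(S) = ⟨z⟩`, `y` an involution with `C_S(y)` of index 2 in `S`,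
`S ≤ C ≤ C_G(z)`, `QF = O₂(C_C(y))`, `Qs ≤ O₂(C_G(z))` nonabelian, `C_QF(Qs) = ⟨z, y⟩`, `[Qs, QF] ≤ ⟨z⟩`.
Then `y` is not conjugate to `z`.
-/

set_option autoImplicit false

namespace Cfsg.Agent.Omega.NOne.AG.LemY

open Subgroup

variable {G : Type*} [Group G] [Finite G]

/-- Normalizers grow. -/
theorem exists_normalizes {R T : Subgroup G} (hR : IsPGroup 2 R) (hT : T ≤ R) (hne : T ≠ R) :
    ∃ r ∈ R, r ∉ T ∧ ∀ t, t ∈ T ↔ r * t * r⁻¹ ∈ T := by
  haveI : Fact (Nat.Prime 2) := ⟨Nat.prime_two⟩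
  haveI : Group.IsNilpotent R := hR.isNilpotent
  have h1 : T.subgroupOf R < ⊤ := by
    rw [lt_top_iff_ne_top]
    intro h
    rw [Subgroup.subgroupOf_eq_top] at h
    exact hne (le_antisymm hT h)
  have h2 := Group.normalizerCondition_of_isNilpotent (G := R) _ h1
  obtain ⟨r, hr, hrT⟩ := SetLike.exists_of_lt h2
  refine ⟨r, r.2, fun h => hrT (Subgroup.mem_subgroupOf.2 h), fun t => ?_⟩
  constructor
  · intro ht
    have h3 := (Subgroup.mem_normalizer_iff.1 hr ⟨t, hT ht⟩).1 (Subgroup.mem_subgroupOf.2 ht)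
    exact Subgroup.mem_subgroupOf.1 h3
  · intro ht
    have h4 : r * t * (r : G)⁻¹ ∈ R := hT ht
    have h5 : t ∈ R := by
      have : t = (r : G)⁻¹ * (r * t * (r : G)⁻¹) * r := by group
      rw [this]
      exact R.mul_mem (R.mul_mem (R.inv_mem r.2) h4) r.2
    have h3 := (Subgroup.mem_normalizer_iff.1 hr ⟨t, h5⟩).2 (Subgroup.mem_subgroupOf.2 ht)
    exact Subgroup.mem_subgroupOf.1 h3

/-- a Sylow subgroup has only one central involution: no 2-subgroup of order at least `|S|` centralises `y`, `z`. -/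
theorem card_lt (S : Sylow 2 G) {z y : G} (hz1 : z ≠ 1) (hz2 : z * z = 1) (hy1 : y ≠ 1) (hy2 : y * y = 1)
    (hyz : y ≠ z) (hZ : ∀ u ∈ (S : Subgroup G), u * u = 1 → (∀ s ∈ (S : Subgroup G), s * u = u * s) → u = 1 ∨ u = z)
    {R : Subgroup G} (hR : IsPGroup 2 R) (hRy : y ∈ R) (hRz : z ∈ R) (hcy : ∀ r ∈ R, r * y = y * r)
    (hcz : ∀ r ∈ R, r * z = z * r) : Nat.card R < Nat.card S := by
  haveI : Fact (Nat.Prime 2) := ⟨Nat.prime_two⟩
  obtain ⟨P, hP⟩ := hR.exists_le_sylow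
  have hcS : Nat.card P = Nat.card S := (Sylow.card_eq_multiplicity P).trans (Sylow.card_eq_multiplicity S).symm
  have hle : Nat.card R ≤ Nat.card P := Subgroup.card_le_of_le hP
  rw [hcS] at hle
  refine lt_of_le_of_ne hle fun h => ?_
  have hRP : R = (P : Subgroup G) := Subgroup.eq_of_le_of_card_ge hP (by rw [h]; exact hcS.le)
  obtain ⟨g, hg⟩ := MulAction.exists_smul_eq G P S
  have key : ∀ u ∈ R, g * u * g⁻¹ ∈ (S : Subgroup G) := by
    intro u hu
    rw [← hg, Sylow.coe_subgroup_smul, Subgroup.mem_pointwise_smul_iff_inv_smul_mem, ← hRP]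
    simpa [MulAut.smul_def, mul_assoc] using hu
  have hcen : ∀ u ∈ R, (∀ r ∈ R, r * u = u * r) → ∀ s ∈ (S : Subgroup G), s * (g * u * g⁻¹) = g * u * g⁻¹ * s := by
    intro u _ hu s hs
    have h1 : g⁻¹ * s * g ∈ R := by
      rw [hRP]
      have h2 : s ∈ ((g • P : Sylow 2 G) : Subgroup G) := by rw [hg]; exact hs
      rw [Sylow.coe_subgroup_smul, Subgroup.mem_pointwise_smul_iff_inv_smul_mem] at h2
      simpa [MulAut.smul_def, mul_assoc] using h2
    have h3 := hu _ h1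
    calc s * (g * u * g⁻¹) = g * ((g⁻¹ * s * g) * u) * g⁻¹ := by group
      _ = g * (u * (g⁻¹ * s * g)) * g⁻¹ := by rw [h3]
      _ = g * u * g⁻¹ * s := by group
  have hinj : ∀ u v : G, g * u * g⁻¹ = v → u = g⁻¹ * v * g := by
    intro u v h; rw [← h]; group
  have hc1 : g * y * g⁻¹ = 1 ∨ g * y * g⁻¹ = z := hZ _ (key y hRy)
    (by rw [show g * y * g⁻¹ * (g * y * g⁻¹) = g * (y * y) * g⁻¹ by group, hy2]; group) (hcen y hRy hcy)
  have hc2 : g * z * g⁻¹ = 1 ∨ g * z * g⁻¹ = z := hZ _ (key z hRz)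
    (by rw [show g * z * g⁻¹ * (g * z * g⁻¹) = g * (z * z) * g⁻¹ by group, hz2]; group) (hcen z hRz hcz)
  rcases hc1 with h1 | h1
  · exact hy1 (by rw [hinj _ _ h1]; group)
  · rcases hc2 with h2 | h2
    · exact hz1 (by rw [hinj _ _ h2]; group)
    · exact hyz ((hinj _ _ h1).trans (hinj _ _ h2).symm)

theorem lemmaY (S : Sylow 2 G) {z y : G} (hz1 : z ≠ 1) (hz2 : z * z = 1) (hy1 : y ≠ 1) (hy2 : y * y = 1)
    (hyz : y ≠ z) (hZ : ∀ u ∈ (S : Subgroup G), u * u = 1 → (∀ s ∈ (S : Subgroup G), s * u = u * s) → u = 1 ∨ u = z)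
    {C QF Qs Q : Subgroup G} (hSC : (S : Subgroup G) ≤ C) (hCz : ∀ c ∈ C, c * z = z * c)
    (hQFS : QF ≤ S) (hQsF : Qs ≤ QF) (hzF : z ∈ QF) (hyF : y ∈ QF) (hQFy : ∀ x ∈ QF, x * y = y * x)
    (hO2 : ∀ N : Subgroup G, N ≤ C → (∀ n ∈ N, n * y = y * n) → IsPGroup 2 N →
      (∀ c ∈ C, c * y = y * c → ∀ n ∈ N, c * n * c⁻¹ ∈ N) → N ≤ QF)
    (hself : ∀ u ∈ (S : Subgroup G), (∀ x ∈ QF, x * u = u * x) → u ∈ QF)
    (hcen : ∀ x ∈ QF, (∀ q ∈ Qs, q * x = x * q) → x = 1 ∨ x = z ∨ x = y ∨ x = y * z)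
    (hcm : ∀ q ∈ Qs, ∀ x ∈ QF, q * x = x * q ∨ q * x = z * (x * q))
    (hQp : IsPGroup 2 Q) (hQn : ∀ c, c * z = z * c → ∀ q ∈ Q, c * q * c⁻¹ ∈ Q) (hQs : Qs ≤ Q)
    (hna : ∃ a ∈ Qs, ∃ b ∈ Qs, a * b ≠ b * a) {s : G} (hs : s ∈ (S : Subgroup G)) (hsy : s * y * s⁻¹ = y * z)
    (hind : ∀ a ∈ (S : Subgroup G), a * y = y * a ∨ (s * a) * y = y * (s * a)) : ¬ IsConj y z := by
  classical
  intro hconj
  haveI : Fact (Nat.Prime 2) := ⟨Nat.prime_two⟩
  have hzi : z⁻¹ = z := inv_eq_of_mul_eq_one_right hz2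
  have hyi : y⁻¹ = y := inv_eq_of_mul_eq_one_right hy2
  have hyzc : y * z = z * y := (hQFy z hzF).symm
  -- `S₂ = C_S(y)`
  set S₂ : Subgroup G := (S : Subgroup G) ⊓ centralizer {y} with hS₂
  have hmS₂ : ∀ u, u ∈ S₂ ↔ u ∈ (S : Subgroup G) ∧ u * y = y * u := by
    intro u
    rw [hS₂, Subgroup.mem_inf, Subgroup.mem_centralizer_singleton_iff]
  have hQF₂ : QF ≤ S₂ := fun x hx => (hmS₂ x).2 ⟨hQFS hx, hQFy x hx⟩
  have hS₂S : S₂ ≤ (S : Subgroup G) := inf_le_left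
  have hsz : s * z = z * s := hCz s (hSC hs)
  -- `2 |S₂| = |S|`
  have hcard : Nat.card S ≤ 2 * Nat.card S₂ := by
    have h1 : (S₂.subgroupOf (S : Subgroup G)).index ≤ 2 := by
      rw [Subgroup.index]
      have : ∀ q : (S : Subgroup G) ⧸ S₂.subgroupOf (S : Subgroup G), q = QuotientGroup.mk 1 ∨
          q = QuotientGroup.mk (⟨s, hs⟩ : (S : Subgroup G))⁻¹ := by
        intro q
        obtain ⟨a, rfl⟩ := QuotientGroup.mk_surjective q
        rcases hind a a.2 with h | h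
        · left
          rw [QuotientGroup.eq, mul_one]
          rw [Subgroup.mem_subgroupOf]
          have h2 : (a : G) ∈ S₂ := (hmS₂ _).2 ⟨a.2, h⟩
          exact S₂.inv_mem h2
        · right
          rw [QuotientGroup.eq, Subgroup.mem_subgroupOf]
          have h2 : s * (a : G) ∈ S₂ := (hmS₂ _).2 ⟨(S : Subgroup G).mul_mem hs a.2, h⟩
          have h3 := S₂.inv_mem h2
          show (a : G)⁻¹ * s⁻¹ ∈ S₂
          rwa [mul_inv_rev] at h3
      have h2 : Set.univ ⊆ ({QuotientGroup.mk 1, QuotientGroup.mk (⟨s, hs⟩ : (S : Subgroup G))⁻¹} :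
          Set ((S : Subgroup G) ⧸ S₂.subgroupOf (S : Subgroup G))) := fun q _ => this q
      have h3 := Set.ncard_le_ncard h2 (Set.toFinite _)
      rw [Set.ncard_univ] at h3
      exact h3.trans (Set.ncard_insert_le _ _ |>.trans (by rw [Set.ncard_singleton]))
    have h2 := Subgroup.card_mul_index (S₂.subgroupOf (S : Subgroup G))
    have h3 : Nat.card (S₂.subgroupOf (S : Subgroup G)) = Nat.card S₂ :=
      Nat.card_congr (Subgroup.subgroupOfEquivOfLe hS₂S).toEquiv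
    rw [h3] at h2
    calc Nat.card S = Nat.card S₂ * (S₂.subgroupOf (S : Subgroup G)).index := h2.symm
      _ ≤ Nat.card S₂ * 2 := Nat.mul_le_mul_left _ h1
      _ = _ := mul_comm _ _
  have hS₂p : IsPGroup 2 S₂ := S.isPGroup'.to_le hS₂S
  -- maximality of `S₂` among the 2-subgroups centralising `y`, `z`
  have hmax : ∀ R : Subgroup G, IsPGroup 2 R → S₂ ≤ R → (∀ r ∈ R, r * y = y * r) → (∀ r ∈ R, r * z = z * r) →
      R = S₂ := by
    intro R hR hSR hRy hRz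
    have h1 := card_lt S hz1 hz2 hy1 hy2 hyz hZ hR (hSR (hQF₂ hyF)) (hSR (hQF₂ hzF)) hRy hRz
    have h2 : Nat.card R < 2 * Nat.card S₂ := lt_of_lt_of_le h1 hcard
    obtain ⟨k, hk⟩ := Subgroup.card_dvd_of_le hSR
    have h3 : 0 < Nat.card R := Nat.card_pos
    have h4 : 0 < Nat.card S₂ := Nat.card_pos
    have h5 : k = 1 := by
      rcases k with _ | _ | k
      · rw [hk] at h3; omega
      · rfl
      · exfalso
        rw [hk] at h2
        have : Nat.card S₂ * 2 ≤ Nat.card S₂ * (k + 1 + 1) := Nat.mul_le_mul_left _ (by omega)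
        omega
    rw [h5, mul_one] at hk
    exact (Subgroup.eq_of_le_of_card_ge hSR hk.le).symm
  -- normal 2-subgroups of `C(y) ∩ C(z)` are in `QF`
  have hnorm : ∀ N : Subgroup G, IsPGroup 2 N → (∀ n ∈ N, n * y = y * n) → (∀ n ∈ N, n * z = z * n) →
      (∀ c, c * y = y * c → c * z = z * c → ∀ n ∈ N, c * n * c⁻¹ ∈ N) → N ≤ QF := by
    intro N hN hNy hNz hNn
    have h1 : S₂ ≤ normalizer (N : Set G) := by
      intro u hu
      have hu' := (hmS₂ u).1 hu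
      rw [Subgroup.mem_normalizer_iff]
      intro n
      constructor
      · exact hNn u hu'.2 (hCz u (hSC hu'.1)) n
      · intro h
        have hi1 : u⁻¹ * y = y * u⁻¹ := by
          rw [inv_mul_eq_iff_eq_mul, ← mul_assoc, hu'.2, mul_inv_cancel_right]
        have hi2 : u⁻¹ * z = z * u⁻¹ := by
          rw [inv_mul_eq_iff_eq_mul, ← mul_assoc, hCz u (hSC hu'.1), mul_inv_cancel_right]
        have h2 := hNn u⁻¹ hi1 hi2 _ h
        have h3 : u⁻¹ * (u * n * u⁻¹) * u⁻¹⁻¹ = n := by group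
        rwa [h3] at h2
    have h2 : IsPGroup 2 ↥(N ⊔ S₂) := hN.to_sup_of_normal_left' hS₂p h1
    have hsup : ∀ w : G, (∀ n ∈ N, n * w = w * n) → (∀ n ∈ S₂, n * w = w * n) → ∀ r ∈ N ⊔ S₂, r * w = w * r := by
      intro w hw1 hw2 r hr
      have h3 : N ⊔ S₂ ≤ centralizer {w} := sup_le
        (fun n hn => Subgroup.mem_centralizer_singleton_iff.2 (hw1 n hn))
        (fun n hn => Subgroup.mem_centralizer_singleton_iff.2 (hw2 n hn))
      exact Subgroup.mem_centralizer_singleton_iff.1 (h3 hr)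
    have h3 := hmax (N ⊔ S₂) h2 le_sup_right (hsup y hNy (fun n hn => ((hmS₂ n).1 hn).2))
      (hsup z hNz (fun n hn => hCz n (hSC ((hmS₂ n).1 hn).1)))
    have h4 : N ≤ S₂ := le_sup_left.trans h3.le
    exact hO2 N (fun n hn => hSC (hS₂S (h4 hn))) hNy hN (fun c hc hcy n hn => hNn c hcy (hCz c hc) n hn)
  -- the element `r`
  obtain ⟨g, hg⟩ := isConj_iff.1 hconj
  -- a Sylow group of `C(y)`
  obtain ⟨R, hR, hSR, hRy, hne⟩ : ∃ R : Subgroup G, IsPGroup 2 R ∧ S₂ ≤ R ∧ (∀ r ∈ R, r * y = y * r) ∧ S₂ ≠ R := by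
    have hS₂C : S₂ ≤ centralizer {y} := inf_le_right
    have h1 : IsPGroup 2 (S₂.subgroupOf (centralizer {y})) :=
      hS₂p.of_equiv (Subgroup.subgroupOfEquivOfLe hS₂C).symm
    obtain ⟨P, hP⟩ := h1.exists_le_sylow
    refine ⟨(P : Subgroup (centralizer {y})).map (centralizer {y}).subtype,
      P.isPGroup'.map _, ?_, ?_, ?_⟩
    · intro u hu
      exact ⟨⟨u, hS₂C hu⟩, hP (Subgroup.mem_subgroupOf.2 hu), rfl⟩
    · rintro _ ⟨u, -, rfl⟩
      exact Subgroup.mem_centralizer_singleton_iff.1 u.2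
    · intro h
      -- the conjugate of `S` in `C(y)`
      have hSc : IsPGroup 2 ((S : Subgroup G).map (MulAut.conj g⁻¹).toMonoidHom) := S.isPGroup'.map _
      have hSy : (S : Subgroup G).map (MulAut.conj g⁻¹).toMonoidHom ≤ centralizer {y} := by
        rintro _ ⟨u, hu, rfl⟩
        rw [Subgroup.mem_centralizer_singleton_iff]
        have h2 : y = g⁻¹ * z * g := by rw [← hg]; group
        have h3 : u * z = z * u := hCz u (hSC hu)
        show (g⁻¹ * u * g⁻¹⁻¹) * y = y * (g⁻¹ * u * g⁻¹⁻¹)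
        rw [h2]
        calc g⁻¹ * u * g⁻¹⁻¹ * (g⁻¹ * z * g) = g⁻¹ * (u * z) * g := by group
          _ = g⁻¹ * (z * u) * g := by rw [h3]
          _ = g⁻¹ * z * g * (g⁻¹ * u * g⁻¹⁻¹) := by group
      have hcS : Nat.card ↥((S : Subgroup G).map (MulAut.conj g⁻¹).toMonoidHom) = Nat.card S :=
        Subgroup.card_map_of_injective (MulAut.conj g⁻¹).injective
      have h3 : IsPGroup 2 (((S : Subgroup G).map (MulAut.conj g⁻¹).toMonoidHom).subgroupOf (centralizer {y})) :=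
        hSc.of_equiv (Subgroup.subgroupOfEquivOfLe hSy).symm
      obtain ⟨P', hP'⟩ := h3.exists_le_sylow
      have h4 : Nat.card P' = Nat.card P := (Sylow.card_eq_multiplicity P').trans (Sylow.card_eq_multiplicity P).symm
      have h5 : Nat.card S ≤ Nat.card P' := by
        rw [← hcS, ← Nat.card_congr (Subgroup.subgroupOfEquivOfLe hSy).toEquiv]
        exact Subgroup.card_le_of_le hP'
      have h6 : Nat.card ↥((P : Subgroup (centralizer {y})).map (centralizer {y}).subtype) = Nat.card P :=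
        Subgroup.card_map_of_injective (Subgroup.subtype_injective _)
      rw [← h] at h6
      have h7 : Nat.card S₂ < Nat.card S :=
        card_lt S hz1 hz2 hy1 hy2 hyz hZ hS₂p (hQF₂ hyF) (hQF₂ hzF) (fun r hr => ((hmS₂ r).1 hr).2)
          (fun r hr => hCz r (hSC ((hmS₂ r).1 hr).1))
      omega
  obtain ⟨r, hrR, hrS, hrn⟩ := exists_normalizes hR hSR hne
  have hry : r * y = y * r := hRy r hrR
  -- `r z r⁻¹` is one of `z`, `y`, `y z`
  have hrz : r * z * r⁻¹ = y * z := by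
    have h1 : r * z * r⁻¹ ∈ S₂ := (hrn z).1 (hQF₂ hzF)
    have h2 : r * z * r⁻¹ * (r * z * r⁻¹) = 1 := by
      rw [show r * z * r⁻¹ * (r * z * r⁻¹) = r * (z * z) * r⁻¹ by group, hz2]; group
    have h3 : ∀ u ∈ S₂, u * (r * z * r⁻¹) = (r * z * r⁻¹) * u := by
      intro u hu
      have h4 : r⁻¹ * u * r ∈ S₂ := by
        rw [hrn]
        have : r * (r⁻¹ * u * r) * r⁻¹ = u := by group
        rw [this]; exact hu
      have h5 := hCz _ (hSC (hS₂S h4))
      calc u * (r * z * r⁻¹) = r * ((r⁻¹ * u * r) * z) * r⁻¹ := by group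
        _ = r * (z * (r⁻¹ * u * r)) * r⁻¹ := by rw [h5]
        _ = (r * z * r⁻¹) * u := by group
    have h4 : r * z * r⁻¹ ∈ QF := hself _ (hS₂S h1) (fun x hx => h3 x (hQF₂ hx))
    rcases hcen _ h4 (fun q hq => h3 q (hQF₂ (hQsF hq))) with h | h | h | h
    · exfalso
      apply hz1
      have : z = r⁻¹ * (r * z * r⁻¹) * r := by group
      rw [this, h]; group
    · exfalso
      -- `r` centralises `y` and `z`
      have hrz : r * z = z * r := mul_inv_eq_iff_eq_mul.1 h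
      have h5 : IsPGroup 2 ↥(R ⊓ centralizer {z}) := hR.to_le inf_le_left
      have h6 := hmax (R ⊓ centralizer {z}) h5
        (le_inf hSR fun u hu => Subgroup.mem_centralizer_singleton_iff.2 (hCz u (hSC (hS₂S hu))))
        (fun a ha => hRy a ha.1) (fun a ha => Subgroup.mem_centralizer_singleton_iff.1 ha.2)
      apply hrS
      rw [← h6]
      exact ⟨hrR, Subgroup.mem_centralizer_singleton_iff.2 hrz⟩
    · exfalso
      apply hyz
      have h5 : z = r⁻¹ * (r * z * r⁻¹) * r := by group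
      have h6 : y = r⁻¹ * y * r := by rw [mul_assoc, ← hry]; group
      rw [h5, h, ← h6]
    · exact h
  -- `t = s r`: `z ↦ y`, `y ↦ y z`
  set t := s * r with ht
  have htz : t * z * t⁻¹ = y := by
    have : t * z * t⁻¹ = s * (r * z * r⁻¹) * s⁻¹ := by rw [ht]; group
    rw [this, hrz]
    have h1 : s * (y * z) * s⁻¹ = (s * y * s⁻¹) * (s * z * s⁻¹) := by group
    have h2 : s * z * s⁻¹ = z := by rw [hsz]; group
    rw [h1, hsy, h2, mul_assoc, hz2, mul_one]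
  have hty : t * y * t⁻¹ = y * z := by
    have : t * y * t⁻¹ = s * (r * y * r⁻¹) * s⁻¹ := by rw [ht]; group
    have h2 : r * y * r⁻¹ = y := by rw [hry]; group
    rw [this, h2, hsy]
  -- commuting with `y`, `z` is `t`-invariant
  have hct : ∀ c, c * y = y * c → c * z = z * c → (t⁻¹ * c * t) * y = y * (t⁻¹ * c * t) ∧
      (t⁻¹ * c * t) * z = z * (t⁻¹ * c * t) := by
    intro c hc1 hc2
    constructor
    · have h1 : t * y = y * z * t := by rw [← hty]; group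
      have h2 : c * (y * z) = (y * z) * c := by rw [← mul_assoc, hc1, mul_assoc, hc2, mul_assoc]
      calc t⁻¹ * c * t * y = t⁻¹ * c * (t * y) := by group
        _ = t⁻¹ * (c * (y * z)) * t := by rw [h1]; group
        _ = t⁻¹ * (y * z * t) * t⁻¹ * c * t := by rw [h2]; group
        _ = y * (t⁻¹ * c * t) := by rw [← h1]; group
    · have h1 : t * z = y * t := by rw [← htz]; group
      calc t⁻¹ * c * t * z = t⁻¹ * c * (t * z) := by group
        _ = t⁻¹ * (c * y) * t := by rw [h1]; group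
        _ = t⁻¹ * (y * t) * t⁻¹ * c * t := by rw [hc1]; group
        _ = z * (t⁻¹ * c * t) := by rw [← h1]; group
  have hct' : ∀ c, c * y = y * c → c * z = z * c → (t * c * t⁻¹) * y = y * (t * c * t⁻¹) ∧
      (t * c * t⁻¹) * z = z * (t * c * t⁻¹) := by
    intro c hc1 hc2
    have h0 : (t * c * t⁻¹) * y = y * (t * c * t⁻¹) := by
      have h1 : t⁻¹ * y = z * t⁻¹ := by rw [← htz]; group
      calc t * c * t⁻¹ * y = t * c * (t⁻¹ * y) := by group
        _ = t * (c * z) * t⁻¹ := by rw [h1]; group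
        _ = t * (z * t⁻¹) * t * c * t⁻¹ := by rw [hc2]; group
        _ = y * (t * c * t⁻¹) := by rw [← h1]; group
    have h5 : (t * c * t⁻¹) * (y * z) = (y * z) * (t * c * t⁻¹) := by
      have h1 : t⁻¹ * (y * z) = y * t⁻¹ := by rw [← hty]; group
      calc t * c * t⁻¹ * (y * z) = t * c * (t⁻¹ * (y * z)) := by group
        _ = t * (c * y) * t⁻¹ := by rw [h1]; group
        _ = t * (y * t⁻¹) * t * c * t⁻¹ := by rw [hc1]; group
        _ = y * z * (t * c * t⁻¹) := by rw [← h1]; group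
    refine ⟨h0, ?_⟩
    have h6 : z = y * (y * z) := by rw [← mul_assoc, hy2, one_mul]
    calc (t * c * t⁻¹) * z = (t * c * t⁻¹) * y * (y * z) := by nth_rewrite 1 [h6]; group
      _ = y * ((t * c * t⁻¹) * (y * z)) := by rw [h0]; group
      _ = y * (y * z) * (t * c * t⁻¹) := by rw [h5]; group
      _ = z * (t * c * t⁻¹) := by rw [← h6]
  -- `O = Q ⊓ C(y) ⊓ C(z)` and its conjugates
  have hsub : ∀ q ∈ Qs, (t * q * t⁻¹ ∈ QF) ∧ (t⁻¹ * q * t ∈ QF) := by
    set O : Subgroup G := Q ⊓ (centralizer {y} ⊓ centralizer {z}) with hO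
    have hmO : ∀ u, u ∈ O ↔ u ∈ Q ∧ u * y = y * u ∧ u * z = z * u := by
      intro u
      rw [hO, Subgroup.mem_inf, Subgroup.mem_inf, Subgroup.mem_centralizer_singleton_iff,
        Subgroup.mem_centralizer_singleton_iff]
    have hOn : ∀ c, c * y = y * c → c * z = z * c → ∀ n ∈ O, c * n * c⁻¹ ∈ O := by
      intro c hc1 hc2 n hn
      obtain ⟨hn1, hn2, hn3⟩ := (hmO n).1 hn
      refine (hmO _).2 ⟨hQn c hc2 n hn1, ?_, ?_⟩
      · calc c * n * c⁻¹ * y = c * n * c⁻¹ * y * (c * c⁻¹) := by group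
          _ = c * n * c⁻¹ * (y * c) * c⁻¹ := by group
          _ = c * (n * y) * c⁻¹ := by rw [← hc1]; group
          _ = (c * y) * n * c⁻¹ := by rw [hn2]; group
          _ = y * (c * n * c⁻¹) := by rw [hc1]; group
      · calc c * n * c⁻¹ * z = c * n * c⁻¹ * z * (c * c⁻¹) := by group
          _ = c * n * c⁻¹ * (z * c) * c⁻¹ := by group
          _ = c * (n * z) * c⁻¹ := by rw [← hc2]; group
          _ = (c * z) * n * c⁻¹ := by rw [hn3]; group
          _ = z * (c * n * c⁻¹) := by rw [hc2]; group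
    have hOp : IsPGroup 2 O := hQp.to_le inf_le_left
    have hQsO : Qs ≤ O := by
      intro q hq
      exact (hmO q).2 ⟨hQs hq, hQFy q (hQsF hq), hCz q (hSC (hQFS (hQsF hq)))⟩
    have conj1 : ∀ k : G, (∀ c, c * y = y * c → c * z = z * c →
        (k⁻¹ * c * k) * y = y * (k⁻¹ * c * k) ∧ (k⁻¹ * c * k) * z = z * (k⁻¹ * c * k)) →
        (∀ c, c * y = y * c → c * z = z * c →
        (k * c * k⁻¹) * y = y * (k * c * k⁻¹) ∧ (k * c * k⁻¹) * z = z * (k * c * k⁻¹)) →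
        ∀ q ∈ Qs, k * q * k⁻¹ ∈ QF := by
      intro k hk hk' q hq
      have h1 : O.map (MulAut.conj k).toMonoidHom ≤ QF := by
        apply hnorm _ (hOp.map _)
        · rintro _ ⟨u, hu, rfl⟩
          obtain ⟨-, hu2, hu3⟩ := (hmO u).1 hu
          exact (hk' u hu2 hu3).1
        · rintro _ ⟨u, hu, rfl⟩
          obtain ⟨-, hu2, hu3⟩ := (hmO u).1 hu
          exact (hk' u hu2 hu3).2
        · rintro c hc1 hc2 _ ⟨u, hu, rfl⟩
          refine ⟨(k⁻¹ * c * k) * u * (k⁻¹ * c * k)⁻¹, hOn _ (hk c hc1 hc2).1 (hk c hc1 hc2).2 u hu, ?_⟩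
          show k * ((k⁻¹ * c * k) * u * (k⁻¹ * c * k)⁻¹) * k⁻¹ = c * (k * u * k⁻¹) * c⁻¹
          group
      exact h1 ⟨q, hQsO hq, rfl⟩
    intro q hq
    refine ⟨conj1 t hct hct' q hq, ?_⟩
    have h1 := conj1 t⁻¹ (fun c h1 h2 => by simpa using hct' c h1 h2) (fun c h1 h2 => by simpa using hct c h1 h2) q hq
    rwa [inv_inv] at h1
  -- `[Qs, Qs^t] = 1`
  have hcomm : ∀ q ∈ Qs, ∀ q' ∈ Qs, q * (t * q' * t⁻¹) = (t * q' * t⁻¹) * q := by
    intro q hq q' hq'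
    rcases hcm q hq _ (hsub q' hq').1 with h | h
    · exact h
    · exfalso
      rcases hcm q' hq' _ (hsub q hq).2 with h1 | h1
      · have h2 : (t * q' * t⁻¹) * q = q * (t * q' * t⁻¹) := by
          calc (t * q' * t⁻¹) * q = t * (q' * (t⁻¹ * q * t)) * t⁻¹ := by group
            _ = t * ((t⁻¹ * q * t) * q') * t⁻¹ := by rw [h1]
            _ = q * (t * q' * t⁻¹) := by group
        rw [h2] at h
        have h3 : (1 : G) * (q * (t * q' * t⁻¹)) = z * (q * (t * q' * t⁻¹)) := by rw [one_mul]; exact h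
        exact hz1 (mul_right_cancel h3).symm
      · have h2 : (t * q' * t⁻¹) * q = y * (q * (t * q' * t⁻¹)) := by
          calc (t * q' * t⁻¹) * q = t * (q' * (t⁻¹ * q * t)) * t⁻¹ := by group
            _ = t * (z * ((t⁻¹ * q * t) * q')) * t⁻¹ := by rw [h1]
            _ = (t * z * t⁻¹) * (q * (t * q' * t⁻¹)) := by group
            _ = y * (q * (t * q' * t⁻¹)) := by rw [htz]
        rw [h2, ← mul_assoc z y] at h
        have h3 : (1 : G) * (q * (t * q' * t⁻¹)) = (z * y) * (q * (t * q' * t⁻¹)) := by rw [one_mul]; exact h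
        have h4 := (mul_right_cancel h3).symm
        apply hyz
        have h5 : y = z⁻¹ := eq_inv_of_mul_eq_one_right h4
        rw [h5, hzi]
  -- `Qs^t ≤ Y`
  have hab : ∀ q ∈ Qs, ∀ q' ∈ Qs, q * q' = q' * q := by
    intro q hq q' hq'
    have h1 := hcen _ (hsub q hq).1 (fun a ha => hcomm a ha q hq)
    have h2 := hcen _ (hsub q' hq').1 (fun a ha => hcomm a ha q' hq')
    have h3 : (t * q * t⁻¹) * (t * q' * t⁻¹) = (t * q' * t⁻¹) * (t * q * t⁻¹) := by
      have hyy : ∀ u, (u = 1 ∨ u = z ∨ u = y ∨ u = y * z) → u * y = y * u ∧ u * z = z * u := by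
        rintro u (rfl | rfl | rfl | rfl)
        · exact ⟨by rw [one_mul, mul_one], by rw [one_mul, mul_one]⟩
        · exact ⟨hyzc.symm, rfl⟩
        · exact ⟨rfl, hyzc⟩
        · exact ⟨by rw [mul_assoc, ← hyzc], by rw [hyzc, mul_assoc, hyzc]⟩
      obtain ⟨h4, h5⟩ := hyy _ h1
      rcases h2 with h | h | h | h
      · rw [h, one_mul, mul_one]
      · rw [h]; exact h5
      · rw [h]; exact h4
      · rw [h, ← mul_assoc, h4, mul_assoc, h5, ← mul_assoc]
    calc q * q' = t⁻¹ * ((t * q * t⁻¹) * (t * q' * t⁻¹)) * t := by group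
      _ = t⁻¹ * ((t * q' * t⁻¹) * (t * q * t⁻¹)) * t := by rw [h3]
      _ = q' * q := by group
  obtain ⟨a, ha, b, hb, hab'⟩ := hna
  exact hab' (hab a ha b hb)

end Cfsg.Agent.Omega.NOne.AG.LemY

end

-- merged: Cfsg.Agent.Mrg.Omega.NOne.AG.LabY
section

section


/-!
# THEOREM D0ag (#15001): LEMMA Y (4) on the structures `Base`, `Lab`; helper950

* `LabY.d8` : the permutations fixing `z_{01|23}`;
* `LabY.not_conj` : **LEMMA Y**: no `y a b` is conjugate to a `z i`.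
-/

set_option autoImplicit false

namespace Cfsg.Agent.Omega.NOne.AG.LabY

open Subgroup Cfsg Cfsg.Agent.ZN Cfsg.Agent.Omega.NOne.AG
open Cfsg.Agent.Omega.NOne.AG.FiveDl (Ys Yt ac ph par)

universe u

/-! ### permutations -/

theorem ext5 {σ τ : Equiv.Perm (Fin 5)} (h0 : σ 0 = τ 0) (h1 : σ 1 = τ 1) (h2 : σ 2 = τ 2) (h3 : σ 3 = τ 3)
    (h4 : σ 4 = τ 4) : σ = τ := by
  ext x
  fin_cases x
  · exact congrArg _ h0
  · exact congrArg _ h1
  · exact congrArg _ h2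
  · exact congrArg _ h3
  · exact congrArg _ h4

/-- `(0 2)(1 3)` -/
def tt : Equiv.Perm (Fin 5) := Equiv.swap 0 2 * Equiv.swap 1 3

/-- the eight tuples -/
def tups : List (Fin 5 × Fin 5 × Fin 5 × Fin 5 × Fin 5) :=
  [(0, 1, 2, 3, 4), (1, 0, 2, 3, 4), (0, 1, 3, 2, 4), (1, 0, 3, 2, 4),
    (2, 3, 0, 1, 4), (3, 2, 0, 1, 4), (2, 3, 1, 0, 4), (3, 2, 1, 0, 4)]

theorem tup : ∀ a b c d e : Fin 5, D5 a b c d e → Yt a b ^^^ Yt c d = 5 → (a, b, c, d, e) ∈ tups := by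
  decide

/-- the stabiliser of `z_{01|23}` -/
theorem d8 {σ : Equiv.Perm (Fin 5)} (h : Yt (σ 0) (σ 1) ^^^ Yt (σ 2) (σ 3) = 5) :
    (σ = 1 ∨ σ = Equiv.swap 0 1 ∨ σ = Equiv.swap 2 3 ∨ σ = Equiv.swap 0 1 * Equiv.swap 2 3) ∨
    (σ = tt ∨ σ = tt * Equiv.swap 0 1 ∨ σ = tt * Equiv.swap 2 3 ∨ σ = tt * (Equiv.swap 0 1 * Equiv.swap 2 3)) := by
  have hD : D5 (σ 0) (σ 1) (σ 2) (σ 3) (σ 4) := D5.map (show D5 0 1 2 3 4 by decide) σ
  have h5 := tup _ _ _ _ _ hD h
  simp only [tups, List.mem_cons, Prod.mk.injEq, List.not_mem_nil, or_false] at h5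
  rcases h5 with h1 | h1 | h1 | h1 | h1 | h1 | h1 | h1 <;> obtain ⟨h0, h1, h2, h3, h4⟩ := h1
  · exact Or.inl (Or.inl (ext5 h0 h1 h2 h3 h4))
  · exact Or.inl (Or.inr (Or.inl (ext5 (h0.trans (by decide)) (h1.trans (by decide)) (h2.trans (by decide))
      (h3.trans (by decide)) (h4.trans (by decide)))))
  · exact Or.inl (Or.inr (Or.inr (Or.inl (ext5 (h0.trans (by decide)) (h1.trans (by decide)) (h2.trans (by decide))
      (h3.trans (by decide)) (h4.trans (by decide))))))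
  · exact Or.inl (Or.inr (Or.inr (Or.inr (ext5 (h0.trans (by decide)) (h1.trans (by decide)) (h2.trans (by decide))
      (h3.trans (by decide)) (h4.trans (by decide))))))
  · exact Or.inr (Or.inl (ext5 (h0.trans (by decide)) (h1.trans (by decide)) (h2.trans (by decide))
      (h3.trans (by decide)) (h4.trans (by decide))))
  · exact Or.inr (Or.inr (Or.inl (ext5 (h0.trans (by decide)) (h1.trans (by decide)) (h2.trans (by decide))
      (h3.trans (by decide)) (h4.trans (by decide)))))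
  · exact Or.inr (Or.inr (Or.inr (Or.inl (ext5 (h0.trans (by decide)) (h1.trans (by decide)) (h2.trans (by decide))
      (h3.trans (by decide)) (h4.trans (by decide))))))
  · exact Or.inr (Or.inr (Or.inr (Or.inr (ext5 (h0.trans (by decide)) (h1.trans (by decide)) (h2.trans (by decide))
      (h3.trans (by decide)) (h4.trans (by decide))))))

variable {G : Type u} [Group G] {ι : Type*}

theorem o2_conj' {L : Subgroup G} {g x : G} (hg : g ∈ normalizer (L : Set G)) (hx : x ∈ o2 L) :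
    g * x * g⁻¹ ∈ o2 L := by
  have h : (o2 L).map (MulAut.conj g).toMonoidHom ≤ o2 L := by
    refine Cfsg.Agent.MinSimple.VModule.le_o2 ?_ ((Cfsg.Agent.MinSimple.VModule.o2_isPGroup L).map _)
      (le_norm_of ?_)
    · rintro _ ⟨y, hy, rfl⟩
      exact (mem_normalizer_iff.1 hg y).1 (Cfsg.Agent.MinSimple.VModule.o2_le L hy)
    · rintro y hy _ ⟨z, hz, rfl⟩
      have h1 : g⁻¹ * y * g ∈ L := (mem_normalizer_iff''.1 hg y).1 hy
      refine ⟨(g⁻¹ * y * g) * z * (g⁻¹ * y * g)⁻¹, ?_, ?_⟩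
      · exact (mem_normalizer_iff.1 (Cfsg.Agent.MinSimple.VModule.le_normalizer_o2 L h1) z).1 hz
      · change g * ((g⁻¹ * y * g) * z * (g⁻¹ * y * g)⁻¹) * g⁻¹ = y * (g * z * g⁻¹) * y⁻¹
        group
  exact h ⟨x, hx, rfl⟩

section

variable {P V T : Subgroup G} {z : ι → G} {opp : ι → ι → Prop} {C Q QF Qs : ι → Subgroup G}
variable {h : Conf P V T z opp C Q QF Qs} {y : Fin 5 → Fin 5 → G}
  {pt : Fin 5 → Fin 5 → Fin 5 → Fin 5 → ι}
variable (L : Lab h y pt)
include L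

theorem z_code {a b c d : Fin 5} (hD : D4 a b c d) : z (pt a b c d) = ph y (Yt a b ^^^ Yt c d) := by
  rw [L.z_eq a b c d hD, ← L.ys.mul, L.ys.yt hD.1, L.ys.yt hD.2.2.2.2.2]

/-- the points are all the elements of `V#` -/
theorem exists_pt {v : G} (hv : v ∈ V) (hv1 : v ≠ 1) : ∃ a b c d, D4 a b c d ∧ v = z (pt a b c d) := by
  obtain ⟨w, hw, hp, rfl⟩ := L.V_code hv
  by_cases h0 : w = 0
  · subst h0; exact absurd FiveDl.ph_zero hv1
  · obtain ⟨a, b, c, d, hD, rfl⟩ := FiveDl.even_cases w hw h0 hp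
    exact ⟨a, b, c, d, hD, (z_code L hD).symm⟩

omit L in
/-- two elements with the same action differ by an element of `C_P(V)` -/
theorem same_act (L : Lab h y pt) {x x' : G} {σ : Equiv.Perm (Fin 5)} (h1 : Ov P y σ x) (h2 : Ov P y σ x') :
    x * x'⁻¹ ∈ P ∧ ∀ v ∈ V, (x * x'⁻¹) * v = v * (x * x'⁻¹) := by
  refine ⟨mul_mem h1.1 (inv_mem h2.1), fun v hv => L.comm_V (x := x * x'⁻¹) ?_ v hv⟩
  have h3 := FiveDl.Ov.mul (Lab.ov h1) (FiveDl.Ov.inv (Lab.ov h2))
  rwa [mul_inv_cancel] at h3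

/-- the elements of `P` commuting with `z_{01|23}` -/
theorem ov_z {x : G} (hx : x ∈ P) (hxz : x * z (pt 0 1 2 3) = z (pt 0 1 2 3) * x) :
    ∃ σ, Ov P y σ x ∧ Yt (σ 0) (σ 1) ^^^ Yt (σ 2) (σ 3) = 5 := by
  obtain ⟨σ, hσ⟩ := L.act x hx
  refine ⟨σ, hσ, ?_⟩
  have hD : D4 0 1 2 3 := by decide
  have h1 : x * z (pt 0 1 2 3) * x⁻¹ = z (pt 0 1 2 3) := by rw [hxz]; group
  have h2 : x * z (pt 0 1 2 3) * x⁻¹ = y (σ 0) (σ 1) * y (σ 2) (σ 3) := by
    rw [L.z_eq 0 1 2 3 hD, ← hσ.2 0 1 (by decide), ← hσ.2 2 3 (by decide)]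
    group
  have hD' := hD.map σ
  rw [h1, z_code L hD, ← L.ys.yt hD'.1, ← L.ys.yt hD'.2.2.2.2.2, L.ys.mul] at h2
  have h3 := L.ph_inj (by decide) (Nat.xor_lt_two_pow (n := 5) (FiveDl.Yt_lt _ _) (FiveDl.Yt_lt _ _)) h2
  rw [← h3]
  decide

/-- the codes of the points opposite to `z_{01|23}` -/
theorem opp_code {i : ι} (hi : opp (pt 0 1 2 3) i) :
    z i = ph y 30 ∨ z i = ph y 15 ∨ z i = ph y 18 ∨ z i = ph y 6 ∨ z i = ph y 3 ∨ z i = ph y 10 ∨
      z i = ph y 23 ∨ z i = ph y 27 := by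
  rw [L.opp_iff 0 1 2 3 4 (by decide)] at hi
  rcases hi with rfl | rfl | rfl | rfl | rfl | rfl | rfl | rfl
  · exact Or.inl (z_code L (by decide))
  · exact Or.inr (Or.inl (z_code L (by decide)))
  · exact Or.inr (Or.inr (Or.inl (z_code L (by decide))))
  · exact Or.inr (Or.inr (Or.inr (Or.inl (z_code L (by decide)))))
  · exact Or.inr (Or.inr (Or.inr (Or.inr (Or.inl (z_code L (by decide))))))
  · exact Or.inr (Or.inr (Or.inr (Or.inr (Or.inr (Or.inl (z_code L (by decide)))))))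
  · exact Or.inr (Or.inr (Or.inr (Or.inr (Or.inr (Or.inr (Or.inl (z_code L (by decide))))))))
  · exact Or.inr (Or.inr (Or.inr (Or.inr (Or.inr (Or.inr (Or.inr (z_code L (by decide))))))))

omit L in
theorem Ecodes : ∀ w < 32, w ∈ [0, 5, 29, 24, 12, 9, 20, 17] → par w = false ∧
    w ∉ [30, 15, 18, 6, 3, 10, 23, 27] := by decide

omit L in
theorem Ecodes' : ∀ w < 32, par w = false → w ∉ [0, 5, 29, 24, 12, 9, 20, 17] →
    w ^^^ 30 ∈ [0, 5, 29, 24, 12, 9, 20, 17] := by decide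

/-- `E = z^⊥` -/
theorem mem_Q {w : ℕ} (hw : w < 32) (hw' : w ∈ [0, 5, 29, 24, 12, 9, 20, 17]) : ph y w ∈ Q (pt 0 1 2 3) := by
  obtain ⟨hp, hn⟩ := Ecodes w hw hw'
  by_cases h0 : w = 0
  · subst h0; rw [FiveDl.ph_zero]; exact one_mem _
  · obtain ⟨a, b, c, d, hD, hc⟩ := FiveDl.even_cases w hw h0 hp
    by_contra hQ
    have h1 : z (pt a b c d) = ph y w := by rw [z_code L hD, hc]
    rw [← h1] at hQ
    apply hn
    rcases opp_code L ((h.opp_iff _ _).2 hQ) with h2 | h2 | h2 | h2 | h2 | h2 | h2 | h2 <;>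
    · rw [h1] at h2
      rw [L.ph_inj hw (by norm_num) h2]
      decide

/-- `z_{02|14}` is opposite -/
theorem not_mem_Q30 : ph y 30 ∉ Q (pt 0 1 2 3) := by
  have h1 : z (pt 0 2 1 4) = ph y 30 := z_code L (by decide)
  rw [← h1, ← h.opp_iff, L.opp_iff 0 1 2 3 4 (by decide)]
  exact Or.inl rfl

theorem mem_Q_iff {w : ℕ} (hw : w < 32) (hp : par w = false) :
    ph y w ∈ Q (pt 0 1 2 3) ↔ w ∈ [0, 5, 29, 24, 12, 9, 20, 17] := by
  refine ⟨fun hQ => ?_, mem_Q L hw⟩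
  by_contra hn
  have h1 := mem_Q L (Nat.xor_lt_two_pow (n := 5) hw (by norm_num)) (Ecodes' w hw hp hn)
  rw [← L.ys.mul] at h1
  have h2 := mul_mem (inv_mem hQ) h1
  rw [inv_mul_cancel_left] at h2
  exact not_mem_Q30 L h2

/-- an element of `Q_i` over `⟨(01), (23)⟩` is in `QF_i` -/
theorem mem_QF {x : G} (hx : x ∈ Q (pt 0 1 2 3)) {σ : Equiv.Perm (Fin 5)} (hσ : Ov P y σ x)
    (h4 : σ = 1 ∨ σ = Equiv.swap 0 1 ∨ σ = Equiv.swap 2 3 ∨ σ = Equiv.swap 0 1 * Equiv.swap 2 3) :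
    x ∈ QF (pt 0 1 2 3) := by
  obtain ⟨a, ha, ha'⟩ := L.Qs_ex 0 1 2 3 (by decide)
  obtain ⟨b, hb, hb'⟩ := L.Qs_ex 2 3 0 1 (by decide)
  rw [← L.pt2 0 1 2 3 (by decide)] at hb
  obtain ⟨x', hx', hx''⟩ : ∃ x' ∈ Qs (pt 0 1 2 3), Ov P y σ x' := by
    rcases h4 with rfl | rfl | rfl | rfl
    · exact ⟨1, one_mem _, one_mem _, fun a b _ => by simp⟩
    · exact ⟨a, ha, ha'⟩
    · exact ⟨b, hb, hb'⟩
    · exact ⟨a * b, mul_mem ha hb, mul_mem ha'.1 hb'.1, FiveDl.Ov.mul ha'.2 hb'.2⟩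
  obtain ⟨-, hc⟩ := same_act L hσ hx''
  set c := x * x'⁻¹ with hcd
  have hxc : x = c * x' := by rw [hcd]; group
  refine h.QQF _ x hx fun v hv hvQ => ?_
  rcases h.com _ v (h.VQs _ v hv hvQ) x' (h.QsQF _ hx') with h1 | h1
  · left
    rw [hxc, mul_assoc, ← h1, ← mul_assoc, hc v hv, mul_assoc]
  · right
    have h2 : x' * v = z (pt 0 1 2 3) * (v * x') := by
      rw [h1, ← mul_assoc, h.sq, one_mul]
    calc x * v = c * (x' * v) := by rw [hxc]; group
      _ = (c * z (pt 0 1 2 3)) * (v * x') := by rw [h2]; group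
      _ = z (pt 0 1 2 3) * (c * v) * x' := by rw [hc _ (h.zV _)]; group
      _ = z (pt 0 1 2 3) * (v * x) := by rw [hc v hv, hxc]; group

/-- `Qs` is nonabelian -/
theorem nonab : ∃ a ∈ Qs (pt 0 1 2 3), ∃ b ∈ Qs (pt 0 1 2 3), a * b ≠ b * a := by
  by_contra hcon
  push Not at hcon
  have h1 := L.ph_V (w := 29) (by norm_num) (by decide)
  have h2 := mem_Q L (w := 29) (by norm_num) (by decide)
  rcases h.fixE _ _ h1 (fun x hx => hcon x hx _ (h.VQs _ _ h1 h2)) with h3 | h3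
  · rw [← FiveDl.ph_zero (y := y)] at h3
    exact absurd (L.ph_inj (by norm_num) (by norm_num) h3) (by norm_num)
  · rw [z_code L (by decide)] at h3
    exact absurd (L.ph_inj (by norm_num) (by decide) h3) (by decide)

end

section

variable [Finite G] {S : Sylow 2 G} {P V T : Subgroup G} {z : ι → G} {opp : ι → ι → Prop}
  {C Q QF Qs : ι → Subgroup G} {y : Fin 5 → Fin 5 → G} {pt : Fin 5 → Fin 5 → Fin 5 → Fin 5 → ι}
variable (h : Base S P V T z opp C Q QF Qs (pt 0 1 2 3)) (L : Lab h.toConf y pt)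
include h L

theorem hC : C (pt 0 1 2 3) ⊓ centralizer (o2 (C (pt 0 1 2 3)) : Set G) ≤ o2 (C (pt 0 1 2 3)) := by
  rw [← h.Qo2]
  intro c hc
  exact h.char2 _ c (mem_inf.1 hc).1 fun x hx => ((mem_centralizer_iff.1 (mem_inf.1 hc).2) x hx).symm

/-- some element of `S` acts as `(02)(13)` -/
theorem exists_s : ∃ s ∈ (S : Subgroup G), Ov P y tt s := by
  obtain ⟨m, hm⟩ := L.full tt
  have hmz : m * z (pt 0 1 2 3) * m⁻¹ = z (pt 0 1 2 3) := by
    rw [L.z_eq 0 1 2 3 (by decide)]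
    calc m * (y 0 1 * y 2 3) * m⁻¹ = (m * y 0 1 * m⁻¹) * (m * y 2 3 * m⁻¹) := by group
      _ = y 2 3 * y 0 1 := by
        rw [hm.2 0 1 (by decide), hm.2 2 3 (by decide)]
        rfl
      _ = y 0 1 * y 2 3 := L.comm _ _ _ _ (by decide) (by decide)
  obtain ⟨s, hs, c, hc, hcV, hsc⟩ := h.stab m hm.1 (mul_inv_eq_iff_eq_mul.1 hmz)
  refine ⟨s, hs, h.S_le_P hs, fun a b hab => ?_⟩
  haveI : Nonempty ι := L.nonempty
  have h1 : c * y a b = y a b * c := h.Dl_comm hc hcV (L.y_mem_Dl hab)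
  have h2 : c * y a b * c⁻¹ = y a b := by rw [h1]; group
  rw [← hm.2 a b hab, hsc]
  calc s * y a b * s⁻¹ = s * (c * y a b * c⁻¹) * s⁻¹ := by rw [h2]
    _ = _ := by group

/-- **LEMMA Y** at the base point -/
theorem not_conj0 : ¬ IsConj (y 0 1) (z (pt 0 1 2 3)) := by
  have hD : D4 0 1 2 3 := by decide
  have hyz : y 0 1 * z (pt 0 1 2 3) = y 2 3 := by
    rw [L.z_eq 0 1 2 3 hD, ← mul_assoc, L.sq 0 1 (by decide), one_mul]
  have hyB := L.y_mem_B hD
  have hBc : ∀ c ∈ C (pt 0 1 2 3), c * y 0 1 * c⁻¹ = y 0 1 ∨ c * y 0 1 * c⁻¹ = y 2 3 := by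
    intro c hc
    have h1 := norm_conj (h.B_norm (pt 0 1 2 3)) hc hyB
    rcases (L.B_eq hD).1 h1 with h2 | h2 | h2 | h2
    · exact absurd (conj_eq_one_iff.1 h2) (L.ne_one 0 1 (by decide))
    · exfalso
      apply L.notV 0 1 (by decide)
      have h3 : y 0 1 = c⁻¹ * z (pt 0 1 2 3) * c := by rw [← h2]; group
      have h4 : c⁻¹ * z (pt 0 1 2 3) * c = z (pt 0 1 2 3) := by
        rw [mul_assoc, ← h.Cz _ c hc]; group
      rw [h3, h4]
      exact h.zV _
    · exact Or.inl h2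
    · exact Or.inr h2
  have hcomm : ∀ c ∈ C (pt 0 1 2 3), (c * y 0 1 = y 0 1 * c ↔ c * y 0 1 * c⁻¹ = y 0 1) := fun c _ =>
    ⟨fun h1 => by rw [h1]; group, fun h1 => mul_inv_eq_iff_eq_mul.1 h1⟩
  obtain ⟨s, hs, hsσ⟩ := exists_s h L
  have hsy : s * y 0 1 * s⁻¹ = y 2 3 := hsσ.2 0 1 (by decide)
  refine LemY.lemmaY S (h.ne_one _) (h.sq _) (L.ne_one 0 1 (by decide)) (L.sq 0 1 (by decide))
    (fun e => L.notV 0 1 (by decide) (by rw [e]; exact h.zV _)) h.omega (C := C (pt 0 1 2 3))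
    (QF := QF (pt 0 1 2 3)) (Qs := Qs (pt 0 1 2 3)) (Q := o2 (centralizer ({z (pt 0 1 2 3)} : Set G)))
    h.S_le_C (fun c hc => h.Cz _ c hc) ((h.QFQ _).trans h.Q_le) (h.QsQF _) (h.QsQF _ (h.z_mem_Qs _))
    (h.mem_B.1 hyB).1 ?_ ?_ ?_ ?_ ?_ (Cfsg.Agent.MinSimple.VModule.o2_isPGroup _) ?_ h.Qs_le (nonab L) hs
    (by rw [hsy, hyz]) ?_
  · -- `QF` commutes with `y`
    intro x hx
    obtain ⟨w, hw, e⟩ := L.QF_eq hD hx
    have h1 : w * y 0 1 = y 0 1 * w := ((h.mem_B.1 hyB).2 w hw).symm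
    rcases e with rfl | rfl
    · exact h1
    · rw [mul_assoc, L.sq 0 1 (by decide), mul_one, ← mul_assoc, ← h1, mul_assoc, L.sq 0 1 (by decide), mul_one]
  · -- `O₂(C_C(y)) ≤ QF`
    intro N hNC hNy hN hNn
    set C₀ : Subgroup G := C (pt 0 1 2 3) ⊓ centralizer ({y 0 1} : Set G) with hC₀
    have hmC₀ : ∀ x, x ∈ C₀ ↔ x ∈ C (pt 0 1 2 3) ∧ x * y 0 1 = y 0 1 * x := by
      intro x
      rw [hC₀, mem_inf, mem_centralizer_singleton_iff]
    have h1 : N ≤ o2 C₀ := Cfsg.Agent.MinSimple.VModule.le_o2 (fun n hn => (hmC₀ n).2 ⟨hNC hn, hNy n hn⟩) hN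
      (le_norm_of fun c hc n hn => hNn c ((hmC₀ c).1 hc).1 ((hmC₀ c).1 hc).2 n hn)
    have hn0 : C (pt 0 1 2 3) ≤ normalizer (C₀ : Set G) := by
      refine le_norm_of fun c hc x hx => ?_
      obtain ⟨hxC, hxy⟩ := (hmC₀ x).1 hx
      refine (hmC₀ _).2 ⟨mul_mem (mul_mem hc hxC) (inv_mem hc), ?_⟩
      have hci : c⁻¹ ∈ C (pt 0 1 2 3) := inv_mem hc
      have hxz : x * z (pt 0 1 2 3) = z (pt 0 1 2 3) * x := h.Cz _ x hxC
      have hx23 : x * y 2 3 = y 2 3 * x := by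
        rw [← hyz, ← mul_assoc, hxy, mul_assoc, hxz, mul_assoc]
      have h2 : c⁻¹ * y 0 1 * c = y 0 1 ∨ c⁻¹ * y 0 1 * c = y 2 3 := by
        have := hBc c⁻¹ hci
        rwa [inv_inv] at this
      have h3 : x * (c⁻¹ * y 0 1 * c) = (c⁻¹ * y 0 1 * c) * x := by
        rcases h2 with h2 | h2 <;> rw [h2] <;> assumption
      calc c * x * c⁻¹ * y 0 1 = c * (x * (c⁻¹ * y 0 1 * c)) * c⁻¹ := by group
        _ = c * ((c⁻¹ * y 0 1 * c) * x) * c⁻¹ := by rw [h3]
        _ = y 0 1 * (c * x * c⁻¹) := by group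
    have h2 : o2 C₀ ≤ Q (pt 0 1 2 3) := by
      rw [h.Qo2]
      refine Cfsg.Agent.MinSimple.VModule.le_o2 ((Cfsg.Agent.MinSimple.VModule.o2_le _).trans inf_le_left)
        (Cfsg.Agent.MinSimple.VModule.o2_isPGroup _) (le_norm_of fun c hc x hx => ?_)
      exact o2_conj' (hn0 hc) hx
    intro x hx
    have hxQ := h2 (h1 hx)
    have hxP := h.QP _ hxQ
    obtain ⟨σ, hσ, h5⟩ := ov_z L hxP (h.Cz _ x (hNC hx))
    refine mem_QF L hxQ hσ ?_
    rcases d8 h5 with h6 | h6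
    · exact h6
    · exfalso
      have h7 : x * y 0 1 * x⁻¹ = y 0 1 := by rw [hNy x hx]; group
      rw [hσ.2 0 1 (by decide)] at h7
      have h8 := L.inj _ _ _ _ (fun e => absurd (σ.injective e) (by decide)) (by decide) h7
      revert h8
      rcases h6 with rfl | rfl | rfl | rfl <;> decide
  · -- self-centralising
    intro u hu huc
    have huP := h.S_le_P hu
    have huV : ∀ v ∈ V, u * v = v * u := h.faith _ u huP fun v hv hvQ =>
      (huc v (h.QsQF _ (h.VQs _ v hv hvQ))).symm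
    have huT := h.mem_T hu huV
    have huC := h.S_le_C hu
    have huQ : u ∈ Q (pt 0 1 2 3) := by
      rw [h.Qo2]
      refine K.chain2 (hC h L) (R := QF (pt 0 1 2 3)) (fun c hc a ha => norm_conj (h.nQF _) hc ha)
        (by rw [← h.Qo2]; exact h.QFQ _) huC ?_ (fun a ha => (huc a ha).symm)
      intro a ha
      rw [← h.Qo2] at ha
      by_cases haF : a ∈ QF (pt 0 1 2 3)
      · rw [← huc a haF, mul_inv_cancel_right, mul_inv_cancel]
        exact one_mem _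
      · have h1 : u * a * u⁻¹ ∈ Q (pt 0 1 2 3) := norm_conj (h.nQ _) huC ha
        refine h.QF2 _ _ h1 _ (inv_mem ha) (fun hc => haF ?_) (fun hc => haF (inv_mem_iff.1 hc))
        have h2 := norm_conj (h.nQF _) (inv_mem huC) hc
        rwa [inv_inv, show u⁻¹ * (u * a * u⁻¹) * u = a by group] at h2
    exact h.Tt_QF (h.mem_Tt.2 ⟨huT, huQ⟩)
  · -- `C_QF(Qs) = ⟨z, y⟩`
    intro x hx hxc
    rcases (L.B_eq hD).1 (h.mem_B.2 ⟨hx, fun q hq => (hxc q hq).symm⟩) with h1 | h1 | h1 | h1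
    · exact Or.inl h1
    · exact Or.inr (Or.inl h1)
    · exact Or.inr (Or.inr (Or.inl h1))
    · exact Or.inr (Or.inr (Or.inr (h1.trans hyz.symm)))
  · exact fun q hq x hx => h.com _ q hq x hx
  · intro c hc q hq
    exact (mem_normalizer_iff.1 (Cfsg.Agent.MinSimple.VModule.le_normalizer_o2 _
      (mem_centralizer_singleton_iff.2 hc)) q).1 hq
  · intro a ha
    rcases hBc a (h.S_le_C ha) with h1 | h1
    · exact Or.inl (mul_inv_eq_iff_eq_mul.1 h1)
    · right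
      have h2 : s * y 2 3 * s⁻¹ = y 0 1 := hsσ.2 2 3 (by decide)
      have h3 : (s * a) * y 0 1 * (s * a)⁻¹ = y 0 1 := by
        calc (s * a) * y 0 1 * (s * a)⁻¹ = s * (a * y 0 1 * a⁻¹) * s⁻¹ := by group
          _ = y 0 1 := by rw [h1, h2]
      exact mul_inv_eq_iff_eq_mul.1 h3

end

/-- **LEMMA Y**: no `y a b` is conjugate to a point. -/
theorem not_conj [Finite G] {S : Sylow 2 G} {P V T : Subgroup G} {z : ι → G} {opp : ι → ι → Prop}
    {C Q QF Qs : ι → Subgroup G} {y : Fin 5 → Fin 5 → G} {pt : Fin 5 → Fin 5 → Fin 5 → Fin 5 → ι}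
    {i₀ : ι} (h : Base S P V T z opp C Q QF Qs i₀) (L : Lab h.toConf y pt) {a b : Fin 5} (hab : a ≠ b)
    (i : ι) (x : G) : x * y a b * x⁻¹ ≠ z i := by
  obtain ⟨π, L', rfl⟩ := L.exists_base i₀
  have h1 := not_conj0 (y := fun a b => y (π a) (π b)) (pt := fun a b c d => pt (π a) (π b) (π c) (π d)) h L'
  intro e
  apply h1
  -- `y a b` is conjugate to `y (π 0) (π 1)`
  obtain ⟨σ, hσ0, hσ1⟩ : ∃ σ : Equiv.Perm (Fin 5), σ (π 0) = a ∧ σ (π 1) = b := by
    have h2 : π 0 ≠ π 1 := fun e => absurd (π.injective e) (by decide)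
    generalize π 0 = p at *
    generalize π 1 = q at *
    refine ⟨Equiv.swap (Equiv.swap p a q) b * Equiv.swap p a, ?_, ?_⟩
    · rw [Equiv.Perm.mul_apply, Equiv.swap_apply_left]
      refine Equiv.swap_apply_of_ne_of_ne (fun e => h2 ?_) hab
      have := congrArg (Equiv.swap p a) e
      rw [Equiv.swap_apply_self, Equiv.swap_apply_right] at this
      exact this
    · rw [Equiv.Perm.mul_apply, Equiv.swap_apply_left]
  obtain ⟨m, hm⟩ := L.full σ
  have h3 : m * y (π 0) (π 1) * m⁻¹ = y a b := by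
    rw [hm.2 _ _ (fun e => absurd (π.injective e) (by decide)), hσ0, hσ1]
  -- `z i` is conjugate to the base point
  obtain ⟨j, k, hj, -, -⟩ := h.tri (pt (π 0) (π 1) (π 2) (π 3))
  obtain ⟨n, -, hn⟩ := h.trans _ j hj i
  rw [isConj_iff]
  refine ⟨n⁻¹ * x * m, ?_⟩
  show n⁻¹ * x * m * y (π 0) (π 1) * (n⁻¹ * x * m)⁻¹ = z (pt (π 0) (π 1) (π 2) (π 3))
  calc n⁻¹ * x * m * y (π 0) (π 1) * (n⁻¹ * x * m)⁻¹ = n⁻¹ * (x * (m * y (π 0) (π 1) * m⁻¹) * x⁻¹) * n := by group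
    _ = n⁻¹ * z i * n := by rw [h3, e]
    _ = z (pt (π 0) (π 1) (π 2) (π 3)) := by rw [← hn]; group

/-- the form used in section (5) -/
theorem ly [Finite G] {S : Sylow 2 G} {P V T : Subgroup G} {z : ι → G} {opp : ι → ι → Prop}
    {C Q QF Qs : ι → Subgroup G} {y : Fin 5 → Fin 5 → G} {pt : Fin 5 → Fin 5 → Fin 5 → Fin 5 → ι}
    {i₀ : ι} (h : Base S P V T z opp C Q QF Qs i₀) (L : Lab h.toConf y pt) :
    ∀ a b, a ≠ b → ∀ x : G, x * y a b * x⁻¹ ≠ y 0 1 * y 2 3 := by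
  intro a b hab x
  rw [← L.z_eq 0 1 2 3 (by decide)]
  exact not_conj h L hab _ x

end Cfsg.Agent.Omega.NOne.AG.LabY

end

section


/-!
# THEOREM D0ag (bb #15001), section (5): `T₀ = Δ` from `Conf`, `Lab` and LEMMA Y

`FivePlug.T0_eq : Lab h y pt → LEMMA Y → h.T0 = h.Dl`, `FivePlug.T0_le` : the same from `Base`.
-/

set_option autoImplicit false

namespace Cfsg.Agent.Omega.NOne.AG.FivePlug

open Subgroup Cfsg Cfsg.Agent.ZN
open Cfsg.Agent.Omega.NOne.AG.FiveDl (Ys ph ac par Yt)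
open Cfsg.Agent.Omega.NOne.AG.GData (GD comm_of_odd)

universe u

variable {G : Type u} [Group G] {ι : Type*}

/-- three classes of three: `E` of order 8 cannot be covered by two cosets of `{1, z}` -/
theorem exists_over [Finite G] {E : Subgroup G} {z : G} (hE : Nat.card E = 8)
    (ov : Equiv.Perm (Fin 5) → G → Prop) (σ₁ σ₂ σ₃ : Equiv.Perm (Fin 5))
    (hov : ∀ e ∈ E, ov 1 e ∨ ov σ₁ e ∨ ov σ₂ e ∨ ov σ₃ e)
    (hmul : ∀ σ τ e f, ov σ e → ov τ f → ov (σ * τ) (e * f))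
    (hinv : ∀ σ e, ov σ e → ov σ⁻¹ e⁻¹)
    (h23 : σ₂ * σ₃ = σ₁) (hker : ∀ e ∈ E, ov 1 e → e = 1 ∨ e = z) : ∃ e ∈ E, ov σ₁ e := by
  by_contra hcon
  push Not at hcon
  -- all elements of `E` are over `1` or over one `τ`
  obtain ⟨a, ha⟩ : ∃ a : G, ∀ e ∈ E, (e = 1 ∨ e = z) ∨ (a⁻¹ * e = 1 ∨ a⁻¹ * e = z) := by
    have key : ∀ (τ : Equiv.Perm (Fin 5)) (a : G), a ∈ E → ov τ a → (∀ e ∈ E, ov 1 e ∨ ov τ e) →
        ∀ e ∈ E, (e = 1 ∨ e = z) ∨ (a⁻¹ * e = 1 ∨ a⁻¹ * e = z) := by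
      intro τ a ha haτ hall e he
      rcases hall e he with h1 | h1
      · exact Or.inl (hker e he h1)
      · right
        refine hker _ (mul_mem (inv_mem ha) he) ?_
        have h2 := hmul _ _ _ _ (hinv _ _ haτ) h1
        rwa [inv_mul_cancel] at h2
    by_cases h2 : ∃ a ∈ E, ov σ₂ a
    · obtain ⟨a, ha, h2⟩ := h2
      refine ⟨a, key σ₂ a ha h2 fun e he => ?_⟩
      rcases hov e he with h1 | h1 | h1 | h1
      · exact Or.inl h1
      · exact absurd h1 (hcon e he)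
      · exact Or.inr h1
      · exfalso
        have h3 := hmul _ _ _ _ h2 h1
        rw [h23] at h3
        exact hcon _ (mul_mem ha he) h3
    · push Not at h2
      by_cases h3 : ∃ a ∈ E, ov σ₃ a
      · obtain ⟨a, ha, h3⟩ := h3
        refine ⟨a, key σ₃ a ha h3 fun e he => ?_⟩
        rcases hov e he with h1 | h1 | h1 | h1
        · exact Or.inl h1
        · exact absurd h1 (hcon e he)
        · exact absurd h1 (h2 e he)
        · exact Or.inr h1
      · push Not at h3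
        refine ⟨1, fun e he => ?_⟩
        rcases hov e he with h1 | h1 | h1 | h1
        · exact Or.inl (hker e he h1)
        · exact absurd h1 (hcon e he)
        · exact absurd h1 (h2 e he)
        · exact absurd h1 (h3 e he)
  have hsub : (E : Set G) ⊆ {1, z, a, a * z} := by
    intro e he
    rcases ha e he with (h1 | h1) | (h1 | h1)
    · exact Or.inl h1
    · exact Or.inr (Or.inl h1)
    · right; right; left
      exact (inv_mul_eq_one.1 h1).symm
    · right; right; right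
      rw [Set.mem_singleton_iff, ← h1]; group
  have h1 := Set.ncard_le_ncard hsub (Set.toFinite _)
  have h2 : (E : Set G).ncard = 8 := by rw [← Nat.card_coe_set_eq]; exact hE
  have h3 : ({1, z, a, a * z} : Set G).ncard ≤ 4 := by
    refine (Set.ncard_insert_le _ _).trans ?_
    have h4 := Set.ncard_insert_le z ({a, a * z} : Set G)
    have h5 := Set.ncard_insert_le a ({a * z} : Set G)
    rw [Set.ncard_singleton] at h5
    omega
  omega

variable {P V T : Subgroup G} {z : ι → G} {opp : ι → ι → Prop} {C Q QF Qs : ι → Subgroup G}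
variable {h : Conf P V T z opp C Q QF Qs} {y : Fin 5 → Fin 5 → G}
  {pt : Fin 5 → Fin 5 → Fin 5 → Fin 5 → ι}

theorem Ecode : ∀ w < 32, w ∈ [0, 5, 29, 24, 12, 9, 20, 17] →
    ∃ b1 b2 b3 : Bool, w = (bif b1 then 5 else 0) ^^^ (bif b2 then 12 else 0) ^^^ (bif b3 then 20 else 0) := by
  decide

/-- `E = V ∩ Q` -/
theorem EE_eq (L : Lab h y pt) : FiveGrp.EE y = V ⊓ Q (pt 0 1 2 3) := by
  have hD : D4 (0 : Fin 5) 1 2 3 := by decide
  have e5 : y 0 1 * y 2 3 = ph y 5 := by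
    rw [← L.ys.yt (a := 0) (b := 1) (by decide), ← L.ys.yt (a := 2) (b := 3) (by decide), L.ys.mul]
    rfl
  have e12 : y 0 1 * y 2 4 = ph y 12 := by
    rw [← L.ys.yt (a := 0) (b := 1) (by decide), ← L.ys.yt (a := 2) (b := 4) (by decide), L.ys.mul]
    rfl
  have e20 : y 2 3 * y 0 4 = ph y 20 := by
    rw [← L.ys.yt (a := 2) (b := 3) (by decide), ← L.ys.yt (a := 0) (b := 4) (by decide), L.ys.mul]
    rfl
  apply le_antisymm
  · rw [FiveGrp.EE, closure_le]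
    rintro x (rfl | rfl | rfl)
    · rw [e5]
      exact ⟨L.ph_V (by norm_num) (by decide), LabY.mem_Q L (by norm_num) (by decide)⟩
    · rw [e12]
      exact ⟨L.ph_V (by norm_num) (by decide), LabY.mem_Q L (by norm_num) (by decide)⟩
    · rw [e20]
      exact ⟨L.ph_V (by norm_num) (by decide), LabY.mem_Q L (by norm_num) (by decide)⟩
  · intro v hv
    obtain ⟨hv1, hv2⟩ := mem_inf.1 hv
    obtain ⟨w, hw, hp, rfl⟩ := L.V_code hv1
    obtain ⟨b1, b2, b3, rfl⟩ := Ecode w hw ((LabY.mem_Q_iff L hw hp).1 hv2)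
    rw [← L.ys.mul, ← L.ys.mul]
    have g5 : ph y 5 ∈ FiveGrp.EE y := by rw [← e5]; exact FiveGrp.FiveE.zE
    have g12 : ph y 12 ∈ FiveGrp.EE y := by rw [← e12]; exact FiveGrp.FiveE.e1E
    have g20 : ph y 20 ∈ FiveGrp.EE y := by rw [← e20]; exact FiveGrp.FiveE.e2E
    have g0 : ph y 0 ∈ FiveGrp.EE y := by rw [FiveDl.ph_zero]; exact one_mem _
    refine mul_mem (mul_mem ?_ ?_) ?_
    · cases b1 <;> assumption
    · cases b2 <;> assumption
    · cases b3 <;> assumption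

/-- **(5)**: `T₀ = Δ` -/
theorem T0_eq [Finite G] (L : Lab h y pt)
    (ly : ∀ a b, a ≠ b → ∀ x : G, x * y a b * x⁻¹ ≠ z (pt 0 1 2 3)) : h.T0 = h.Dl := by
  have hD : D4 (0 : Fin 5) 1 2 3 := by decide
  have hzy := L.z_eq 0 1 2 3 hD
  obtain ⟨j, k, hij, -, -⟩ := h.tri (pt 0 1 2 3)
  have hjQ : z j ∉ Q (pt 0 1 2 3) := (h.opp_iff _ j).1 hij
  obtain ⟨g, hgC, hg⟩ := h.exists_g _ (h.zV j) hjQ
  have hEE := EE_eq L
  have hcon : ∀ e ∈ V ⊓ Q (pt 0 1 2 3), g * e * g⁻¹ ∈ Qs (pt 0 1 2 3) := fun e he =>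
    norm_conj (h.nQs _) hgC (h.VQs _ e (mem_inf.1 he).1 (mem_inf.1 he).2)
  have hker : ∀ e ∈ V ⊓ Q (pt 0 1 2 3), FiveDl.Ov y (g * e * g⁻¹) 1 →
      e = 1 ∨ e = z (pt 0 1 2 3) := by
    intro e he ho
    exact hg.ff e he fun e' he' => (L.comm_V ho e' (mem_inf.1 he').1).symm
  have hov : ∀ e ∈ V ⊓ Q (pt 0 1 2 3), FiveDl.Ov y (g * e * g⁻¹) 1 ∨
      FiveDl.Ov y (g * e * g⁻¹) (Equiv.swap 0 1) ∨ FiveDl.Ov y (g * e * g⁻¹) (Equiv.swap 2 3) ∨
      FiveDl.Ov y (g * e * g⁻¹) (Equiv.swap 0 1 * Equiv.swap 2 3) := by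
    intro e he
    rcases L.Qs_ov 0 1 2 3 hD _ (hcon e he) with h1 | h1 | h1 | h1
    · exact Or.inl h1.2
    · exact Or.inr (Or.inl h1.2)
    · exact Or.inr (Or.inr (Or.inl h1.2))
    · exact Or.inr (Or.inr (Or.inr h1.2))
  have hmul : ∀ (σ τ : Equiv.Perm (Fin 5)) (e f : G), FiveDl.Ov y (g * e * g⁻¹) σ →
      FiveDl.Ov y (g * f * g⁻¹) τ → FiveDl.Ov y (g * (e * f) * g⁻¹) (σ * τ) := by
    intro σ τ e f h1 h2
    have h3 := h1.mul h2
    have e1 : g * (e * f) * g⁻¹ = g * e * g⁻¹ * (g * f * g⁻¹) := by group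
    rwa [e1]
  have hinv : ∀ (σ : Equiv.Perm (Fin 5)) (e : G), FiveDl.Ov y (g * e * g⁻¹) σ →
      FiveDl.Ov y (g * e⁻¹ * g⁻¹) σ⁻¹ := by
    intro σ e h1
    have h3 := h1.inv
    have e1 : g * e⁻¹ * g⁻¹ = (g * e * g⁻¹)⁻¹ := by group
    rwa [e1]
  obtain ⟨α, hα, oα⟩ := exists_over hg.cardE (fun σ e => FiveDl.Ov y (g * e * g⁻¹) σ)
    (Equiv.swap 0 1) (Equiv.swap 2 3) (Equiv.swap 0 1 * Equiv.swap 2 3) hov hmul hinv (by decide) hker
  obtain ⟨β, hβ, oβ⟩ := exists_over hg.cardE (fun σ e => FiveDl.Ov y (g * e * g⁻¹) σ)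
    (Equiv.swap 2 3) (Equiv.swap 0 1) (Equiv.swap 0 1 * Equiv.swap 2 3)
    (fun e he => by rcases hov e he with h1 | h1 | h1 | h1 <;> tauto) hmul hinv (by decide) hker
  -- `g` commutes with `y 0 1`, `y 2 3`
  have s1 := L.sq 0 1 (by decide)
  have s2 := L.sq 2 3 (by decide)
  have c1 := L.comm 0 1 2 3 (by decide) (by decide)
  have hgz : g * (y 0 1 * y 2 3) * g⁻¹ = y 0 1 * y 2 3 := by rw [← hzy, hg.gz]; group
  have hprod : (g * y 0 1 * g⁻¹) * (g * y 2 3 * g⁻¹) = y 0 1 * y 2 3 := by rw [← hgz]; group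
  have g01 : g * y 0 1 = y 0 1 * g := by
    have hB := norm_conj (h.B_norm _) hgC (L.y_mem_B hD)
    rcases (L.B_eq hD).1 hB with h1 | h1 | h1 | h1
    · exfalso
      apply L.ne_one 0 1 (by decide)
      have : y 0 1 = g⁻¹ * (g * y 0 1 * g⁻¹) * g := by group
      rw [this, h1]; group
    · exfalso
      apply L.ne_one 2 3 (by decide)
      rw [hzy] at h1
      have h4 : g * y 0 1 * g⁻¹ = g * (y 0 1 * y 2 3) * g⁻¹ := by rw [h1, hgz]
      have h6 := mul_right_cancel h4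
      exact (mul_eq_left.1 (mul_left_cancel h6).symm)
    · calc g * y 0 1 = g * y 0 1 * g⁻¹ * g := by group
        _ = y 0 1 * g := by rw [h1]
    · refine comm_of_odd hg.odd ?_
      have h2 : g * y 2 3 * g⁻¹ = y 0 1 := by
        rw [h1, c1] at hprod
        exact mul_left_cancel hprod
      calc g * g * y 0 1 = g * (g * y 0 1 * g⁻¹) * g := by group
        _ = g * y 2 3 * g⁻¹ * (g * g) := by rw [h1]; group
        _ = y 0 1 * (g * g) := by rw [h2]
  have g23 : g * y 2 3 = y 2 3 * g := by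
    have h1 : g * y 0 1 * g⁻¹ = y 0 1 := by rw [g01]; group
    rw [h1] at hprod
    have h2 := mul_left_cancel hprod
    calc g * y 2 3 = g * y 2 3 * g⁻¹ * g := by group
      _ = _ := by rw [h2]
  have hfin : FiveGrp.FiveE P h.T0 y (QG h) g α β :=
    { L.five with
      EQ := by
        rw [L.QG' hD, hEE]
        exact fun e he => h.VQs _ e (mem_inf.1 he).1 (mem_inf.1 he).2
      gQ := fun q hq => by
        rw [L.QG' hD] at hq ⊢
        exact norm_conj (h.nQs _) hgC hq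
      gQ' := fun q hq => by
        rw [L.QG' hD] at hq ⊢
        have h1 := norm_conj (h.nQs _) (inv_mem hgC) hq
        rwa [inv_inv] at h1
      g01 := g01
      g23 := g23
      αE := by rw [hEE]; exact hα
      βE := by rw [hEE]; exact hβ
      oα := oα
      oβ := oβ
      cap := fun x hx hT => by
        rw [hEE] at hx
        have h1 := hg.ff x hx fun e' he' => (h.TV _ (h.T0_le_T hT) e' (mem_inf.1 he').1).symm
        rcases h1 with rfl | rfl
        · left; group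
        · right; rw [hzy, hgz]
      ly := fun a b hab x => by rw [← hzy]; exact ly a b hab x }
  rw [hfin.T0_eq, L.Dl_eq]

/-- **(5)** for `Base`. -/
theorem T0_le [Finite G] {S : Sylow 2 G} {i₀ : ι} (hb : Base S P V T z opp C Q QF Qs i₀)
    (L : Lab hb.toConf y pt) : hb.toConf.T0 ≤ hb.toConf.Dl :=
  (T0_eq L fun _ _ hab x => LabY.not_conj hb L hab _ x).le

end Cfsg.Agent.Omega.NOne.AG.FivePlug

end

section


/-!
# THEOREM D0ag (#15001), section (7): `Base` + `Lab` + (5) give the local situation `SevD`; helper950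
-/

set_option autoImplicit false

namespace Cfsg.Agent.Omega.NOne.AG.Seven

open Subgroup Cfsg Cfsg.Agent.ZN Cfsg.Agent.Omega.NOne.AG Cfsg.Agent.Omega.NOne.AG.GData
open Cfsg.Agent.Omega.NOne.AG.FiveDl (Ys Yt ac ph par)
open Cfsg.Agent.Omega.NOne.AG.LabY (tt)

universe u

set_option maxRecDepth 100000 in
theorem cf1 : ∀ σ ∈ [tt, tt * Equiv.swap 0 1, tt * Equiv.swap 2 3, tt * (Equiv.swap 0 1 * Equiv.swap 2 3)],
    ∀ w ∈ [0, 5, 29, 24, 12, 9, 20, 17], (ac σ w = w ∨ ac σ w = w ^^^ 5) → w ∈ [0, 5, 29, 24] := by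
  decide

set_option maxRecDepth 100000 in
theorem cf2 : ∀ σ ∈ [1, Equiv.swap 0 1, Equiv.swap 2 3, Equiv.swap 0 1 * Equiv.swap 2 3,
    tt, tt * Equiv.swap 0 1, tt * Equiv.swap 2 3, tt * (Equiv.swap 0 1 * Equiv.swap 2 3)],
    ac σ 29 = 29 ∨ ac σ 29 = 24 := by
  decide

theorem ac_lt (σ : Equiv.Perm (Fin 5)) (w : ℕ) : ac σ w < 32 := by
  have h1 : ∀ (b : Bool) (i j : Fin 5), (bif b then Yt i j else 0) < 2 ^ 5 := by
    intro b i j
    cases b
    · norm_num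
    · exact FiveDl.Yt_lt i j
  unfold ac
  exact Nat.xor_lt_two_pow (Nat.xor_lt_two_pow (Nat.xor_lt_two_pow (Nat.xor_lt_two_pow (h1 _ _ _) (h1 _ _ _))
    (h1 _ _ _)) (h1 _ _ _)) (h1 _ _ _)

theorem mem8 {σ : Equiv.Perm (Fin 5)}
    (h : (σ = 1 ∨ σ = Equiv.swap 0 1 ∨ σ = Equiv.swap 2 3 ∨ σ = Equiv.swap 0 1 * Equiv.swap 2 3) ∨
      (σ = tt ∨ σ = tt * Equiv.swap 0 1 ∨ σ = tt * Equiv.swap 2 3 ∨
        σ = tt * (Equiv.swap 0 1 * Equiv.swap 2 3))) :
    σ ∈ [1, Equiv.swap 0 1, Equiv.swap 2 3, Equiv.swap 0 1 * Equiv.swap 2 3,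
      tt, tt * Equiv.swap 0 1, tt * Equiv.swap 2 3, tt * (Equiv.swap 0 1 * Equiv.swap 2 3)] := by
  simp only [List.mem_cons, List.not_mem_nil, or_false]
  tauto

theorem mem4 {σ : Equiv.Perm (Fin 5)} (h : σ = tt ∨ σ = tt * Equiv.swap 0 1 ∨ σ = tt * Equiv.swap 2 3 ∨
      σ = tt * (Equiv.swap 0 1 * Equiv.swap 2 3)) :
    σ ∈ [tt, tt * Equiv.swap 0 1, tt * Equiv.swap 2 3, tt * (Equiv.swap 0 1 * Equiv.swap 2 3)] := by
  simp only [List.mem_cons, List.not_mem_nil, or_false]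
  exact h

variable {G : Type u} [Group G] {ι : Type*}
variable [Finite G] {S : Sylow 2 G} {P V T : Subgroup G} {z : ι → G} {opp : ι → ι → Prop}
  {C Q QF Qs : ι → Subgroup G} {y : Fin 5 → Fin 5 → G} {pt : Fin 5 → Fin 5 → Fin 5 → Fin 5 → ι}

/-- `QF` commutes with `B` -/
theorem QFB (h : Conf P V T z opp C Q QF Qs) (L : Lab h y pt) {x b : G} (hx : x ∈ QF (pt 0 1 2 3))
    (hb : b ∈ h.B (pt 0 1 2 3)) : x * b = b * x := by
  obtain ⟨w, hw, e⟩ := L.QF_eq (show D4 0 1 2 3 by decide) hx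
  have h1 : w * b = b * w := ((h.mem_B.1 hb).2 w hw).symm
  have h2 : b * y 0 1 = y 0 1 * b := L.y_T (by decide) (h.B_T _ hb)
  rcases e with rfl | rfl
  · exact h1
  · rw [mul_assoc, ← h2, ← mul_assoc, h1, mul_assoc]

/-- `Q i ∩ T = E B` -/
theorem QT (h : Conf P V T z opp C Q QF Qs) (L : Lab h y pt) (hT : ∀ i, h.Tt i ≤ h.Dl) {x : G}
    (hx : x ∈ Q (pt 0 1 2 3)) (hxT : x ∈ T) :
    ∃ e ∈ V ⊓ Q (pt 0 1 2 3), ∃ b ∈ h.B (pt 0 1 2 3), x = e * b := by
  have h1 := hT _ (h.mem_Tt.2 ⟨hxT, hx⟩)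
  have hyB := L.y_mem_B (show D4 0 1 2 3 by decide)
  rcases (L.mem_iff 0 1 (by decide) x).1 h1 with h2 | h2
  · exact ⟨x, mem_inf.2 ⟨h2, hx⟩, 1, one_mem _, (mul_one x).symm⟩
  · refine ⟨x * y 0 1, mem_inf.2 ⟨h2, mul_mem hx (h.QFQ _ (h.mem_B.1 hyB).1)⟩, y 0 1, hyB, ?_⟩
    rw [mul_assoc, L.sq 0 1 (by decide), mul_one]

theorem sevD (h : Base S P V T z opp C Q QF Qs (pt 0 1 2 3)) (L : Lab h.toConf y pt)
    (hT : ∀ i, h.toConf.Tt i ≤ h.toConf.Dl) {s : G} (hs : s ∈ Q (pt 0 1 2 3)) (hs' : s ∉ QF (pt 0 1 2 3)) :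
    ∃ g, SevD (C (pt 0 1 2 3)) (Q (pt 0 1 2 3)) (QF (pt 0 1 2 3)) (Qs (pt 0 1 2 3)) (h.toConf.B (pt 0 1 2 3))
      (V ⊓ Q (pt 0 1 2 3)) (z (pt 0 1 2 3)) (ph y 30) g (ph y 29) := by
  have hD : D4 0 1 2 3 := by decide
  obtain ⟨g, hg, hgd⟩ := h.exists_g (pt 0 1 2 3) (L.ph_V (w := 30) (by norm_num) (by decide))
    (LabY.not_mem_Q30 L)
  have hz5 : z (pt 0 1 2 3) = ph y 5 := LabY.z_code L hD
  have hmE : ∀ x, x ∈ V ⊓ Q (pt 0 1 2 3) ↔ x ∈ V ∧ x ∈ Q (pt 0 1 2 3) := fun x => mem_inf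
  have hcode : ∀ x ∈ V ⊓ Q (pt 0 1 2 3), ∃ w, w < 32 ∧ w ∈ [0, 5, 29, 24, 12, 9, 20, 17] ∧ ph y w = x := by
    intro x hx
    obtain ⟨w, hw, hp, rfl⟩ := L.V_code ((hmE x).1 hx).1
    exact ⟨w, hw, (LabY.mem_Q_iff L hw hp).1 ((hmE _).1 hx).2, rfl⟩
  have ha : ph y 29 ∈ V ⊓ Q (pt 0 1 2 3) :=
    (hmE _).2 ⟨L.ph_V (by norm_num) (by decide), LabY.mem_Q L (by norm_num) (by decide)⟩
  have hne : ∀ {w w' : ℕ}, w < 32 → w' < 32 → w ≠ w' → ph y w ≠ ph y w' := fun hw hw' hn e => hn (L.ph_inj hw hw' e)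
  have hyz : y 2 3 * y 0 1 = z (pt 0 1 2 3) := by
    rw [L.z_eq 0 1 2 3 hD, L.comm _ _ _ _ (by decide) (by decide)]
  have hQov : ∀ q ∈ Q (pt 0 1 2 3), ∃ σ, Ov P y σ q ∧ Yt (σ 0) (σ 1) ^^^ Yt (σ 2) (σ 3) = 5 := fun q hq =>
    LabY.ov_z L (h.QP _ hq) (h.Cz _ q (h.QC _ hq))
  refine ⟨g, ?_⟩
  exact {
    gd := hgd
    gC := hg
    vC := h.VC _ (L.ph_V (w := 30) (by norm_num) (by decide))
    Cz := h.Cz _
    hC := LabY.hC h L
    Qo2 := h.Qo2 _
    QFQ := h.QFQ _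
    QsQF := h.QsQF _
    BQF := fun x hx => (h.mem_B.1 hx).1
    nQ := fun c hc x hx => norm_conj (h.nQ _) hc hx
    nQF := fun c hc x hx => norm_conj (h.nQF _) hc hx
    nQs := fun c hc x hx => norm_conj (h.nQs _) hc hx
    nB := fun c hc x hx => norm_conj (h.B_norm _) hc hx
    EQs := fun x hx => h.VQs _ x ((hmE x).1 hx).1 ((hmE x).1 hx).2
    nE := fun q hq e he => (hmE _).2 ⟨h.conj_V (h.QP _ hq) ((hmE e).1 he).1,
      mul_mem (mul_mem hq ((hmE e).1 he).2) (inv_mem hq)⟩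
    com := h.com _
    QFB := fun x hx b hb => QFB h.toConf L hx hb
    dec := by
      intro x hx
      have hxz : x * z (pt 0 1 2 3) = z (pt 0 1 2 3) * x := h.Cz _ x (h.QFC _ hx)
      have hE1 : ∀ e ∈ V ⊓ Q (pt 0 1 2 3), g * e * g⁻¹ ∈ Qs (pt 0 1 2 3) := fun e he =>
        norm_conj (h.nQs _) hg (h.VQs _ e ((hmE e).1 he).1 ((hmE e).1 he).2)
      have hQsz : ∀ w ∈ Qs (pt 0 1 2 3), w * z (pt 0 1 2 3) = z (pt 0 1 2 3) * w := fun w hw =>
        h.Cz _ w (h.QsC _ hw)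
      obtain ⟨w, ⟨e', he', hw'⟩, hw⟩ := dual (X := V ⊓ Q (pt 0 1 2 3))
        (E := (V ⊓ Q (pt 0 1 2 3)).map (MulAut.conj g).toMonoidHom) (u := x) (h.ne_one _) (h.sq _)
        (fun e he => h.Cz _ e (h.VC _ ((hmE e).1 he).1))
        (by rintro _ ⟨e, he, rfl⟩; exact hQsz _ (hE1 e he))
        (by
          rintro _ ⟨e, he, rfl⟩ x' hx'
          rcases hgd.com x' hx' e he with h1 | h1
          · exact Or.inl h1.symm
          · right
            show (g * e * g⁻¹) * x' = z (pt 0 1 2 3) * (x' * (g * e * g⁻¹))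
            rw [h1, ← mul_assoc, h.sq, one_mul]) hxz
        (by
          intro x' hx'
          rcases h.com _ x' (h.VQs _ x' ((hmE x').1 hx').1 ((hmE x').1 hx').2) x hx with h1 | h1
          · exact Or.inl h1.symm
          · right
            rw [h1, ← mul_assoc, h.sq, one_mul])
        (by
          intro x' hx' hc
          have h1 : ∀ e ∈ V ⊓ Q (pt 0 1 2 3), e * (g * x' * g⁻¹) = (g * x' * g⁻¹) * e := fun e he =>
            hgd.symm hx' he (hc _ ⟨e, he, rfl⟩).symm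
          rcases hgd.ff x' hx' h1 with rfl | rfl
          · rw [mul_one, one_mul]
          · exact hxz)
      have hw'' : g * e' * g⁻¹ = w := hw'
      have hwQs : w ∈ Qs (pt 0 1 2 3) := by rw [← hw'']; exact hE1 e' he'
      have hwQ := h.QsQ _ hwQs
      have h1 : ∀ v ∈ V, (x * w) * v = v * (x * w) :=
        h.faith _ _ (h.QP _ (mul_mem (h.QFQ _ hx) hwQ)) fun v hv hvQ => hw v ((hmE v).2 ⟨hv, hvQ⟩)
      obtain ⟨e, he, b, hb, heb⟩ := QT h.toConf L hT (mul_mem (h.QFQ _ hx) hwQ)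
        (h.cT _ _ (mul_mem (h.QFQ _ hx) hwQ) h1)
      refine ⟨e, he, e'⁻¹, inv_mem he', b, hb, ?_⟩
      have h2 : w⁻¹ * b = b * w⁻¹ := inv_comm' (((h.mem_B.1 hb).2 w hwQs).symm)
      calc x = (x * w) * w⁻¹ := by group
        _ = e * (b * w⁻¹) := by rw [heb]; group
        _ = e * w⁻¹ * b := by rw [← h2]; group
        _ = e * (g * e'⁻¹ * g⁻¹) * b := by rw [← hw'']; group
    BE := by
      intro b hb hbE
      rcases (L.B_eq hD).1 hb with h1 | h1 | h1 | h1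
      · exact Or.inl h1
      · exact Or.inr h1
      · exact absurd (h1 ▸ ((hmE b).1 hbE).1) (L.notV 0 1 (by decide))
      · exact absurd (h1 ▸ ((hmE b).1 hbE).1) (L.notV 2 3 (by decide))
    zB := (L.B_eq hD).2 (Or.inr (Or.inl rfl))
    Bz := by
      intro c hc b hb
      have key : ∀ b' ∈ h.toConf.B (pt 0 1 2 3), b' ∉ V → (b' = y 0 1 ∨ b' = y 2 3) := by
        intro b' hb' hn
        rcases (L.B_eq hD).1 hb' with h1 | h1 | h1 | h1
        · exact absurd (h1 ▸ one_mem V) hn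
        · exact absurd (h1 ▸ h.zV _) hn
        · exact Or.inl h1
        · exact Or.inr h1
      by_cases hbV : b ∈ V
      · have h1 : c * b * c⁻¹ = b := by
          rcases (L.B_eq hD).1 hb with h1 | h1 | h1 | h1
          · rw [h1]; group
          · rw [h1, h.Cz _ c hc]; group
          · exact absurd (h1 ▸ hbV) (L.notV 0 1 (by decide))
          · exact absurd (h1 ▸ hbV) (L.notV 2 3 (by decide))
        left; rw [h1, mul_inv_cancel]
      · have h1 := norm_conj (h.B_norm _) hc hb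
        have h2 : c * b * c⁻¹ ∉ V := by
          intro hcV
          rcases (L.B_eq hD).1 h1 with h3 | h3 | h3 | h3
          · exact hbV (by rw [conj_eq_one_iff.1 h3]; exact one_mem V)
          · apply hbV
            have h4 : b = c⁻¹ * z (pt 0 1 2 3) * c := by rw [← h3]; group
            rw [h4, mul_assoc, ← h.Cz _ c hc, inv_mul_cancel_left]
            exact h.zV _
          · exact absurd (h3 ▸ hcV) (L.notV 0 1 (by decide))
          · exact absurd (h3 ▸ hcV) (L.notV 2 3 (by decide))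
        have i1 : (y 0 1)⁻¹ = y 0 1 := inv_eq_of_mul_eq_one_right (L.sq 0 1 (by decide))
        have i2 : (y 2 3)⁻¹ = y 2 3 := inv_eq_of_mul_eq_one_right (L.sq 2 3 (by decide))
        rcases key _ hb hbV with h3 | h3 <;> rcases key _ h1 h2 with h4 | h4
        · left; rw [h4, h3, mul_inv_cancel]
        · right; rw [h4, h3, i1, hyz]
        · right; rw [h4, h3, i2, ← L.comm _ _ _ _ (by decide) (by decide), hyz]
        · left; rw [h4, h3, mul_inv_cancel]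
    aE := ha
    a1 := by
      rw [← FiveDl.ph_zero (y := y)]
      exact hne (by norm_num) (by norm_num) (by norm_num)
    az := by
      rw [hz5]
      exact hne (by norm_num) (by norm_num) (by norm_num)
    QF2 := h.QF2 _
    fix := by
      intro s hs hsF e he hfix
      obtain ⟨σ, hσ, h5⟩ := hQov s hs
      obtain ⟨w, hw, hwE, rfl⟩ := hcode e he
      have h6 : σ ∈ [tt, tt * Equiv.swap 0 1, tt * Equiv.swap 2 3, tt * (Equiv.swap 0 1 * Equiv.swap 2 3)] := by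
        rcases LabY.d8 h5 with h6 | h6
        · exact absurd (LabY.mem_QF L hs hσ h6) hsF
        · exact mem4 h6
      have hac := ac_lt σ w
      rw [L.ys.conj (Lab.ov hσ), hz5, L.ys.mul] at hfix
      have h7 : ac σ w = w ∨ ac σ w = w ^^^ 5 := by
        rcases hfix with h7 | h7
        · exact Or.inl (L.ph_inj hac hw h7)
        · exact Or.inr (L.ph_inj hac (Nat.xor_lt_two_pow (n := 5) hw (by norm_num)) h7)
      have h8 := cf1 σ h6 w hwE h7
      simp only [List.mem_cons, List.not_mem_nil, or_false] at h8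
      rcases h8 with rfl | rfl | rfl | rfl
      · exact Or.inl FiveDl.ph_zero
      · exact Or.inr (Or.inl hz5.symm)
      · exact Or.inr (Or.inr (Or.inl rfl))
      · refine Or.inr (Or.inr (Or.inr ?_))
        rw [hz5, L.ys.mul]
        rfl
    fa := by
      intro q hq
      obtain ⟨σ, hσ, h5⟩ := hQov q hq
      rw [L.ys.conj (Lab.ov hσ), hz5, L.ys.mul]
      rcases cf2 σ (mem8 (LabY.d8 h5)) with h6 | h6 <;> rw [h6]
      · exact Or.inl rfl
      · exact Or.inr rfl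
    ex := ⟨s, hs, hs'⟩ }

end Cfsg.Agent.Omega.NOne.AG.Seven

end

end

-- merged: Cfsg.Agent.Omega.Tools.LemmaJ
section

/-!
# LEMMA J: transfer of an involution of `Z(J)`, `J` weakly closed in a Sylow 2-subgroup

* `transfer_eq_prod_fixed`: `x * x = 1`, `T` a 2-subgroup commuting with `x`: the transfer of `ϕ : H →* A` at `x` is
  the product of `ϕ (a⁻¹ x a)` over the cosets `aH` fixed by `T` and `x`.
* `transfer_eq`: if moreover all these values are equal to `y` and `H` has odd index, the transfer is `y`.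
* `lemmaJ`: `S` a Sylow 2-subgroup, `J ≤ S` weakly closed in `S`, `x` an involution commuting with `J`, all
  `N(J)`-conjugates of `x` in `S` are `S`-conjugates of `x`; then `ϕ x = transfer ϕ x` for all `ϕ : S →* A`.
* `mem_commutator`: if `G` has no nontrivial homomorphism onto an abelian 2-group, then `x ∈ S'`.
-/

set_option autoImplicit false

namespace Cfsg.Agent.Omega.Tools.LemmaJ

open MulAction Subgroup Function

section generic

/-- a product of values of exponent 2 is the product over the fixed points of a 2-group preserving the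
values -/
theorem prod_eq_prod_fixed {P Y A : Type*} [Group P] [MulAction P Y] [Fintype Y] [DecidableEq Y]
    [CommGroup A] (hP : IsPGroup 2 P) (f : Y → A) (hA : ∀ q, f q * f q = 1)
    (hf : ∀ (x : P) (q : Y), f (x • q) = f q) (s : Finset Y)
    (hs : ∀ q, q ∈ s ↔ ∀ x : P, x • q = q) : ∏ q, f q = ∏ q ∈ s, f q := by
  classical
  have hsub : ∀ q ∈ s, f q ∈ (Finset.univ : Finset Y).image f := fun q _ =>
    Finset.mem_image_of_mem _ (Finset.mem_univ q)
  rw [← Finset.prod_fiberwise_of_maps_to (s := Finset.univ) (t := Finset.univ.image f) (g := f)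
    (fun q hq => Finset.mem_image_of_mem f hq) f,
    ← Finset.prod_fiberwise_of_maps_to (s := s) (t := Finset.univ.image f) (g := f) hsub f]
  apply Finset.prod_congr rfl
  intro a ha
  obtain ⟨q₀, -, ha0⟩ := Finset.mem_image.1 ha
  rw [Finset.prod_congr rfl (fun q hq => (Finset.mem_filter.1 hq).2),
    Finset.prod_congr (s₁ := s.filter (fun q => f q = a)) rfl
      (fun q hq => (Finset.mem_filter.1 hq).2),
    Finset.prod_const, Finset.prod_const]
  let Z := {q : Y // f q = a}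
  let _ : MulAction P Z :=
    { smul := fun x q => ⟨x • q.1, by rw [hf]; exact q.2⟩
      one_smul := fun q => Subtype.ext (one_smul P q.1)
      mul_smul := fun x y q => Subtype.ext (mul_smul x y q.1) }
  have hcard := hP.card_modEq_card_fixedPoints Z
  have h1 : Nat.card Z = (Finset.univ.filter (fun q => f q = a)).card := by
    rw [Nat.subtype_card]
    intro q
    simp
  have h2 : Nat.card (fixedPoints P Z) = (s.filter (fun q => f q = a)).card := by
    have e : fixedPoints P Z ≃ {q : Y // (∀ x : P, x • q = q) ∧ f q = a} :=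
      { toFun := fun q => ⟨q.1.1, fun x => congrArg Subtype.val (q.2 x), q.1.2⟩
        invFun := fun q => ⟨⟨q.1, q.2.2⟩, fun x => Subtype.ext (q.2.1 x)⟩
        left_inv := fun q => rfl
        right_inv := fun q => rfl }
    rw [Nat.card_congr e, Nat.subtype_card]
    intro q
    rw [Finset.mem_filter, hs]
  rw [← h1, ← h2]
  have ha2 : a ^ 2 = 1 := by rw [pow_two, ← ha0, hA]
  rw [← Nat.div_add_mod (Nat.card Z) 2, ← Nat.div_add_mod (Nat.card (fixedPoints P Z)) 2, pow_add,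
    pow_add, pow_mul, pow_mul, ha2, one_pow, one_pow, hcard]

end generic

variable {G : Type*} [Group G] {A : Type*} [CommGroup A] {H : Subgroup G}

theorem smul_coe_eq_iff (x g h : G) : x • (g : G ⧸ H) = (h : G ⧸ H) ↔ h⁻¹ * x * g ∈ H := by
  rw [MulAction.Quotient.smul_mk, smul_eq_mul, eq_comm, QuotientGroup.eq, mul_assoc]

open Classical in
/-- the value at a coset -/
noncomputable def val (ϕ : H →* A) (x : G) (q : G ⧸ H) : A :=
  if h : q.out⁻¹ * x * q.out ∈ H then ϕ ⟨q.out⁻¹ * x * q.out, h⟩ else 1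

theorem out_fixed_iff (x : G) (q : G ⧸ H) : q.out⁻¹ * x * q.out ∈ H ↔ x • q = q := by
  rw [← smul_coe_eq_iff, QuotientGroup.out_eq']

theorem val_coe (ϕ : H →* A) (x a : G) (h : a⁻¹ * x * a ∈ H) :
    val ϕ x (a : G ⧸ H) = ϕ ⟨a⁻¹ * x * a, h⟩ := by
  obtain ⟨c, hc⟩ := QuotientGroup.mk_out_eq_mul H a
  have hfix : x • (a : G ⧸ H) = (a : G ⧸ H) := (smul_coe_eq_iff x a a).2 h
  have h2 := (out_fixed_iff x (a : G ⧸ H)).2 hfix
  rw [val, dif_pos h2]
  have e : (⟨(a : G ⧸ H).out⁻¹ * x * (a : G ⧸ H).out, h2⟩ : H) = c⁻¹ * ⟨a⁻¹ * x * a, h⟩ * c := by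
    apply Subtype.ext
    change (a : G ⧸ H).out⁻¹ * x * (a : G ⧸ H).out = (c : G)⁻¹ * (a⁻¹ * x * a) * c
    rw [hc]
    group
  rw [e, map_mul, map_mul, map_inv, mul_comm (ϕ c)⁻¹, inv_mul_cancel_right]

theorem val_of_not_fixed (ϕ : H →* A) (x : G) (q : G ⧸ H) (h : x • q ≠ q) : val ϕ x q = 1 := by
  rw [val, dif_neg]
  rw [out_fixed_iff]
  exact h

theorem val_mul_self (ϕ : H →* A) {x : G} (hx : x * x = 1) (q : G ⧸ H) :
    val ϕ x q * val ϕ x q = 1 := by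
  by_cases h : x • q = q
  · have h2 := (out_fixed_iff x q).2 h
    rw [val, dif_pos h2, ← map_mul]
    have e : (⟨q.out⁻¹ * x * q.out, h2⟩ * ⟨q.out⁻¹ * x * q.out, h2⟩ : H) = 1 := by
      apply Subtype.ext
      change q.out⁻¹ * x * q.out * (q.out⁻¹ * x * q.out) = 1
      calc _ = q.out⁻¹ * (x * x) * q.out := by group
        _ = 1 := by rw [hx]; group
    rw [e, map_one]
  · rw [val_of_not_fixed ϕ x q h, one_mul]

theorem val_smul (ϕ : H →* A) {x t : G} (ht : t * x = x * t) (q : G ⧸ H) :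
    val ϕ x (t • q) = val ϕ x q := by
  obtain ⟨a, rfl⟩ := QuotientGroup.mk_surjective q
  have e : t • (a : G ⧸ H) = ((t * a : G) : G ⧸ H) := rfl
  rw [e]
  have e2 : (t * a)⁻¹ * x * (t * a) = a⁻¹ * x * a := by
    calc (t * a)⁻¹ * x * (t * a) = a⁻¹ * (t⁻¹ * (x * t)) * a := by group
      _ = _ := by rw [← ht, inv_mul_cancel_left]
  by_cases h : a⁻¹ * x * a ∈ H
  · have h' : (t * a)⁻¹ * x * (t * a) ∈ H := by rw [e2]; exact h
    rw [val_coe ϕ x a h, val_coe ϕ x (t * a) h']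
    congr 1
    exact Subtype.ext e2
  · rw [val_of_not_fixed, val_of_not_fixed]
    · intro hc; exact h ((smul_coe_eq_iff x a a).1 hc)
    · intro hc
      apply h
      rw [← e2]
      exact (smul_coe_eq_iff x (t * a) (t * a)).1 hc

open Classical in
/-- the transfer at an element of order at most 2 -/
theorem transfer_eq_prod_val [Fintype (G ⧸ H)] [H.FiniteIndex] (ϕ : H →* A) {x : G}
    (hx : x * x = 1) : MonoidHom.transfer ϕ x = ∏ q : G ⧸ H, val ϕ x q := by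
  have : Fintype (Quotient (orbitRel (zpowers x) (G ⧸ H))) := Fintype.ofFinite _
  rw [MonoidHom.transfer_eq_prod_quotient_orbitRel_zpowers_quot ϕ x,
    ← Finset.prod_fiberwise_of_maps_to (s := Finset.univ)
      (t := (Finset.univ : Finset (Quotient (orbitRel (zpowers x) (G ⧸ H)))))
      (g := fun q => (Quotient.mk'' q : Quotient (orbitRel (zpowers x) (G ⧸ H))))
      (fun q _ => Finset.mem_univ _) (val ϕ x)]
  apply Finset.prod_congr rfl
  intro o _
  have hpow : ∀ i : ℤ, x ^ i = 1 ∨ x ^ i = x := by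
    intro i
    rcases Int.even_or_odd' i with ⟨k, rfl | rfl⟩
    · left
      rw [zpow_mul, show x ^ (2 : ℤ) = x * x by rw [zpow_ofNat, pow_two], hx, one_zpow]
    · right
      rw [zpow_add, zpow_mul, show x ^ (2 : ℤ) = x * x by rw [zpow_ofNat, pow_two], hx, one_zpow,
        one_mul, zpow_one]
  have hmem : ∀ q : G ⧸ H, (Quotient.mk'' q : Quotient (orbitRel (zpowers x) (G ⧸ H))) = o →
      q = o.out ∨ q = x • o.out := by
    intro q hq
    have h0 : (Quotient.mk'' q : Quotient (orbitRel (zpowers x) (G ⧸ H))) = Quotient.mk'' o.out := by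
      rw [hq, Quotient.out_eq' o]
    have h1 : (orbitRel (zpowers x) (G ⧸ H)).r q o.out := Quotient.exact h0
    obtain ⟨⟨_, i, rfl⟩, hy⟩ := h1
    change x ^ i • o.out = q at hy
    rcases hpow i with h | h
    · left; rw [← hy, h, one_smul]
    · right; rw [← hy, h]
  have hself : (Quotient.mk'' o.out : Quotient (orbitRel (zpowers x) (G ⧸ H))) = o :=
    Quotient.out_eq' o
  by_cases hfix : x • o.out = o.out
  · -- one point
    have hf : (Finset.univ.filter fun q : G ⧸ H =>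
        (Quotient.mk'' q : Quotient (orbitRel (zpowers x) (G ⧸ H))) = o) = {o.out} := by
      ext q
      rw [Finset.mem_filter, Finset.mem_singleton]
      constructor
      · rintro ⟨-, h⟩
        rcases hmem q h with h | h
        · exact h
        · rw [h, hfix]
      · rintro rfl
        exact ⟨Finset.mem_univ _, hself⟩
    rw [hf, Finset.prod_singleton, val, dif_pos ((out_fixed_iff x o.out).2 hfix)]
    congr 1
    apply Subtype.ext
    change o.out.out⁻¹ * x ^ minimalPeriod (x • ·) o.out * o.out.out = o.out.out⁻¹ * x * o.out.out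
    have hp : minimalPeriod (x • ·) o.out = 1 :=
      minimalPeriod_eq_one_iff_isFixedPt.2 hfix
    rw [hp, pow_one]
  · have hf : ∀ q ∈ (Finset.univ.filter fun q : G ⧸ H =>
        (Quotient.mk'' q : Quotient (orbitRel (zpowers x) (G ⧸ H))) = o), val ϕ x q = 1 := by
      intro q hq
      apply val_of_not_fixed
      intro hc
      rcases hmem q (Finset.mem_filter.1 hq).2 with h | h
      · rw [h] at hc; exact hfix hc
      · rw [h, smul_smul, hx, one_smul] at hc; exact hfix hc.symm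
    rw [Finset.prod_congr rfl hf, Finset.prod_const_one]
    have hp : IsPeriodicPt (x • ·) 2 (o.out : G ⧸ H) := by
      change x • (x • o.out) = o.out
      rw [smul_smul, hx, one_smul]
    have hd := hp.minimalPeriod_dvd
    have h1 : minimalPeriod (x • ·) (o.out : G ⧸ H) ≠ 1 := fun h =>
      hfix (minimalPeriod_eq_one_iff_isFixedPt.1 h)
    have h2 : minimalPeriod (x • ·) (o.out : G ⧸ H) = 2 := by
      rcases (Nat.dvd_prime Nat.prime_two).1 hd with h | h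
      · exact absurd h h1
      · exact h
    have e : (⟨o.out.out⁻¹ * x ^ minimalPeriod (x • ·) o.out * o.out.out,
        QuotientGroup.out_conj_pow_minimalPeriod_mem H x o.out⟩ : H) = 1 := by
      apply Subtype.ext
      change o.out.out⁻¹ * x ^ minimalPeriod (x • ·) o.out * o.out.out = 1
      rw [h2, pow_two, hx, mul_one, inv_mul_cancel]
    rw [e, map_one]

/-- **transfer at an involution**: all values at the cosets `aH` with `a⁻¹ T a ≤ H` are equal to `y`. -/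
theorem transfer_eq [Finite G] (hodd : Odd H.index) (ϕ : H →* A) {x : G} (hx : x * x = 1)
    (T : Subgroup G) (hT : IsPGroup 2 T) (hTx : ∀ t ∈ T, t * x = x * t) (hxT : x ∈ T) (y : A)
    (hy : y * y = 1)
    (hf : ∀ a : G, (∀ t ∈ T, a⁻¹ * t * a ∈ H) → ∀ h : a⁻¹ * x * a ∈ H, ϕ ⟨a⁻¹ * x * a, h⟩ = y) :
    MonoidHom.transfer ϕ x = y := by
  classical
  have : Fintype (G ⧸ H) := Fintype.ofFinite _
  rw [transfer_eq_prod_val ϕ hx]
  let s : Finset (G ⧸ H) := Finset.univ.filter fun q => ∀ t : T, t • q = q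
  have hs : ∀ q, q ∈ s ↔ ∀ t : T, t • q = q := fun q => by simp [s]
  rw [prod_eq_prod_fixed (P := T) hT (val ϕ x) (val_mul_self ϕ hx)
    (fun t q => val_smul ϕ (hTx t t.2) q) s hs]
  have h1 : ∀ q ∈ s, val ϕ x q = y := by
    intro q hq
    obtain ⟨a, rfl⟩ := QuotientGroup.mk_surjective q
    have h2 : ∀ t ∈ T, a⁻¹ * t * a ∈ H := fun t ht =>
      (smul_coe_eq_iff t a a).1 ((hs _).1 hq ⟨t, ht⟩)
    rw [val_coe ϕ x a (h2 x hxT)]
    exact hf a h2 _
  rw [Finset.prod_congr rfl h1, Finset.prod_const]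
  have h3 : s.card = Nat.card (fixedPoints T (G ⧸ H)) := by
    have e : fixedPoints T (G ⧸ H) ≃ {q : G ⧸ H // q ∈ s} :=
      { toFun := fun q => ⟨q.1, (hs _).2 q.2⟩
        invFun := fun q => ⟨q.1, (hs _).1 q.2⟩
        left_inv := fun q => rfl
        right_inv := fun q => rfl }
    rw [Nat.card_congr e, Nat.card_eq_fintype_card, Fintype.card_coe]
  have h4 := hT.card_modEq_card_fixedPoints (G ⧸ H)
  have h5 : Odd s.card := by
    rw [h3, Nat.odd_iff]
    have : H.index % 2 = 1 := Nat.odd_iff.1 hodd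
    rw [Subgroup.index] at this
    rw [← this]
    exact h4.symm
  obtain ⟨k, hk⟩ := h5
  rw [hk, pow_add, pow_mul, pow_two, hy, one_pow, one_mul, pow_one]

/-- **LEMMA J**: transfer is the restriction on an involution `x` of the centralizer of a weakly closed `J`. -/
theorem lemmaJ [Finite G] (S : Sylow 2 G) (J : Subgroup G) (hJS : J ≤ S)
    (hJ : ∀ g : G, (∀ j ∈ J, g * j * g⁻¹ ∈ S) → ∀ j ∈ J, g * j * g⁻¹ ∈ J) {x : G} (hx : x * x = 1)
    (hxJ : x ∈ J) (hxc : ∀ j ∈ J, j * x = x * j)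
    (hN : ∀ g ∈ normalizer (J : Set G), g * x * g⁻¹ ∈ S →
      ∃ s ∈ S, g * x * g⁻¹ = s * x * s⁻¹) (ϕ : (S : Subgroup G) →* A) :
    MonoidHom.transfer ϕ x = ϕ ⟨x, hJS hxJ⟩ := by
  refine transfer_eq ?_ ϕ hx J (S.2.to_le hJS) hxc hxJ _ ?_ ?_
  · rw [Nat.odd_iff, ← Nat.not_even_iff, even_iff_two_dvd]
    exact S.not_dvd_index
  · rw [← map_mul]
    have : (⟨x, hJS hxJ⟩ * ⟨x, hJS hxJ⟩ : (S : Subgroup G)) = 1 := Subtype.ext hx
    rw [this, map_one]
  · intro a ha h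
    have h1 : ∀ j ∈ J, a⁻¹ * j * a⁻¹⁻¹ ∈ S := fun j hj => by rw [inv_inv]; exact ha j hj
    have h2 := hJ a⁻¹ h1
    have h3 : a⁻¹ ∈ normalizer (J : Set G) := by
      rw [mem_normalizer_iff]
      intro j
      refine ⟨h2 j, fun hj => ?_⟩
      -- `J` is finite, conjugation is injective on it
      have hfin : Finite J := inferInstance
      let f : J → J := fun j => ⟨a⁻¹ * j * a⁻¹⁻¹, h2 j j.2⟩
      have hinj : Function.Injective f := by
        intro u v huv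
        have := congrArg Subtype.val huv
        exact Subtype.ext (mul_left_cancel (mul_right_cancel this))
      obtain ⟨u, hu⟩ := Finite.surjective_of_injective hinj ⟨_, hj⟩
      have := congrArg Subtype.val hu
      rw [← mul_left_cancel (mul_right_cancel this)]
      exact u.2
    have h4 : a⁻¹ * x * a⁻¹⁻¹ ∈ S := by rw [inv_inv]; exact h
    obtain ⟨s, hs, h5⟩ := hN a⁻¹ h3 h4
    rw [inv_inv] at h5
    have e : (⟨a⁻¹ * x * a, h⟩ : (S : Subgroup G)) = ⟨s, hs⟩ * ⟨x, hJS hxJ⟩ * ⟨s, hs⟩⁻¹ :=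
      Subtype.ext h5
    rw [e, map_mul, map_mul, map_inv, mul_comm (ϕ ⟨s, hs⟩), mul_inv_cancel_right]

/-- **LEMMA J**: `G` without nontrivial homomorphisms to abelian 2-groups. -/
theorem mem_commutator [Finite G] (S : Sylow 2 G) (J : Subgroup G) (hJS : J ≤ S)
    (hJ : ∀ g : G, (∀ j ∈ J, g * j * g⁻¹ ∈ S) → ∀ j ∈ J, g * j * g⁻¹ ∈ J) {x : G} (hx : x * x = 1)
    (hxJ : x ∈ J) (hxc : ∀ j ∈ J, j * x = x * j)
    (hN : ∀ g ∈ normalizer (J : Set G), g * x * g⁻¹ ∈ S →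
      ∃ s ∈ S, g * x * g⁻¹ = s * x * s⁻¹)
    (hG : ∀ g : G, g ∈ commutator G) :
    (⟨x, hJS hxJ⟩ : (S : Subgroup G)) ∈ commutator (S : Subgroup G) := by
  have h1 := lemmaJ S J hJS hJ hx hxJ hxc hN (Abelianization.of (G := (S : Subgroup G)))
  have h2 : MonoidHom.transfer (Abelianization.of (G := (S : Subgroup G))) x = 1 := by
    have h3 : commutator G ≤ (MonoidHom.transfer (Abelianization.of (G := (S : Subgroup G)))).ker :=
      Abelianization.commutator_subset_ker _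
    exact h3 (hG x)
  rw [h2] at h1
  rw [← Abelianization.ker_of]
  exact h1.symm

theorem commutator_eq_top_of_simple [IsSimpleGroup G] (hG : ¬ ∀ p q : G, p * q = q * p) :
    commutator G = ⊤ := by
  rcases (inferInstance : (commutator G).Normal).eq_bot_or_eq_top with h | h
  · refine absurd (fun p q => ?_) hG
    have h1 := commutator_mem_commutator (mem_top p) (mem_top q)
    rw [← commutator_def, h, mem_bot, commutatorElement_eq_one_iff_mul_comm] at h1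
    exact h1
  · exact h

/-- **LEMMA J** for simple groups -/
theorem mem_commutator_of_simple [Finite G] [IsSimpleGroup G] (hG : ¬ ∀ p q : G, p * q = q * p)
    (S : Sylow 2 G) (J : Subgroup G) (hJS : J ≤ S)
    (hJ : ∀ g : G, (∀ j ∈ J, g * j * g⁻¹ ∈ S) → ∀ j ∈ J, g * j * g⁻¹ ∈ J) {x : G} (hx : x * x = 1)
    (hxJ : x ∈ J) (hxc : ∀ j ∈ J, j * x = x * j)
    (hN : ∀ g ∈ normalizer (J : Set G), g * x * g⁻¹ ∈ S →
      ∃ s ∈ S, g * x * g⁻¹ = s * x * s⁻¹) :
    (⟨x, hJS hxJ⟩ : (S : Subgroup G)) ∈ commutator (S : Subgroup G) :=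
  mem_commutator S J hJS hJ hx hxJ hxc hN fun g => by
    rw [commutator_eq_top_of_simple hG]; exact mem_top g

end Cfsg.Agent.Omega.Tools.LemmaJ

end

-- merged: Cfsg.Agent.Omega.NOne.AG.TransY
section

/-!
# The transfer step of THEOREM D0ag ((7) of #15001, helper313); typed by helper950

`K` of index 2 in the Sylow 2-subgroup `S`, `T ≤ S` weakly closed, `y` an involution of `Z(T)` all of whose
conjugates in `T` are outside `K`: a homomorphism `G → {± 1}` with `y ↦ -1`.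
-/

set_option autoImplicit false

namespace Cfsg.Agent.Omega.NOne.AG.TransY

open Subgroup

variable {G : Type*} [Group G] [Finite G]

theorem exists_hom (S : Sylow 2 G) {T K : Subgroup G} (hTS : T ≤ S)
    (hK : ∀ a ∈ (S : Subgroup G), ∀ b ∈ (S : Subgroup G), (a * b ∈ K ↔ (a ∈ K ↔ b ∈ K)))
    {y : G} (hyT : y ∈ T) (hy2 : y * y = 1) (hTy : ∀ t ∈ T, t * y = y * t)
    (hwc : ∀ g : G, (∀ t ∈ T, g * t * g⁻¹ ∈ (S : Subgroup G)) → ∀ t ∈ T, g * t * g⁻¹ ∈ T)
    (hnK : ∀ g : G, g * y * g⁻¹ ∈ T → g * y * g⁻¹ ∉ K) : ∃ f : G →* ℤˣ, f y = -1 := by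
  classical
  haveI : Fact (Nat.Prime 2) := ⟨Nat.prime_two⟩
  let ϕ : (S : Subgroup G) →* ℤˣ := {
    toFun := fun s => if (s : G) ∈ K then 1 else -1
    map_one' := by
      show (if ((1 : (S : Subgroup G)) : G) ∈ K then (1 : ℤˣ) else -1) = 1
      rw [if_pos (show ((1 : (S : Subgroup G)) : G) ∈ K from K.one_mem)]
    map_mul' := fun a b => by
      show (if ((a * b : (S : Subgroup G)) : G) ∈ K then (1 : ℤˣ) else -1) =
        (if (a : G) ∈ K then 1 else -1) * (if (b : G) ∈ K then 1 else -1)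
      have h := hK a a.2 b b.2
      rw [Subgroup.coe_mul]
      by_cases ha : (a : G) ∈ K <;> by_cases hb : (b : G) ∈ K
      · rw [if_pos (h.2 (iff_of_true ha hb)), if_pos ha, if_pos hb, one_mul]
      · rw [if_neg (fun hc => hb ((h.1 hc).1 ha)), if_pos ha, if_neg hb, one_mul]
      · rw [if_neg (fun hc => ha ((h.1 hc).2 hb)), if_neg ha, if_pos hb, mul_one]
      · rw [if_pos (h.2 (iff_of_false ha hb)), if_neg ha, if_neg hb]; rfl }
  refine ⟨MonoidHom.transfer ϕ, ?_⟩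
  refine Tools.LemmaJ.transfer_eq ?_ ϕ hy2 T (S.2.to_le hTS) hTy hyT (-1) (by rfl) ?_
  · rw [Nat.odd_iff, ← Nat.not_even_iff, even_iff_two_dvd]
    exact S.not_dvd_index
  · intro a ha h
    have h1 : ∀ t ∈ T, a⁻¹ * t * a⁻¹⁻¹ ∈ (S : Subgroup G) := fun t ht => by rw [inv_inv]; exact ha t ht
    have h2 := hwc a⁻¹ h1 y hyT
    have h3 := hnK a⁻¹ h2
    rw [inv_inv] at h3
    show (if (a⁻¹ * y * a) ∈ K then (1 : ℤˣ) else -1) = -1
    rw [if_neg h3]

end Cfsg.Agent.Omega.NOne.AG.TransY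

end

-- merged: Cfsg.Agent.Mrg.Omega.NOne.AG.Seven
section

section


/-!
# THEOREM D0ag (#15001), section (7): `Δ > V`, image `D₈` is impossible; helper950

`Seven.seven` : `Base` + `Lab` + (5) (`Tt i ≤ Δ`) + `Q i₀ ≠ QF i₀` is a contradiction.
-/

set_option autoImplicit false

namespace Cfsg.Agent.Omega.NOne.AG.Seven

open Subgroup Cfsg Cfsg.Agent.ZN Cfsg.Agent.Omega.NOne.AG Cfsg.Agent.Omega.NOne.AG.GData
open Cfsg.Agent.Omega.NOne.AG.FiveDl (Ys Yt ac ph par)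
open Cfsg.Agent.Omega.NOne.AG.LabY (tt)

universe u

/-! ### fixed points on `Δ` -/

/-- the seven nontrivial elements of `D₈` -/
def L7 : List (Equiv.Perm (Fin 5)) :=
  [Equiv.swap 0 1, Equiv.swap 2 3, Equiv.swap 0 1 * Equiv.swap 2 3,
    tt, tt * Equiv.swap 0 1, tt * Equiv.swap 2 3, tt * (Equiv.swap 0 1 * Equiv.swap 2 3)]

/-- the codes fixed by `σ` -/
def F (σ : Equiv.Perm (Fin 5)) : Finset ℕ := (Finset.range 32).filter fun w => ac σ w = w

set_option maxRecDepth 100000 in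
theorem F_le : ∀ σ ∈ L7, (F σ).card ≤ 8 := by decide

set_option maxRecDepth 100000 in
theorem FF_le : ∀ σ ∈ L7, ∀ τ ∈ L7, σ ≠ τ → (F σ ∩ F τ).card ≤ 4 := by decide

/-- the elements of order at most 2 -/
def L6 : List (Equiv.Perm (Fin 5)) :=
  [1, Equiv.swap 0 1, Equiv.swap 2 3, Equiv.swap 0 1 * Equiv.swap 2 3, tt,
    tt * (Equiv.swap 0 1 * Equiv.swap 2 3)]

set_option maxRecDepth 100000 in
theorem L6_of : ∀ σ ∈ L7, σ * σ = 1 → σ ∈ L6 := by decide

theorem L6_card : L6.toFinset.card ≤ 6 := (List.toFinset_card_le _).trans (by decide)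

theorem L7_of {σ : Equiv.Perm (Fin 5)}
    (h : (σ = 1 ∨ σ = Equiv.swap 0 1 ∨ σ = Equiv.swap 2 3 ∨ σ = Equiv.swap 0 1 * Equiv.swap 2 3) ∨
      (σ = tt ∨ σ = tt * Equiv.swap 0 1 ∨ σ = tt * Equiv.swap 2 3 ∨
        σ = tt * (Equiv.swap 0 1 * Equiv.swap 2 3))) : σ = 1 ∨ σ ∈ L7 := by
  simp only [L7, List.mem_cons, List.not_mem_nil, or_false]
  tauto

theorem two_others : ∀ a : Fin 5, ∃ b c, a ≠ b ∧ a ≠ c ∧ b ≠ c := by decide

variable {G : Type u} [Group G] {ι : Type*}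

section

variable {P V T : Subgroup G} {z : ι → G} {opp : ι → ι → Prop}
  {C Q QF Qs : ι → Subgroup G} {y : Fin 5 → Fin 5 → G} {pt : Fin 5 → Fin 5 → Fin 5 → Fin 5 → ι}
  {h : Conf P V T z opp C Q QF Qs} (L : Lab h y pt)
include L

theorem ov_one {σ : Equiv.Perm (Fin 5)} (hσ : Ov P y σ 1) : σ = 1 := by
  ext a
  obtain ⟨b, c, hab, hac, hbc⟩ := two_others a
  have h1 := hσ.2 a b hab
  have h2 := hσ.2 a c hac
  rw [one_mul, inv_one, mul_one] at h1 h2
  have n1 : σ a ≠ σ b := fun e => hab (σ.injective e)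
  have n2 : σ a ≠ σ c := fun e => hac (σ.injective e)
  rcases L.inj _ _ _ _ hab n1 h1 with h3 | h3
  · rw [← h3.1]; rfl
  · rcases L.inj _ _ _ _ hac n2 h2 with h4 | h4
    · rw [← h4.1]; rfl
    · exact absurd (h3.2.trans h4.2.symm) hbc

theorem ov_eq {σ τ : Equiv.Perm (Fin 5)} {x : G} (h1 : Ov P y σ x) (h2 : Ov P y τ x) : σ = τ := by
  have h3 := ov_one L (σ := σ * τ⁻¹) ⟨by
    have := mul_mem h1.1 (inv_mem h1.1)
    rwa [mul_inv_cancel] at this, by
    have := FiveDl.Ov.mul h1.2 (FiveDl.Ov.inv h2.2)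
    rwa [mul_inv_cancel] at this⟩
  exact mul_inv_eq_one.1 h3

/-- `Qs` over `⟨(01), (23)⟩` -/
theorem Qs_over {σ : Equiv.Perm (Fin 5)}
    (h4 : σ = 1 ∨ σ = Equiv.swap 0 1 ∨ σ = Equiv.swap 2 3 ∨ σ = Equiv.swap 0 1 * Equiv.swap 2 3) :
    ∃ x' ∈ Qs (pt 0 1 2 3), Ov P y σ x' := by
  obtain ⟨a, ha, ha'⟩ := L.Qs_ex 0 1 2 3 (by decide)
  obtain ⟨b, hb, hb'⟩ := L.Qs_ex 2 3 0 1 (by decide)
  rw [← L.pt2 0 1 2 3 (by decide)] at hb
  rcases h4 with rfl | rfl | rfl | rfl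
  · exact ⟨1, one_mem _, one_mem _, fun a b _ => by simp⟩
  · exact ⟨a, ha, ha'⟩
  · exact ⟨b, hb, hb'⟩
  · exact ⟨a * b, mul_mem ha hb, mul_mem ha'.1 hb'.1, FiveDl.Ov.mul ha'.2 hb'.2⟩

end

section

variable [Finite G] {S : Sylow 2 G} {P V T : Subgroup G} {z : ι → G} {opp : ι → ι → Prop}
  {C Q QF Qs : ι → Subgroup G} {y : Fin 5 → Fin 5 → G} {pt : Fin 5 → Fin 5 → Fin 5 → Fin 5 → ι}
variable (h : Base S P V T z opp C Q QF Qs (pt 0 1 2 3)) (L : Lab h.toConf y pt)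
include h L

theorem ov_S {x : G} (hx : x ∈ (S : Subgroup G)) : ∃ σ, Ov P y σ x ∧ (σ = 1 ∨ σ ∈ L7) := by
  obtain ⟨σ, hσ, h5⟩ := LabY.ov_z L (h.S_le_P hx) (h.Cz _ x (h.S_le_C hx))
  exact ⟨σ, hσ, L7_of (LabY.d8 h5)⟩

/-- an elementary abelian subgroup of `S` of order `> 24` lies in `T` -/
theorem elem_le (hV : ∀ c ∈ P, (∀ v ∈ V, c * v = v * c) → c ∈ T) (hTD : T ≤ h.toConf.Dl)
    {A : Subgroup G} (hAS : A ≤ (S : Subgroup G)) (hA2 : ∀ a ∈ A, a * a = 1)
    (hAc : ∀ a ∈ A, ∀ b ∈ A, a * b = b * a) (hcard : 24 < Nat.card A) : A ≤ T := by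
  classical
  by_contra hcon
  obtain ⟨x, hxA, hxT⟩ := SetLike.not_le_iff_exists.1 hcon
  have hσ : ∀ a ∈ A, ∃ σ, Ov P y σ a ∧ (σ = 1 ∨ σ ∈ L7) := fun a ha => ov_S h L (hAS ha)
  have hT1 : ∀ a ∈ A, Ov P y 1 a → a ∈ T := fun a _ ho => hV a ho.1 (L.comm_V (Lab.ov ho))
  let f : G → Equiv.Perm (Fin 5) := fun a => if ha : a ∈ A then Classical.choose (hσ a ha) else 1
  have hf : ∀ a ∈ A, Ov P y (f a) a ∧ (f a = 1 ∨ f a ∈ L7) := by
    intro a ha
    have h1 := Classical.choose_spec (hσ a ha)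
    have h2 : f a = Classical.choose (hσ a ha) := dif_pos ha
    rw [h2]
    exact h1
  let s : Finset G := (Set.toFinite (A : Set G)).toFinset
  have hms : ∀ a, a ∈ s ↔ a ∈ A := fun a => by rw [Set.Finite.mem_toFinset]; exact Iff.rfl
  have hs : s.card = Nat.card A := by
    rw [← Set.ncard_eq_toFinset_card]; rfl
  let t : Finset G := (Set.toFinite ((A ⊓ T : Subgroup G) : Set G)).toFinset
  have hmt : ∀ a, a ∈ t ↔ a ∈ A ∧ a ∈ T := fun a => by
    rw [Set.Finite.mem_toFinset]; exact mem_inf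
  -- fibres
  have hfib : ∀ σ ∈ s.image f, (s.filter fun a => f a = σ).card ≤ t.card := by
    intro σ hσ
    obtain ⟨x₀, hx₀, hx₀σ⟩ := Finset.mem_image.1 hσ
    rw [hms] at hx₀
    refine Finset.card_le_card_of_injOn (fun a => a * x₀⁻¹) ?_ (fun a _ b _ hab => mul_right_cancel hab)
    intro a ha
    obtain ⟨ha, haσ⟩ := Finset.mem_filter.1 (Finset.mem_coe.1 ha)
    rw [hms] at ha
    rw [Finset.mem_coe, hmt]
    have h1 := (hf a ha).1
    have h2 := (hf x₀ hx₀).1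
    rw [haσ] at h1
    rw [hx₀σ] at h2
    obtain ⟨h3, h4⟩ := LabY.same_act L h1 h2
    exact ⟨mul_mem ha (inv_mem hx₀), hV _ h3 h4⟩
  have hle := Finset.card_le_mul_card_image s t.card hfib
  rw [hs] at hle
  -- the image
  have him : s.image f ⊆ L6.toFinset := by
    intro σ hσ
    obtain ⟨a, ha, rfl⟩ := Finset.mem_image.1 hσ
    rw [hms] at ha
    rw [List.mem_toFinset]
    obtain ⟨h1, h2⟩ := hf a ha
    rcases h2 with h2 | h2
    · rw [h2]; exact List.mem_cons_self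
    · refine L6_of _ h2 (ov_one L ?_)
      have h3 := FiveDl.Ov.mul h1.2 h1.2
      rw [hA2 a ha] at h3
      exact ⟨one_mem _, h3⟩
  have h6 : (s.image f).card ≤ 6 := (Finset.card_le_card him).trans L6_card
  -- fixed points
  have hfx : ∀ a ∈ A, a ∉ T → f a ∈ L7 ∧ t ⊆ (F (f a)).image (ph y) := by
    intro a ha haT
    obtain ⟨h1, h2⟩ := hf a ha
    refine ⟨h2.resolve_left fun h3 => haT (hT1 a ha (h3 ▸ h1)), fun u hu => ?_⟩
    obtain ⟨huA, huT⟩ := (hmt u).1 hu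
    have huD := hTD huT
    rw [L.Dl_eq] at huD
    obtain ⟨w, hw, rfl⟩ := L.ys.mem_iff.1 huD
    refine Finset.mem_image.2 ⟨w, Finset.mem_filter.2 ⟨Finset.mem_range.2 hw, ?_⟩, rfl⟩
    refine L.ph_inj (ac_lt _ _) hw ?_
    rw [← L.ys.conj (Lab.ov h1), hAc a ha _ huA, mul_inv_cancel_right]
  obtain ⟨hx7, hxF⟩ := hfx x hxA hxT
  have ht8 : t.card ≤ 8 := (Finset.card_le_card hxF).trans (Finset.card_image_le.trans (F_le _ hx7))
  by_cases hall : ∀ a ∈ A, a ∈ T ∨ f a = f x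
  · have h2 : s.image f ⊆ {1, f x} := by
      intro σ hσ
      obtain ⟨a, ha, rfl⟩ := Finset.mem_image.1 hσ
      rw [hms] at ha
      rcases hall a ha with h1 | h1
      · rw [Finset.mem_insert]
        left
        have h3 : Ov P y 1 a := by
          refine ⟨h.TP h1, fun p q hpq => ?_⟩
          have h4 := L.y_T hpq h1
          rw [h4, mul_inv_cancel_right]; rfl
        exact ov_eq L (hf a ha).1 h3
      · rw [h1]; exact Finset.mem_insert_of_mem (Finset.mem_singleton_self _)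
    have h3 : (s.image f).card ≤ 2 := (Finset.card_le_card h2).trans Finset.card_le_two
    have h4 : t.card * (s.image f).card ≤ 8 * 2 := Nat.mul_le_mul ht8 h3
    omega
  · push Not at hall
    obtain ⟨x', hx'A, hx'T, hne⟩ := hall
    obtain ⟨hx7', hxF'⟩ := hfx x' hx'A hx'T
    have h2 : t ⊆ (F (f x) ∩ F (f x')).image (ph y) := by
      intro u hu
      obtain ⟨w, hw, hwu⟩ := Finset.mem_image.1 (hxF hu)
      obtain ⟨w', hw', hwu'⟩ := Finset.mem_image.1 (hxF' hu)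
      have h3 : w = w' := L.ph_inj (Finset.mem_range.1 (Finset.mem_filter.1 hw).1)
        (Finset.mem_range.1 (Finset.mem_filter.1 hw').1) (hwu.trans hwu'.symm)
      subst h3
      exact Finset.mem_image.2 ⟨w, Finset.mem_inter.2 ⟨hw, hw'⟩, hwu⟩
    have h3 : t.card ≤ 4 := (Finset.card_le_card h2).trans
      (Finset.card_image_le.trans (FF_le _ hx7 _ hx7' (fun e => hne e.symm)))
    have h4 : t.card * (s.image f).card ≤ 4 * 6 := Nat.mul_le_mul h3 h6
    omega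

theorem seven0 (hT : ∀ i, h.toConf.Tt i ≤ h.toConf.Dl) {s : G} (hs : s ∈ Q (pt 0 1 2 3))
    (hs' : s ∉ QF (pt 0 1 2 3)) : False := by
  classical
  obtain ⟨g, D⟩ := sevD h L hT hs hs'
  haveI : Nonempty ι := L.nonempty
  have hD : D4 0 1 2 3 := by decide
  have hvV : ph y 30 ∈ V := L.ph_V (by norm_num) (by decide)
  have haV : ph y 29 ∈ V := L.ph_V (by norm_num) (by decide)
  have key : ∀ c ∈ C (pt 0 1 2 3), (∀ u ∈ V, c * u = u * c) →
      c ∈ Q (pt 0 1 2 3) ∨ ph y 30 * c ∈ Q (pt 0 1 2 3) := by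
    intro c hc hcV
    refine D.fix_a hc ?_
    rw [hcV _ haV, mul_inv_cancel_right, mul_inv_cancel]
    exact one_mem _
  have hV : ∀ c ∈ P, (∀ u ∈ V, c * u = u * c) → c ∈ T := by
    intro c hc hcV
    rcases key c (h.PC _ c hc (hcV _ (h.zV _))) hcV with h1 | h1
    · exact h.cT _ c h1 hcV
    · have h2 : ph y 30 * c ∈ T := by
        refine h.cT _ _ h1 fun u hu => ?_
        rw [mul_assoc, hcV u hu, ← mul_assoc, h.Vab _ hvV u hu, mul_assoc]
      have h3 := mul_mem (inv_mem (h.VT hvV)) h2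
      rwa [inv_mul_cancel_left] at h3
  have hTD : T ≤ h.toConf.Dl := by
    intro t ht
    rcases key t (h.TC _ ht) (h.TV t ht) with h1 | h1
    · exact hT _ (h.mem_Tt.2 ⟨ht, h1⟩)
    · have h2 := hT _ (h.mem_Tt.2 ⟨mul_mem (h.VT hvV) ht, h1⟩)
      have h3 := mul_mem (inv_mem (h.V_le_Dl hvV)) h2
      rwa [inv_mul_cancel_left] at h3
  have gen : Qs (pt 0 1 2 3) ≤ closure {x | ∃ c ∈ C (pt 0 1 2 3), ∃ e ∈ V ⊓ Q (pt 0 1 2 3), x = c * e * c⁻¹} := by
    refine (h.QsGen _).trans (closure_mono ?_)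
    rintro _ ⟨c, hc, e, he, heQ, rfl⟩
    exact ⟨c, hc, e, mem_inf.2 ⟨he, heQ⟩, rfl⟩
  have hQsT : ∀ x ∈ Qs (pt 0 1 2 3), x ∈ T → x ∈ V := fun x hx hxT =>
    (mem_inf.1 (D.Qs_cent gen hx fun e he => h.TV x hxT e (mem_inf.1 he).1)).1
  -- `y = y 0 1`
  have hyT : y 0 1 ∈ T := L.y_mem_T (by decide)
  have hyB := L.y_mem_B hD
  have hTS := h.T_le
  have hySS := hTS hyT
  have hy2 := L.sq 0 1 (by decide)
  have hyV := L.notV 0 1 (by decide)
  -- the element `s'`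
  obtain ⟨s', hs'S, hov, hss⟩ : ∃ s' ∈ (S : Subgroup G), Ov P y tt s' ∧ s' * s' ∈ V := by
    obtain ⟨x, hx, hx'⟩ := L.Qs_ex 0 2 1 3 (by decide)
    obtain ⟨x', hx1, hx1'⟩ := L.Qs_ex 1 3 0 2 (by decide)
    rw [← L.pt2 0 2 1 3 (by decide)] at hx1
    have hov : Ov P y tt (x * x') := ⟨mul_mem hx'.1 hx1'.1, FiveDl.Ov.mul hx'.2 hx1'.2⟩
    have hmz : (x * x') * z (pt 0 1 2 3) * (x * x')⁻¹ = z (pt 0 1 2 3) := by
      rw [L.z_eq 0 1 2 3 hD]
      calc (x * x') * (y 0 1 * y 2 3) * (x * x')⁻¹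
          = ((x * x') * y 0 1 * (x * x')⁻¹) * ((x * x') * y 2 3 * (x * x')⁻¹) := by group
        _ = y 2 3 * y 0 1 := by
          rw [hov.2 0 1 (by decide), hov.2 2 3 (by decide)]
          rfl
        _ = y 0 1 * y 2 3 := L.comm _ _ _ _ (by decide) (by decide)
    obtain ⟨s₁, hs₁, c, hc, hcV, hsc⟩ := h.stab _ hov.1 (mul_inv_eq_iff_eq_mul.1 hmz)
    refine ⟨x * x', by rw [hsc]; exact mul_mem hs₁ (hTS (hV c hc hcV)), hov, ?_⟩
    rcases h.sq_Qs (mul_mem hx hx1) with h1 | h1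
    · rw [h1]; exact one_mem V
    · rw [h1]; exact h.zV _
  have hs'P := h.S_le_P hs'S
  have hs'C := h.S_le_C hs'S
  have hs'y : s' * y 0 1 * s'⁻¹ = y 2 3 := hov.2 0 1 (by decide)
  have hS1 : ∀ x ∈ (S : Subgroup G), ∀ q ∈ Qs (pt 0 1 2 3), x * q * x⁻¹ ∈ Qs (pt 0 1 2 3) := fun x hx q hq =>
    norm_conj (h.nQs _) (h.S_le_C hx) hq
  have hS2 : ∀ x ∈ (S : Subgroup G), ∀ q ∈ V, x * q * x⁻¹ ∈ V := fun x hx q hq => h.conj_V (h.S_le_P hx) hq
  -- `N = Qs V`
  set N : Subgroup G := Qs (pt 0 1 2 3) ⊔ V with hN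
  have hmN : ∀ x, x ∈ N ↔ ∃ q ∈ Qs (pt 0 1 2 3), ∃ u ∈ V, x = q * u := fun x => by
    rw [hN]
    exact mem_sup_iff fun a ha b hb => h.conj_V (h.QsP _ ha) hb
  have hNn : ∀ x ∈ (S : Subgroup G), ∀ n ∈ N, x * n * x⁻¹ ∈ N := by
    intro x hx n hn
    obtain ⟨q, hq, u, hu, rfl⟩ := (hmN n).1 hn
    exact (hmN _).2 ⟨_, hS1 x hx q hq, _, hS2 x hx u hu, by group⟩
  have hVN : V ≤ N := le_sup_right
  have hNS : N ≤ (S : Subgroup G) := sup_le ((h.QsQ _).trans h.Q_le) h.V_le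
  have hNy : ∀ n ∈ N, n * y 0 1 = y 0 1 * n := by
    intro n hn
    obtain ⟨q, hq, u, hu, rfl⟩ := (hmN n).1 hn
    have h1 : q * y 0 1 = y 0 1 * q := ((h.mem_B.1 hyB).2 q hq).symm
    have h2 : u * y 0 1 = y 0 1 * u := L.y_T (by decide) (h.VT hu)
    rw [mul_assoc, h2, ← mul_assoc, h1, mul_assoc]
  have hNT : ∀ n ∈ N, n ∈ T → n ∈ V := by
    intro n hn hnT
    obtain ⟨q, hq, u, hu, rfl⟩ := (hmN n).1 hn
    have h1 : q ∈ T := by
      have := mul_mem hnT (inv_mem (h.VT hu))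
      rwa [mul_inv_cancel_right] at this
    exact mul_mem (hQsT q hq h1) hu
  -- `K = N ⟨s'⟩`
  let K : Subgroup G :=
    { carrier := {x | x ∈ (S : Subgroup G) ∧ (x ∈ N ∨ s' * x ∈ N)}
      one_mem' := ⟨one_mem _, Or.inl (one_mem _)⟩
      mul_mem' := by
        rintro a b ⟨ha, ha'⟩ ⟨hb, hb'⟩
        refine ⟨mul_mem ha hb, ?_⟩
        rcases ha' with ha' | ha' <;> rcases hb' with hb' | hb'
        · exact Or.inl (mul_mem ha' hb')
        · right
          have e : s' * (a * b) = (s' * a * s'⁻¹) * (s' * b) := by group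
          rw [e]; exact mul_mem (hNn s' hs'S a ha') hb'
        · right
          rw [← mul_assoc]; exact mul_mem ha' hb'
        · left
          have e : a * b = (s'⁻¹ * (s' * a) * s'⁻¹⁻¹) * (s' * s')⁻¹ * (s' * b) := by group
          rw [e]
          exact mul_mem (mul_mem (hNn _ (inv_mem hs'S) _ ha') (inv_mem (hVN hss))) hb'
      inv_mem' := by
        rintro a ⟨ha, ha'⟩
        refine ⟨inv_mem ha, ?_⟩
        rcases ha' with ha' | ha'
        · exact Or.inl (inv_mem ha')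
        · right
          have e : s' * a⁻¹ = (s' * (s' * a)⁻¹ * s'⁻¹) * (s' * s') := by group
          rw [e]; exact mul_mem (hNn s' hs'S _ (inv_mem ha')) (hVN hss) }
  have hmK : ∀ x, x ∈ K ↔ x ∈ (S : Subgroup G) ∧ (x ∈ N ∨ s' * x ∈ N) := fun x => Iff.rfl
  have hNK : N ≤ K := fun x hx => (hmK x).2 ⟨hNS hx, Or.inl hx⟩
  have hKT : ∀ x ∈ K, x ∈ T → x ∈ V := by
    intro x hx hxT
    rcases ((hmK x).1 hx).2 with h1 | h1
    · exact hNT x h1 hxT
    · exfalso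
      have h2 := hNy _ h1
      have h3 : x * y 0 1 = y 0 1 * x := L.y_T (by decide) hxT
      have h4 : s' * y 0 1 = y 0 1 * s' := by
        have h5 : s' * y 0 1 * x = y 0 1 * s' * x := by
          rw [mul_assoc, ← h3, ← mul_assoc, h2, mul_assoc]
        exact mul_right_cancel h5
      rw [h4, mul_inv_cancel_right] at hs'y
      exact L.y_ne hD hs'y
  have hyK : y 0 1 ∉ K := fun hc => hyV (hKT _ hc hyT)
  -- elements over `⟨(01), (23)⟩`
  have hT2 : ∀ c ∈ T, c ∈ V ∨ c * y 0 1 ∈ V := fun c hc => (L.mem_iff 0 1 (by decide) c).1 (hTD hc)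
  have hN4 : ∀ x, ∀ σ, Ov P y σ x → (σ = 1 ∨ σ = Equiv.swap 0 1 ∨ σ = Equiv.swap 2 3 ∨
      σ = Equiv.swap 0 1 * Equiv.swap 2 3) → x ∈ N ∨ x * y 0 1 ∈ N := by
    intro x σ hσ h4
    obtain ⟨q, hq, hqσ⟩ := Qs_over L h4
    obtain ⟨h1, h2⟩ := LabY.same_act L hσ hqσ
    have h3 := hV _ h1 h2
    have hqN : q ∈ N := (hmN q).2 ⟨q, hq, 1, one_mem _, (mul_one q).symm⟩
    rcases hT2 _ h3 with h5 | h5
    · left
      have e : x = (x * q⁻¹) * q := by group
      rw [e]; exact mul_mem (hVN h5) hqN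
    · right
      have hqy := hNy q hqN
      have e : x * y 0 1 = (x * q⁻¹ * y 0 1) * q := by
        calc x * y 0 1 = x * q⁻¹ * (q * y 0 1) := by group
          _ = _ := by rw [hqy]; group
      rw [e]; exact mul_mem (hVN h5) hqN
  have hK2 : ∀ x ∈ (S : Subgroup G), x ∈ K ∨ x * y 0 1 ∈ K := by
    intro x hx
    obtain ⟨σ, hσ, h5⟩ := LabY.ov_z L (h.S_le_P hx) (h.Cz _ x (h.S_le_C hx))
    rcases LabY.d8 h5 with h6 | h6
    · rcases hN4 x σ hσ h6 with h7 | h7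
      · exact Or.inl (hNK h7)
      · exact Or.inr (hNK h7)
    · have h8 : Ov P y (tt * σ) (s' * x) := ⟨mul_mem hs'P (h.S_le_P hx), FiveDl.Ov.mul hov.2 hσ.2⟩
      have htt : tt * tt = 1 := by decide
      have h9 : tt * σ = 1 ∨ tt * σ = Equiv.swap 0 1 ∨ tt * σ = Equiv.swap 2 3 ∨
          tt * σ = Equiv.swap 0 1 * Equiv.swap 2 3 := by
        rcases h6 with rfl | rfl | rfl | rfl
        · exact Or.inl htt
        · rw [← mul_assoc, htt, one_mul]; exact Or.inr (Or.inl rfl)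
        · rw [← mul_assoc, htt, one_mul]; exact Or.inr (Or.inr (Or.inl rfl))
        · rw [← mul_assoc, htt, one_mul]; exact Or.inr (Or.inr (Or.inr rfl))
      rcases hN4 _ _ h8 h9 with h7 | h7
      · exact Or.inl ((hmK x).2 ⟨hx, Or.inr h7⟩)
      · right
        rw [mul_assoc] at h7
        exact (hmK _).2 ⟨mul_mem hx hySS, Or.inr h7⟩
  have hBS : ∀ b ∈ (S : Subgroup G), b⁻¹ * y 0 1 * b * y 0 1 ∈ V := by
    intro b hb
    have h1 := norm_conj (h.B_norm (pt 0 1 2 3)) (inv_mem (h.S_le_C hb)) hyB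
    rw [inv_inv] at h1
    have hbV : b⁻¹ * y 0 1 * b ∉ V := by
      intro hc
      apply hyV
      have := hS2 b hb _ hc
      rwa [show b * (b⁻¹ * y 0 1 * b) * b⁻¹ = y 0 1 by group] at this
    rcases (L.B_eq hD).1 h1 with h2 | h2 | h2 | h2
    · exact absurd (by rw [h2]; exact one_mem V) hbV
    · exact absurd (by rw [h2]; exact h.zV _) hbV
    · rw [h2, hy2]; exact one_mem V
    · rw [h2, ← L.comm _ _ _ _ (by decide) (by decide), ← L.z_eq 0 1 2 3 hD]; exact h.zV _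
  have hK : ∀ a ∈ (S : Subgroup G), ∀ b ∈ (S : Subgroup G), (a * b ∈ K ↔ (a ∈ K ↔ b ∈ K)) := by
    intro a ha b hb
    constructor
    · intro hab
      constructor
      · intro haK
        have := mul_mem (inv_mem haK) hab
        rwa [inv_mul_cancel_left] at this
      · intro hbK
        have := mul_mem hab (inv_mem hbK)
        rwa [mul_inv_cancel_right] at this
    · intro hiff
      by_cases haK : a ∈ K
      · exact mul_mem haK (hiff.1 haK)
      · have hbK : b ∉ K := fun hc => haK (hiff.2 hc)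
        have h1 := (hK2 a ha).resolve_left haK
        have h2 := (hK2 b hb).resolve_left hbK
        have h3 := mul_mem h1 h2
        have h4 := hNK (hVN (hBS b hb))
        have e : a * b = (a * y 0 1 * (b * y 0 1)) * (b⁻¹ * y 0 1 * b * y 0 1)⁻¹ := by group
        rw [e]
        exact mul_mem h3 (inv_mem h4)
  -- `T` is weakly closed
  have hwc : ∀ g : G, (∀ t ∈ T, g * t * g⁻¹ ∈ (S : Subgroup G)) → ∀ t ∈ T, g * t * g⁻¹ ∈ T := by
    intro g hg t ht
    refine elem_le h L hV hTD (A := T.map (MulAut.conj g).toMonoidHom) ?_ ?_ ?_ ?_ ⟨t, ht, rfl⟩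
    · rintro _ ⟨u, hu, rfl⟩; exact hg u hu
    · rintro _ ⟨u, hu, rfl⟩
      show g * u * g⁻¹ * (g * u * g⁻¹) = 1
      have : g * u * g⁻¹ * (g * u * g⁻¹) = g * (u * u) * g⁻¹ := by group
      rw [this, h.Dl_sq (hTD hu)]; group
    · rintro _ ⟨u, hu, rfl⟩ _ ⟨w, hw, rfl⟩
      show g * u * g⁻¹ * (g * w * g⁻¹) = g * w * g⁻¹ * (g * u * g⁻¹)
      have h1 : u * w = w * u := h.T_Dl hu (hTD hw)
      calc g * u * g⁻¹ * (g * w * g⁻¹) = g * (u * w) * g⁻¹ := by group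
        _ = _ := by rw [h1]; group
    · have h1 : Nat.card ↥(T.map (MulAut.conj g).toMonoidHom) = Nat.card T :=
        Subgroup.card_map_of_injective (MulAut.conj g).injective
      rw [h1]
      have h2 : (((Finset.range 32).image (ph y) : Finset G) : Set G) ⊆ (T : Set G) := by
        intro x hx
        rw [Finset.mem_coe, Finset.mem_image] at hx
        obtain ⟨w, hw, rfl⟩ := hx
        refine h.Dl_le_T ?_
        rw [L.Dl_eq]
        exact L.ys.ph_mem (Finset.mem_range.1 hw)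
      have h3 := Set.ncard_le_ncard h2 (Set.toFinite _)
      rw [Set.ncard_coe_finset, Finset.card_image_of_injOn (fun w hw w' hw' e => L.ph_inj
        (Finset.mem_range.1 (Finset.mem_coe.1 hw)) (Finset.mem_range.1 (Finset.mem_coe.1 hw')) e),
        Finset.card_range] at h3
      have h4 : (T : Set G).ncard = Nat.card T := rfl
      omega
  obtain ⟨f, hf⟩ := TransY.exists_hom S hTS hK hyT hy2 (fun t ht => L.y_T (by decide) ht) hwc (by
    intro g hg hgK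
    have h1 := hKT _ hgK hg
    have h2 : g * y 0 1 * g⁻¹ ≠ 1 := fun hc => L.ne_one 0 1 (by decide) (conj_eq_one_iff.1 hc)
    obtain ⟨a, b, c, d, hD', h3⟩ := LabY.exists_pt L h1 h2
    exact LabY.not_conj h L (by decide) _ g h3)
  -- no homomorphism onto `{± 1}`
  haveI := h.ctx.simple
  rcases (f.normal_ker).eq_bot_or_eq_top with h1 | h1
  · apply h.ctx.nonComm
    refine ⟨⟨fun a b => ?_⟩⟩
    apply (MonoidHom.ker_eq_bot_iff f).1 h1
    rw [map_mul, map_mul, mul_comm]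
  · have h2 : y 0 1 ∈ f.ker := by rw [h1]; exact mem_top _
    rw [MonoidHom.mem_ker, hf] at h2
    exact absurd h2 (by decide)

end

/-- **(7)**: `Δ > V`, `T₀ = Δ`: `Q i₀ = QF i₀`. -/
theorem seven [Finite G] {S : Sylow 2 G} {P V T : Subgroup G} {z : ι → G} {opp : ι → ι → Prop}
    {C Q QF Qs : ι → Subgroup G} {y : Fin 5 → Fin 5 → G} {pt : Fin 5 → Fin 5 → Fin 5 → Fin 5 → ι}
    {i₀ : ι} (h : Base S P V T z opp C Q QF Qs i₀) (L : Lab h.toConf y pt)
    (hT : ∀ i, h.toConf.Tt i ≤ h.toConf.Dl) : Q i₀ ≤ QF i₀ := by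
  intro s hs
  by_contra hs'
  obtain ⟨π, L', rfl⟩ := L.exists_base i₀
  exact seven0 (y := fun a b => y (π a) (π b)) (pt := fun a b c d => pt (π a) (π b) (π c) (π d)) h L' hT hs hs'

end Cfsg.Agent.Omega.NOne.AG.Seven

end

section


/-!
# THEOREM D0ag (bb #15001): the leaf `EndNat4` of N1

`exists_baseA` : the frame of type (α); `false_of_lab` : no labelling, i.e. (5), (6), (7);
**`endNat4`** : the leaf.
-/

set_option autoImplicit false

namespace Cfsg.Agent.Omega.NOne.AG.End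

open Subgroup Cfsg Cfsg.Agent.ZN Cfsg.Agent.Omega.MinPar Cfsg.Agent.Omega.Frame
open Cfsg.Agent.Omega.NO1 (Cfg Plus2 Nat4 Sympl EE)

universe u

/-- **The frame of type (α).** -/
theorem exists_baseA {G : Type u} [Group G] [Finite G] {S : Sylow 2 G} {P : Subgroup G} {W : Tab.B4 → G}
    (h : Cfg S P) (A : Tab.AW P (zl (S : Subgroup G) P) W)
    (hz : zc (S : Subgroup G) = zpowers (W Tab.z0))
    (hE : (EE (S : Subgroup G) P).relIndex (zl (S : Subgroup G) P) = 2) :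
    ∃ (C QF Qs : Subgroup G) (hp : Pt P (zl (S : Subgroup G) P)
        ((S : Subgroup G) ⊓ centralizer (zl (S : Subgroup G) P : Set G)) (W Tab.z0) C (o2 C) QF Qs),
      (∀ v ∈ zl (S : Subgroup G) P, ∀ d ∈ C, d ≠ 1 → Odd (orderOf d) → v * d * v⁻¹ = d⁻¹ →
        C ≤ closure ({m | m ∈ P ∧ m * W Tab.z0 = W Tab.z0 * m} ∪ {d})) ∧
      Base S P (zl (S : Subgroup G) P)
        ((S : Subgroup G) ⊓ centralizer (zl (S : Subgroup G) P : Set G))
        (fun i : Pts P (W Tab.z0) => i.val) hp.opp (tr P (W Tab.z0) C) (tr P (W Tab.z0) (o2 C))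
        (tr P (W Tab.z0) QF) (tr P (W Tab.z0) Qs) (Pts.base P (W Tab.z0)) := by
  refine exists_base h hz (fun e => ?_) A.card hE (FactsNat.facts h A hz hE) (FactsNat.stab h A hz)
    (FactsNat.ind h A hz)
  rw [← A.zero] at e
  exact absurd (A.inj _ _ e) (by decide)

/-- **No labelling** : (5), (6), (7). -/
theorem false_of_lab {G : Type u} [Group G] [Finite G] {ι : Type*} {S : Sylow 2 G} {P V T : Subgroup G}
    {z : ι → G} {opp : ι → ι → Prop} {C Q QF Qs : ι → Subgroup G} {i₀ : ι}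
    (hB : Base S P V T z opp C Q QF Qs i₀) {y : Fin 5 → Fin 5 → G}
    {pt : Fin 5 → Fin 5 → Fin 5 → Fin 5 → ι} (L : Lab hB.toConf y pt)
    (hgen : ∀ v ∈ V, ∀ d ∈ C i₀, d ≠ 1 → Odd (orderOf d) → v * d * v⁻¹ = d⁻¹ →
      C i₀ ≤ closure ({m | m ∈ P ∧ m * z i₀ = z i₀ * m} ∪ {d})) : False := by
  have hT := FivePlug.T0_le hB L
  exact L.six_false hT i₀ (Seven.seven hB L fun i => (hB.toConf.Tt_le_T0 i).trans hT)
    fun v hv _ d hd hd1 hdo hvd => hgen v hv d hd hd1 hdo hvd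

/-- Type (α): the configuration, `Δ ≤ V`. -/
theorem natBase : NatBase.{u} := by
  intro G _ _ S P h hN
  obtain ⟨W, A, hz⟩ := exists_aw h hN
  obtain ⟨C, QF, Qs, hp, hgen, hB⟩ := exists_baseA h A hz hN.ind
  refine ⟨_, _, _, _, _, _, _, _, hB, ?_⟩
  by_contra hD
  have : Nonempty (Pts P (W Tab.z0)) := ⟨Pts.base P (W Tab.z0)⟩
  obtain ⟨y, pt, L⟩ := LabOf.exists_lab hB.toConf A (fun _ _ e => Subtype.ext e) hD
  refine false_of_lab hB L ?_
  rw [hp.trC_base]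
  exact hgen

/-- Type (α): `T = V` is impossible. -/
theorem natRank : NatRank.{u} := by
  intro G _ _ S P h hN _ h5
  obtain ⟨ι, ζ, opp, C, Q, QF, Qs, i₀, hB, -⟩ := natBase G S P h hN
  obtain ⟨W, A, hz⟩ := exists_aw h hN
  exact hB.false_of_alp h5 A.alp

/-- **The leaf `EndNat4` of N1.** -/
theorem endNat4 : NO1.EndNat4.{u} := endNat4_of natBase natRank

end Cfsg.Agent.Omega.NOne.AG.End

end

section


/-!
# N1, type (γ): `|V / E| = 2` (`End.PlusIdx`; bb #14731, helper537)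

The `S`-invariant subgroups of `V = N₁ ⊗ N₂` are `1 < ⟨z⟩ < ⟨z, e₀⟩ < z^⊥ < V`, and `E = V ∩ Q` is neither `⟨z⟩`
(Lemma T) nor `V`.  If `E = ⟨z, e₀⟩`, then `Q` induces on `V` a subgroup of `⟨s, s'⟩` (the transvections with
centres `e₀`, `z e₀`), so `Y = ⟨E^C⟩ ≤ Z(Q)`, and `Y` induces `s` and `s'` (otherwise `[Y, z₀₁] ≤ ⟨z⟩` and
`z₀₁ ∈ Q`).  Now `IdxD.false` applies to `v₁ = z₁₁`, `v₂ = z₂₁`.
-/

set_option autoImplicit false
set_option linter.unusedSectionVars false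

namespace Cfsg.Agent.Omega.NOne.AG.Idx

open Subgroup Cfsg Cfsg.Agent.ZN Cfsg.Agent.Omega.MinPar Cfsg.Agent.Omega.Frame
open Cfsg.Agent.Omega.NO1 (Cfg Plus2 EE)
open Cfsg.Agent.Omega.NoFF.LinesPlug (CC)
open Cfsg.Agent.Omega.NOne.DPlus
open Cfsg.Agent.Omega.NOne.DPlusPts
open Cfsg.Agent.Omega.NOne.PlusVec
open Cfsg.Agent.Omega.NOne.AG.FactsPlus

universe u

/-! ### codes -/

theorem code_a : ∀ v : B4, v.2.2.2 = false → v ≠ o → v ≠ z0 → v ≠ e0 → v ≠ e1 →
    add v (lin (act8 true false false) v) = e0 := by decide +kernel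

theorem code_b : ∀ v : B4, v.2.2.2 = true → (add v (lin (act8 false true false) v)).2.2.2 = false ∧
    (add v (lin (act8 false true false) v)) ≠ o ∧ (add v (lin (act8 false true false) v)) ≠ z0 ∧
    (add v (lin (act8 false true false) v)) ≠ e0 ∧ (add v (lin (act8 false true false) v)) ≠ e1 := by
  decide +kernel

theorem code_perp1 : ∀ v : B4, v.2.2.2 = false → v ∉ [o, z0, e0, e1] → ∀ w : B4, w.2.2.2 = false →
    w ∈ [o, z0, e0, e1, v, add z0 v, add e0 v, add e1 v] := by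
  decide +kernel

theorem code_perp (v w : B4) (hv : v.2.2.2 = false) (h1 : v ≠ o) (h2 : v ≠ z0) (h3 : v ≠ e0) (h4 : v ≠ e1)
    (hw : w.2.2.2 = false) :
    w = o ∨ w = z0 ∨ w = e0 ∨ w = e1 ∨ w = v ∨ w = add z0 v ∨ w = add e0 v ∨ w = add e1 v := by
  have h5 := code_perp1 v hv (by simp [h1, h2, h3, h4]) w hw
  simpa only [List.mem_cons, List.not_mem_nil, or_false] using h5

/-- the elements of `D₈` that move `V` by elements of `⟨z, e₀⟩` -/
theorem code_F : ∀ b i j : Bool, (∀ v : B4, add (lin (act8 b i j) v) v = o ∨ add (lin (act8 b i j) v) v = z0 ∨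
    add (lin (act8 b i j) v) v = e0 ∨ add (lin (act8 b i j) v) v = e1) → i = j := by decide +kernel

theorem code_fix : ∀ b i : Bool, lin (act8 b i i) z0 = z0 ∧ lin (act8 b i i) e0 = e0 ∧
    lin (act8 b i i) e1 = e1 := by decide +kernel

theorem z0_def : z0 = vec (0, 0) := by decide
theorem e0_e1 : add z0 e0 = e1 := by decide
theorem e1_e0 : add z0 e1 = e0 := by decide

theorem code_11 : ∀ b i : Bool, lin (act8 b i i) (vec (1, 1)) = vec (1, 1) ∨
    lin (act8 b i i) (vec (1, 1)) = add e1 (vec (1, 1)) := by decide +kernel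

theorem code_21 : ∀ b i : Bool, lin (act8 b i i) (vec (2, 1)) = vec (2, 1) ∨
    lin (act8 b i i) (vec (2, 1)) = add e0 (vec (2, 1)) := by decide +kernel

/-- `s = act8 true false false` -/
theorem code_s : lin (act8 true false false) (vec (1, 1)) = vec (1, 1) ∧
    lin (act8 true false false) (vec (2, 1)) = add e0 (vec (2, 1)) := by decide +kernel

/-- `s' = act8 true true true` -/
theorem code_s' : lin (act8 true true true) (vec (1, 1)) = add e1 (vec (1, 1)) ∧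
    lin (act8 true true true) (vec (2, 1)) = vec (2, 1) := by decide +kernel

/-- `s s' = act8 false true true` and `1` move `z₀₁` by elements of `⟨z⟩`. -/
theorem code_01 : ∀ i : Bool, lin (act8 false i i) (vec (0, 1)) = vec (0, 1) ∨
    lin (act8 false i i) (vec (0, 1)) = add z0 (vec (0, 1)) := by decide +kernel

/-- `s` and `s'` are conjugate under `act8 false true false` -/
theorem code_conj : ∀ (i : Bool) (p : Fin 3 × Fin 3),
    act8 false true false (act8 true i i (act8 false true false p)) = act8 true (!i) (!i) p := by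
  decide +kernel

theorem code_inv : ∀ p, act8 false true false (act8 false true false p) = p := by decide +kernel

section main

variable {G : Type u} [Group G] [Finite G] {S : Sylow 2 G} {P : Subgroup G} {z : Fin 3 → Fin 3 → G}

/-- `E < V` -/
theorem E_ne (h : Cfg S P) : ¬ zl (S : Subgroup G) P ≤ EE (S : Subgroup G) P := fun hle =>
  h.one.not_le (hle.trans inf_le_right)

/-- `⟨z⟩ < E` (Lemma T) -/
theorem E_not_le (h : Cfg S P) (hz : Plus2 (S : Subgroup G) P z) :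
    ¬ EE (S : Subgroup G) P ≤ zc (S : Subgroup G) := by
  intro hle
  have h1 := LemmaT.lemmaT S (F := zc (S : Subgroup G)) (V := zl (S : Subgroup G) P) h.char2C h.Z_le_V
    h.V_le_S (h.S_le.trans (Cfg.P_norm_V S P)) ?_ h.V_comm hle
  · have h2 := h1 ((pts hz).mem (0, 1))
    rw [hz.Z] at h2
    have h3 : ∀ x ∈ zpowers (z 0 0), x = phi (zz z) o ∨ x = phi (zz z) z0 := by
      rintro x ⟨n, rfl⟩
      change z 0 0 ^ n = _ ∨ z 0 0 ^ n = _
      have h4 : phi (zz z) z0 = z 0 0 := phi_vec (grid hz) (0, 0)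
      rw [phi_o, h4]
      have h5 : z 0 0 ^ (2 : ℤ) = 1 := by rw [zpow_two, hz.sq]
      rcases Int.even_or_odd' n with ⟨k, hk | hk⟩
      · left; rw [hk, zpow_mul, h5, one_zpow]
      · right; rw [hk, zpow_add, zpow_mul, h5, one_zpow, one_mul, zpow_one]
    rw [← phi_vec (grid hz) (0, 1)] at h2
    rcases h3 _ h2 with h4 | h4
    · exact absurd (phi_inj (grid hz) h4) (by decide)
    · exact absurd (phi_inj (grid hz) h4) (by decide)
  · refine le_norm_of fun s hs x hx => ?_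
    have h2 := (mem_zc.1 hx).2.1 s hs
    rw [h2, mul_inv_cancel_right]
    exact hx

theorem z0_mem (h : Cfg S P) (hz : Plus2 (S : Subgroup G) P z) : phi (zz z) z0 ∈ EE (S : Subgroup G) P := by
  have h1 : phi (zz z) z0 = z 0 0 := phi_vec (grid hz) (0, 0)
  rw [h1]
  apply h.Z_le_E
  rw [hz.Z]
  exact mem_zpowers _

theorem lin_mem (h : Cfg S P) (hz : Plus2 (S : Subgroup G) P z) {v : B4}
    (hv : phi (zz z) v ∈ EE (S : Subgroup G) P) (b i j : Bool) :
    phi (zz z) (lin (act8 b i j) v) ∈ EE (S : Subgroup G) P := by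
  obtain ⟨s, hs, h1⟩ := exists_S h hz b i j
  rw [← h1.conj_phi (grid hz)]
  exact conj_E h hs hv

theorem add_mem' (hz : Plus2 (S : Subgroup G) P z) {v w : B4}
    (hv : phi (zz z) v ∈ EE (S : Subgroup G) P) (hw : phi (zz z) w ∈ EE (S : Subgroup G) P) :
    phi (zz z) (add v w) ∈ EE (S : Subgroup G) P := by
  rw [phi_add (grid hz)]
  exact mul_mem hv hw

/-- `e₀ ∈ E` -/
theorem e0_mem (h : Cfg S P) (hz : Plus2 (S : Subgroup G) P z) : phi (zz z) e0 ∈ EE (S : Subgroup G) P := by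
  obtain ⟨x, hx, hxz⟩ := SetLike.not_le_iff_exists.1 (E_not_le h hz)
  obtain ⟨v, rfl⟩ := exists_phi (pts hz) hx.1
  have hvo : v ≠ o := by
    rintro rfl
    rw [phi_o] at hxz
    exact hxz (one_mem _)
  have hvz : v ≠ z0 := by
    rintro rfl
    apply hxz
    have h1 : phi (zz z) z0 = z 0 0 := phi_vec (grid hz) (0, 0)
    rw [h1, hz.Z]
    exact mem_zpowers _
  have key : ∀ w : B4, w.2.2.2 = false → w ≠ o → w ≠ z0 → phi (zz z) w ∈ EE (S : Subgroup G) P →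
      phi (zz z) e0 ∈ EE (S : Subgroup G) P := by
    intro w hw hwo hwz hwE
    by_cases hw0 : w = e0
    · rwa [← hw0]
    by_cases hw1 : w = e1
    · rw [hw1] at hwE
      have h1 := add_mem' hz (z0_mem h hz) hwE
      rwa [e1_e0] at h1
    · have h1 := add_mem' hz hwE (lin_mem h hz hwE true false false)
      rwa [code_a w hw hwo hwz hw0 hw1] at h1
  by_cases hd : v.2.2.2 = false
  · exact key v hd hvo hvz hx
  · rw [Bool.not_eq_false] at hd
    obtain ⟨h1, h2, h3, -, -⟩ := code_b v hd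
    exact key _ h1 h2 h3 (add_mem' hz hx (lin_mem h hz hx false true false))

theorem e1_mem (h : Cfg S P) (hz : Plus2 (S : Subgroup G) P z) : phi (zz z) e1 ∈ EE (S : Subgroup G) P := by
  have h1 := add_mem' hz (z0_mem h hz) (e0_mem h hz)
  rwa [e0_e1] at h1

/-- `|V / E| = 2` or `E = ⟨z, e₀⟩` -/
theorem two_cases (h : Cfg S P) (hz : Plus2 (S : Subgroup G) P z) :
    (EE (S : Subgroup G) P).relIndex (zl (S : Subgroup G) P) = 2 ∨
      ∀ v, phi (zz z) v ∈ EE (S : Subgroup G) P → v = o ∨ v = z0 ∨ v = e0 ∨ v = e1 := by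
  by_cases hcon : ∀ v, phi (zz z) v ∈ EE (S : Subgroup G) P → v = o ∨ v = z0 ∨ v = e0 ∨ v = e1
  · exact Or.inr hcon
  left
  push Not at hcon
  obtain ⟨v, hv, hvo, hvz, hv0, hv1⟩ := hcon
  obtain ⟨v, hv, hvo, hvz, hv0, hv1, hvd⟩ : ∃ v, phi (zz z) v ∈ EE (S : Subgroup G) P ∧ v ≠ o ∧ v ≠ z0 ∧
      v ≠ e0 ∧ v ≠ e1 ∧ v.2.2.2 = false := by
    by_cases hd : v.2.2.2 = false
    · exact ⟨v, hv, hvo, hvz, hv0, hv1, hd⟩
    · rw [Bool.not_eq_false] at hd
      obtain ⟨h1, h2, h3, h4, h5⟩ := code_b v hd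
      exact ⟨_, add_mem' hz hv (lin_mem h hz hv false true false), h2, h3, h4, h5, h1⟩
  have hperp : ∀ w : B4, w.2.2.2 = false → phi (zz z) w ∈ EE (S : Subgroup G) P := by
    intro w hw
    rcases code_perp v w hvd hvo hvz hv0 hv1 hw with h1 | h1 | h1 | h1 | h1 | h1 | h1 | h1 <;> rw [h1]
    · rw [phi_o]; exact one_mem _
    · exact z0_mem h hz
    · exact e0_mem h hz
    · exact e1_mem h hz
    · exact hv
    · exact add_mem' hz (z0_mem h hz) hv
    · exact add_mem' hz (e0_mem h hz) hv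
    · exact add_mem' hz (e1_mem h hz) hv
  have hiff : ∀ w : B4, phi (zz z) w ∈ EE (S : Subgroup G) P ↔ w.2.2.2 = false := by
    intro w
    refine ⟨fun hw => ?_, hperp w⟩
    by_contra hd
    rw [Bool.not_eq_false] at hd
    apply E_ne h
    intro x hx
    obtain ⟨u, rfl⟩ := exists_phi (pts hz) hx
    by_cases hu : u.2.2.2 = false
    · exact hperp u hu
    · rw [Bool.not_eq_false] at hu
      have h1 : phi (zz z) (add u w) ∈ EE (S : Subgroup G) P := by
        apply hperp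
        show (u.2.2.2 ^^ w.2.2.2) = false
        rw [hu, hd]; rfl
      rw [phi_add (grid hz)] at h1
      have h2 := mul_mem h1 (inv_mem hw)
      rwa [mul_inv_cancel_right] at h2
  rw [relIndex, index_eq_two_iff]
  refine ⟨⟨zz z (1, 1), (pts hz).mem _⟩, ?_⟩
  rintro ⟨b, hb⟩
  obtain ⟨u, rfl⟩ := exists_phi (pts hz) hb
  rw [mem_subgroupOf, mem_subgroupOf]
  change Xor (phi (zz z) u * zz z (1, 1) ∈ _) (phi (zz z) u ∈ _)
  rw [← phi_vec (grid hz) (1, 1), ← phi_add (grid hz), hiff, hiff]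
  have h3 : (add u (vec (1, 1))).2.2.2 = (u.2.2.2 ^^ true) := rfl
  rw [h3]
  cases u.2.2.2
  · right; simp
  · left; simp

/-! ### `E = ⟨z, e₀⟩` is impossible -/

/-- the normal closure of `E` in `C` -/
def YY (C E : Subgroup G) : Subgroup G := closure {y | ∃ c ∈ C, ∃ e ∈ E, y = c * e * c⁻¹}

omit [Finite G] in
theorem le_YY (C E : Subgroup G) : E ≤ YY C E := fun e he =>
  subset_closure ⟨1, one_mem _, e, he, by group⟩

omit [Finite G] in
theorem YY_norm (C E : Subgroup G) : C ≤ normalizer (YY C E : Set G) := by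
  refine le_norm_of fun c hc x hx => ?_
  induction hx using closure_induction with
  | mem x hx =>
    obtain ⟨d, hd, e, he, rfl⟩ := hx
    exact subset_closure ⟨c * d, mul_mem hc hd, e, he, by group⟩
  | one => simp
  | mul a b _ _ ha hb =>
    have e : c * (a * b) * c⁻¹ = (c * a * c⁻¹) * (c * b * c⁻¹) := by group
    rw [e]; exact mul_mem ha hb
  | inv a _ ha =>
    have e : c * a⁻¹ * c⁻¹ = (c * a * c⁻¹)⁻¹ := by group
    rw [e]; exact inv_mem ha

theorem false_of (h : Cfg S P) (hz : Plus2 (S : Subgroup G) P z)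
    (hE : ∀ v, phi (zz z) v ∈ EE (S : Subgroup G) P → v = o ∨ v = z0 ∨ v = e0 ∨ v = e1) : False := by
  set V := zl (S : Subgroup G) P with hV
  set C := centralizer ({z 0 0} : Set G) with hC
  have hCC : CC (S : Subgroup G) = C := CC_eq hz
  have hEE : EE (S : Subgroup G) P = V ⊓ o2 C := EE_eq hz
  have hg := grid hz
  have hp := pts hz
  have hzz : phi (zz z) z0 = z 0 0 := phi_vec hg (0, 0)
  have hchar2 : ∀ c ∈ C, (∀ x ∈ o2 C, c * x = x * c) → c ∈ o2 C := by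
    intro c hc hcx
    have h1 := h.char2C
    rw [hCC] at h1
    exact h1 ⟨hc, mem_centralizer_iff.2 fun x hx => (hcx x hx).symm⟩
  have hQS : o2 C ≤ (S : Subgroup G) := by
    have h1 := h.Q_le_S
    rwa [hCC] at h1
  have hSC : (S : Subgroup G) ≤ C := by
    have h1 := Cfg.S_le_CC S
    rwa [hCC] at h1
  have hVC : V ≤ C := h.V_le_S.trans hSC
  have hnQ : C ≤ normalizer (o2 C : Set G) := MinSimple.VModule.le_normalizer_o2 _
  have hVab : ∀ x ∈ V, ∀ y ∈ V, x * y = y * x := fun x hx y hy => hp.abel hx hy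
  have hCz : ∀ c ∈ C, c * z 0 0 = z 0 0 * c := fun c hc => mem_centralizer_singleton_iff.1 hc
  -- `[V, Q] ≤ E`
  have hVQ : ∀ v ∈ V, ∀ x ∈ o2 C, v * x * v⁻¹ * x⁻¹ ∈ EE (S : Subgroup G) P := by
    intro v hv x hx
    rw [hEE]
    refine ⟨?_, (o2 C).mul_mem (norm_conj hnQ (hVC hv) hx) ((o2 C).inv_mem hx)⟩
    have h1 := norm_conj (Cfg.P_norm_V S P) (h.S_le (hQS hx)) (inv_mem hv)
    have h2 := mul_mem hv h1
    have e : v * x * v⁻¹ * x⁻¹ = v * (x * v⁻¹ * x⁻¹) := by group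
    rw [e]; exact h2
  -- the action of `Q`
  have hQact : ∀ x ∈ o2 C, ∃ b i, Has (zz z) x (act8 b i i) := by
    intro x hx
    obtain ⟨b, i, j, h1⟩ := exists_act8 hz (h.S_le (hQS hx)) (hCz x (o2_le _ hx))
    have h2 : i = j := by
      apply code_F b i j
      intro v
      apply hE
      rw [phi_add hg, ← h1.conj_phi hg]
      have h3 := inv_mem (hVQ (phi (zz z) v) (phi_mem hp v) x hx)
      have e : (phi (zz z) v * x * (phi (zz z) v)⁻¹ * x⁻¹)⁻¹ = x * phi (zz z) v * x⁻¹ * (phi (zz z) v)⁻¹ := by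
        group
      rw [e, phi_inv hg] at h3
      exact h3
    rw [← h2] at h1
    exact ⟨b, i, h1⟩
  -- `Q` centralises `E`
  have hQE : ∀ x ∈ o2 C, ∀ e ∈ EE (S : Subgroup G) P, x * e = e * x := by
    intro x hx e he
    obtain ⟨b, i, h1⟩ := hQact x hx
    obtain ⟨v, rfl⟩ := exists_phi hp he.1
    have h2 : lin (act8 b i i) v = v := by
      rcases hE v he with rfl | rfl | rfl | rfl
      · cases b <;> cases i <;> decide
      · exact (code_fix b i).1
      · exact (code_fix b i).2.1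
      · exact (code_fix b i).2.2
    have h3 := h1.conj_phi hg v
    rw [h2] at h3
    calc x * phi (zz z) v = x * phi (zz z) v * x⁻¹ * x := by group
      _ = _ := by rw [h3]
  set Y := YY C (EE (S : Subgroup G) P) with hY
  have hnY : C ≤ normalizer (Y : Set G) := YY_norm _ _
  have hEY : EE (S : Subgroup G) P ≤ Y := le_YY _ _
  have hEQ : EE (S : Subgroup G) P ≤ o2 C := by rw [hEE]; exact inf_le_right
  have hYQ : Y ≤ o2 C := by
    rw [hY, YY, closure_le]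
    rintro _ ⟨c, hc, e, he, rfl⟩
    exact norm_conj hnQ hc (hEQ he)
  have hQY : ∀ x ∈ o2 C, ∀ y ∈ Y, x * y = y * x := by
    intro x hx y hy
    have h1 : Y ≤ centralizer {x} := by
      rw [hY, YY, closure_le]
      rintro _ ⟨c, hc, e, he, rfl⟩
      refine mem_centralizer_singleton_iff.2 ?_
      have h2 := hQE _ (norm_conj hnQ (inv_mem hc) hx) e he
      calc c * e * c⁻¹ * x = c * (e * (c⁻¹ * x * c⁻¹⁻¹)) * c⁻¹ := by group
        _ = x * (c * e * c⁻¹) := by rw [← h2]; group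
    exact (mem_centralizer_singleton_iff.1 (h1 hy)).symm
  have hz00Y : z 0 0 ∈ Y := by
    rw [← hzz]
    exact hEY (z0_mem h hz)
  have h01 : zz z (0, 1) ∉ o2 C := by
    intro hm
    have h1 : phi (zz z) (vec (0, 1)) ∈ EE (S : Subgroup G) P := by
      rw [phi_vec hg, hEE]
      exact ⟨hp.mem _, hm⟩
    rcases hE _ h1 with h2 | h2 | h2 | h2
    · exact absurd h2 (by decide)
    · exact absurd h2 (by decide)
    · exact absurd h2 (by decide)
    · exact absurd h2 (by decide)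
  -- (2)
  have hYs : ∃ y ∈ Y, ∃ i, Has (zz z) y (act8 true i i) := by
    by_contra hcon
    push Not at hcon
    apply h01
    have hQQ : DZeroPts.QQ (z 0 0) = o2 C := by rw [DZeroPts.QQ, DZeroPts.CC_eq]
    rw [← hQQ]
    refine chain3 (x := z 0 0) (R := Y) (Z := zpowers (z 0 0)) ?_ ?_ ?_ ?_ ?_ ?_ ?_ ?_ ?_
    · intro g hg1 hg2
      rw [hQQ] at hg2 ⊢
      exact hchar2 g (mem_centralizer_singleton_iff.2 hg1) hg2
    · rw [hQQ]; exact hYQ
    · exact (zpowers_le).2 hz00Y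
    · intro c hc y hy
      exact norm_conj hnY (mem_centralizer_singleton_iff.2 hc) hy
    · rintro c hc _ ⟨n, rfl⟩
      have h1 : Commute c (z 0 0) := hc
      change c * z 0 0 ^ n * c⁻¹ ∈ _
      rw [(h1.zpow_right n).eq, mul_inv_cancel_right]
      exact ⟨n, rfl⟩
    · exact hCz _ (hVC (hp.mem _))
    · intro q hq
      rw [hQQ] at hq
      exact hEY (hVQ _ (hp.mem _) q hq)
    · intro y hy
      obtain ⟨b, i, h1⟩ := hQact y (hYQ hy)
      have hb : b = false := by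
        by_contra hb
        rw [Bool.not_eq_false] at hb
        rw [hb] at h1
        exact hcon y hy i h1
      rw [hb] at h1
      have h2 := h1.conj_phi hg (vec (0, 1))
      rw [phi_vec hg] at h2
      have e : zz z (0, 1) * y * (zz z (0, 1))⁻¹ * y⁻¹ = zz z (0, 1) * (y * zz z (0, 1) * y⁻¹)⁻¹ := by group
      rw [e, h2]
      rcases code_01 i with h3 | h3
      · rw [h3, phi_vec hg, mul_inv_cancel]; exact one_mem _
      · rw [h3, phi_add hg, phi_vec hg, hzz]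
        have e2 : zz z (0, 1) * (z 0 0 * zz z (0, 1))⁻¹ = (z 0 0)⁻¹ := by group
        rw [e2]
        exact inv_mem (mem_zpowers _)
    · rintro _ ⟨n, rfl⟩
      have h1 : Commute (zz z (0, 1)) (z 0 0) := hg.comm (0, 1) (0, 0)
      exact h1.zpow_right n
  have hYs2 : ∀ i, ∃ y ∈ Y, Has (zz z) y (act8 true i i) := by
    obtain ⟨y, hy, i, h1⟩ := hYs
    obtain ⟨r, hr, h2⟩ := exists_S h hz false true false
    have h3 : Has (zz z) (r * y * r⁻¹) (act8 true (!i) (!i)) := by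
      intro p
      have e : r * y * r⁻¹ * zz z p * (r * y * r⁻¹)⁻¹ = r * (y * (r⁻¹ * zz z p * r) * y⁻¹) * r⁻¹ := by group
      have e2 : r⁻¹ * zz z p * r = zz z (act8 false true false p) := by
        have h4 := h2 (act8 false true false p)
        rw [code_inv] at h4
        rw [← h4]; group
      rw [e, e2, h1, h2, code_conj]
    intro k
    by_cases hk : k = i
    · rw [hk]; exact ⟨y, hy, h1⟩
    · have hk' : k = !i := by
        cases k <;> cases i <;> simp_all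
      rw [hk']
      exact ⟨_, norm_conj hnY (hSC hr) hy, h3⟩
  -- the data
  have hflip : ∀ {v ε : B4} {y : G} {b i : Bool}, Has (zz z) y (act8 b i i) → lin (act8 b i i) v = add ε v →
      phi (zz z) v * y * (phi (zz z) v)⁻¹ = phi (zz z) ε * y := by
    intro v ε y b i h1 h2
    have h3 := h1.conj_phi hg v
    rw [h2, phi_add hg] at h3
    have h4 : y * phi (zz z) v = phi (zz z) ε * phi (zz z) v * y := by
      rw [← h3]; group
    calc phi (zz z) v * y * (phi (zz z) v)⁻¹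
        = (phi (zz z) ε * phi (zz z) ε) * phi (zz z) v * y * (phi (zz z) v)⁻¹ := by
          rw [phi_sq hg, one_mul]
      _ = phi (zz z) ε * (phi (zz z) ε * phi (zz z) v * y) * (phi (zz z) v)⁻¹ := by group
      _ = phi (zz z) ε * y := by rw [← h4]; group
  have hfix : ∀ {v : B4} {y : G} {b i : Bool}, Has (zz z) y (act8 b i i) → lin (act8 b i i) v = v →
      phi (zz z) v * y * (phi (zz z) v)⁻¹ = y := by
    intro v y b i h1 h2
    have h3 := h1.conj_phi hg v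
    rw [h2] at h3
    have h4 : y * phi (zz z) v = phi (zz z) v * y := by
      nth_rw 2 [← h3]; group
    rw [← h4, mul_inv_cancel_right]
  have hze : phi (zz z) e1 = z 0 0 * phi (zz z) e0 := by
    rw [← e0_e1, phi_add hg, hzz]
  have hw : phi (zz z) (vec (1, 1)) * phi (zz z) (vec (2, 1)) = zz z (0, 1) := by
    rw [← phi_add hg, ← phi_vec hg (0, 1)]
    congr 1
  have D : IdxD C (o2 C) Y (z 0 0) (phi (zz z) e0) (phi (zz z) (vec (1, 1))) (phi (zz z) (vec (2, 1))) :=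
    { Qo2 := rfl
      char2 := hchar2
      Cz := hCz
      z2 := hz.sq 0 0
      z1 := hz.ne_one 0 0
      zY := hz00Y
      YQ := hYQ
      QY := hQY
      nY := hnY
      v1C := hVC (phi_mem hp _)
      v2C := hVC (phi_mem hp _)
      sq1 := phi_sq hg _
      sq2 := phi_sq hg _
      cv := phi_comm hg _ _
      QV1 := fun x hx => hEY (hVQ _ (phi_mem hp _) x hx)
      QV2 := fun x hx => hEY (hVQ _ (phi_mem hp _) x hx)
      e0Y := hEY (e0_mem h hz)
      e02 := phi_sq hg _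
      ev1 := phi_comm hg _ _
      ev2 := phi_comm hg _ _
      t1 := by
        intro y hy
        obtain ⟨b, i, h1⟩ := hQact y (hYQ hy)
        rcases code_11 b i with h2 | h2
        · left; exact hfix h1 h2
        · right; rw [← hze]; exact hflip h1 h2
      t2 := by
        intro y hy
        obtain ⟨b, i, h1⟩ := hQact y (hYQ hy)
        rcases code_21 b i with h2 | h2
        · left; exact hfix h1 h2
        · right; exact hflip h1 h2
      y1 := by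
        obtain ⟨y, hy, h1⟩ := hYs2 true
        refine ⟨y, hy, ?_, hfix h1 code_s'.2⟩
        rw [← hze]; exact hflip h1 code_s'.1
      y2 := by
        obtain ⟨y, hy, h1⟩ := hYs2 false
        exact ⟨y, hy, hfix h1 code_s.1, hflip h1 code_s.2⟩ }
  apply D.false
  rw [hw]
  exact h01

end main

/-- **Type (γ): `|V / E| = 2`.** -/
theorem plusIdx : End.PlusIdx.{u} := by
  intro G _ _ S P h z hz
  rcases two_cases h hz with h1 | h1
  · exact h1
  · exact (false_of h hz h1).elim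

end Cfsg.Agent.Omega.NOne.AG.Idx

end

section


/-!
# The leaf `EndPlus2` of N1 (D0ag (γ)): closed
-/

set_option autoImplicit false

namespace Cfsg.Agent.Omega.NOne.AG.PlusThm

universe u

/-- **`EndPlus2`.** -/
theorem endPlus2 : NO1.EndPlus2.{u} := End.endPlus2 Idx.plusIdx

end Cfsg.Agent.Omega.NOne.AG.PlusThm

end

end
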